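import Cfsg.Agent.Lib.Extra.CoOneUniq.QAuto
import Cfsg.Agent.Lib.Solv.GaschutzAbelian

/-!
# An isomorphism of a parabolic extends to the centralizer

The pairs of elements of two involution centralizers that act alike on the extraspecial subgroups
form a double cover of either; an isomorphism of subgroups of odd index containing the extraspecial
subgroups splits it there, so by Gaschütz it splits.
-/

set_option autoImplicit false
set_option linter.style.haveILetI false
set_option linter.unusedSectionVars false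

namespace Cfsg.Lib.Extra.CoOneUniq

open Cfsg Cfsg.Lib.Extra.Wide

variable {G H : Type*} [Group G] [Group H] [Finite G] [Finite H] {ι : Type} [Fintype ι] [DecidableEq ι]
  (D : Data G ι) (E : Data H ι)

/-- Pairs of elements of the centralizers with the same action. -/
def actPairs (f : ↥D.Q →* H) :
    Subgroup (↥(Subgroup.centralizer ({D.z} : Set G)) × ↥(Subgroup.centralizer ({E.z} : Set H))) where
  carrier := {p | ∀ a : ↥D.Q, f ⟨(p.1 : G) * a * (p.1 : G)⁻¹,
    conj_mem_Q D (Subgroup.mem_centralizer_singleton_iff.1 p.1.2) a.2⟩ = (p.2 : H) * f a * (p.2 : H)⁻¹}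
  one_mem' := fun a => by simp
  mul_mem' := fun {p p'} hp hp' a => by
    refine Eq.trans ?_ ((hp ⟨_, conj_mem_Q D (Subgroup.mem_centralizer_singleton_iff.1 p'.1.2) a.2⟩).trans ?_)
    · refine congrArg f (Subtype.ext ?_)
      simp [mul_assoc]
    · rw [hp' a]
      simp [mul_assoc]
  inv_mem' := fun {p} hp a => by
    have h := hp ⟨(p.1 : G)⁻¹ * a * (p.1 : G),
      by simpa using conj_mem_Q D (Subgroup.mem_centralizer_singleton_iff.1 (inv_mem p.1.2)) a.2⟩
    have e : (⟨(p.1 : G) * ((p.1 : G)⁻¹ * a * (p.1 : G)) * (p.1 : G)⁻¹,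
        conj_mem_Q D (Subgroup.mem_centralizer_singleton_iff.1 p.1.2)
          (by simpa using conj_mem_Q D (Subgroup.mem_centralizer_singleton_iff.1 (inv_mem p.1.2)) a.2)⟩ : ↥D.Q)
        = a := Subtype.ext (by simp [mul_assoc])
    rw [e] at h
    rw [h]
    simp [mul_assoc]

/-- The extension. -/
theorem exists_extend (P : Subgroup G) (hPz : ∀ p ∈ P, Commute p D.z) (hQP : D.Q ≤ P)
    (fP : ↥P →* H) (hinj : Function.Injective fP)
    (hfQ : (fP.comp (Subgroup.inclusion hQP)).range = E.Q)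
    (hodd : Odd (P.subgroupOf (Subgroup.centralizer ({D.z} : Set G))).index)
    (hperf : ∀ l : ↥P →* Multiplicative (ZMod 2), (∀ a : ↥P, (a : G) ∈ D.Q → l a = 1) → l = 1) :
    ∃ ψ : ↥(Subgroup.centralizer ({D.z} : Set G)) ≃* ↥(Subgroup.centralizer ({E.z} : Set H)),
      ∀ (p : ↥P), ((ψ ⟨p, Subgroup.mem_centralizer_singleton_iff.2 (hPz p p.2)⟩ :
        ↥(Subgroup.centralizer ({E.z} : Set H))) : H) = fP p := by
  classical
  set C := Subgroup.centralizer ({D.z} : Set G) with hC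
  set C' := Subgroup.centralizer ({E.z} : Set H) with hC'
  set f := fP.comp (Subgroup.inclusion hQP) with hf
  have hfinj : Function.Injective f := hinj.comp (Subgroup.inclusion_injective hQP)
  obtain ⟨hz, T, hTq, hT⟩ := exists_lin D E f hfinj hfQ
  have hfz : ∀ p : ↥P, Commute (fP p) E.z := fun p => by
    rw [← hz]
    exact (show Commute p (Subgroup.inclusion hQP ⟨D.z, D.ctx.mem⟩) from Subtype.ext (hPz p p.2).eq).map fP
  have hzC' : E.z ∈ C' := Subgroup.mem_centralizer_singleton_iff.2 rfl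
  let F := actPairs D E f
  let π : ↥F →* ↥C := (MonoidHom.fst ↥C ↥C').comp F.subtype
  have hπ : Function.Surjective π := fun c => by
    obtain ⟨c', hc', e⟩ := exists_partner D E f hfinj hfQ (Subgroup.mem_centralizer_singleton_iff.1 c.2)
    exact ⟨⟨(c, ⟨c', Subgroup.mem_centralizer_singleton_iff.2 hc'⟩), fun a => e a⟩, rfl⟩
  -- pairs from `P`
  let iP : ↥P →* ↥C := Subgroup.inclusion fun p hp => Subgroup.mem_centralizer_singleton_iff.2 (hPz p hp)
  let jP : ↥P →* ↥C' := MonoidHom.mk' (fun p => ⟨fP p, Subgroup.mem_centralizer_singleton_iff.2 (hfz p)⟩)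
    fun a b => Subtype.ext (map_mul fP a b)
  have hgP : ∀ p : ↥P, (iP p, jP p) ∈ F := fun p a => by
    show fP (Subgroup.inclusion hQP _) = fP p * fP (Subgroup.inclusion hQP a) * (fP p)⁻¹
    rw [← map_inv, ← map_mul, ← map_mul]
    rfl
  let γ : ↥P →* ↥F := ((iP.prod jP).codRestrict F hgP)
  -- the graph on `Q`
  set N := (D.Q.subgroupOf P).map γ with hN
  have hmemN : ∀ {x : ↥F}, x ∈ N ↔ ∃ a : ↥D.Q, γ (Subgroup.inclusion hQP a) = x := fun {x} => by
    constructor
    · rintro ⟨p, hp, rfl⟩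
      exact ⟨⟨p, hp⟩, rfl⟩
    · rintro ⟨a, rfl⟩
      exact ⟨_, a.2, rfl⟩
  haveI hNn : N.Normal := ⟨fun x hx y => by
    obtain ⟨a, rfl⟩ := hmemN.1 hx
    refine hmemN.2 ⟨⟨_, conj_mem_Q D (Subgroup.mem_centralizer_singleton_iff.1 (y.1.1).2) a.2⟩, ?_⟩
    refine Subtype.ext (Prod.ext (Subtype.ext rfl) (Subtype.ext ?_))
    exact y.2 a⟩
  let π₀ := QuotientGroup.mk' N
  have hπ₀ : Function.Surjective π₀ := QuotientGroup.mk'_surjective N
  -- the kernel of the first projection
  have hker : ∀ x : ↥F, π x = 1 → x = 1 ∨ ((x.1.1 : G) = 1 ∧ (x.1.2 : H) = E.z) := by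
    intro x hx
    have h1 : (x.1.1 : G) = 1 := congrArg Subtype.val hx
    have hcomm : ∀ b ∈ E.Q, Commute (x.1.2 : H) b := by
      intro b hb
      rw [← hfQ] at hb
      obtain ⟨a, rfl⟩ := hb
      have h := x.2 a
      refine mul_inv_eq_iff_eq_mul.1 ?_
      rw [← h]
      exact congrArg f (Subtype.ext (by simp [h1]))
    rcases E.ctx.cent _ hcomm with e | e
    · exact Or.inl (Subtype.ext (Prod.ext hx (Subtype.ext e)))
    · exact Or.inr ⟨h1, e⟩
  set K := π.ker.map π₀ with hK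
  set U := ((P.subgroupOf C).comap π).map π₀ with hU
  set A := γ.range.map π₀ with hA
  haveI : K.Normal := Subgroup.Normal.map inferInstance _ hπ₀
  have hKcard : Nat.card K ∣ 2 := by
    refine ((π.ker).card_map_dvd π₀).trans ?_
    have hzm : ((1 : ↥C), (⟨E.z, hzC'⟩ : ↥C')) ∈ F := fun a => by
      have hb : f a ∈ E.Q := hfQ ▸ ⟨a, rfl⟩
      show f _ = E.z * f a * E.z⁻¹
      rw [(E.ctx.central _ hb).eq, mul_inv_cancel_right]
      exact congrArg f (Subtype.ext (by simp))
    let z1 : ↥F := ⟨_, hzm⟩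
    have hle : π.ker ≤ Subgroup.zpowers z1 := fun x hx => by
      rcases hker x hx with e | ⟨-, e⟩
      · rw [e]; exact one_mem _
      · rw [show x = z1 from Subtype.ext (Prod.ext hx (Subtype.ext e))]
        exact Subgroup.mem_zpowers z1
    refine (Subgroup.card_dvd_of_le hle).trans ?_
    rw [Nat.card_zpowers]
    refine orderOf_dvd_of_pow_eq_one (Subtype.ext (Prod.ext (one_pow 2) (Subtype.ext ?_)))
    show E.z ^ 2 = 1
    rw [pow_two, E.ctx.sq_z]
  haveI : IsMulCommutative K := by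
    refine ⟨⟨fun a b => ?_⟩⟩
    rcases (Nat.dvd_prime Nat.prime_two).1 hKcard with h | h
    · haveI := (Nat.card_eq_one_iff_unique.1 h).1
      exact Subsingleton.elim _ _
    · haveI : Fact (Nat.Prime 2) := ⟨Nat.prime_two⟩
      haveI := isCyclic_of_prime_card h
      exact IsCyclic.commGroup.mul_comm a b
  have hmemU : ∀ p : ↥P, γ p ∈ (P.subgroupOf C).comap π := fun p => p.2
  have hKU : K ≤ U := Subgroup.map_mono fun x hx => by
    show ((π x : ↥C) : G) ∈ P
    rw [MonoidHom.mem_ker.1 hx]; exact one_mem P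
  have hindex : U.index = (P.subgroupOf C).index := by
    rw [hU, Subgroup.index_map_eq _ hπ₀, Subgroup.index_comap_of_surjective _ hπ]
    rw [QuotientGroup.ker_mk']
    intro x hx
    obtain ⟨a, rfl⟩ := hmemN.1 hx
    exact hmemU _
  have hAU : A ≤ U := Subgroup.map_mono (by rintro _ ⟨p, rfl⟩; exact hmemU p)
  have hAK : A ⊓ K = ⊥ := by
    refine (Subgroup.eq_bot_iff_forall _).2 fun x hx => ?_
    obtain ⟨⟨_, ⟨p, rfl⟩, rfl⟩, ⟨y, hy, e⟩⟩ := hx
    obtain ⟨a, ha⟩ := hmemN.1 (QuotientGroup.eq.1 e)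
    rcases hker y hy with rfl | ⟨h1, h2⟩
    · exact e.symm.trans (map_one π₀)
    · exfalso
      rw [eq_inv_mul_iff_mul_eq] at ha
      have e1 := congrArg (fun t : ↥F => (t.1.1 : G)) ha
      have e2 := congrArg (fun t : ↥F => (t.1.2 : H)) ha
      change (y.1.1 : G) * a = p at e1
      change (y.1.2 : H) * fP (Subgroup.inclusion hQP a) = fP p at e2
      rw [h1, one_mul] at e1
      rw [h2, show p = Subgroup.inclusion hQP a from Subtype.ext e1.symm] at e2
      exact E.ctx.ne_one (mul_eq_right.1 e2)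
  have hKA : K ⊔ A = U := by
    refine le_antisymm (sup_le hKU hAU) ?_
    rintro _ ⟨x, hx, rfl⟩
    have hk : x * (γ ⟨(π x : G), hx⟩)⁻¹ ∈ π.ker := by
      rw [MonoidHom.mem_ker, map_mul, map_inv, mul_inv_eq_one]
      exact Subtype.ext rfl
    rw [show x = x * (γ ⟨(π x : G), hx⟩)⁻¹ * γ ⟨(π x : G), hx⟩ by group, map_mul]
    exact mul_mem (Subgroup.mem_sup_left (Subgroup.mem_map_of_mem π₀ hk))
      (Subgroup.mem_sup_right (Subgroup.mem_map_of_mem π₀ ⟨_, rfl⟩))
  have hcop : (Nat.card K).Coprime U.index := by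
    rw [hindex]
    exact Nat.Coprime.coprime_dvd_left hKcard (Nat.coprime_two_left.2 hodd)
  obtain ⟨Hc, hH⟩ := Cfsg.Lib.GaschutzAbelian.exists_complement K U hKU hcop A hAU hAK hKA
  set Γ := Hc.comap π₀ with hΓ
  have hNΓ : N ≤ Γ := fun x hx => by
    show (x : ↥F ⧸ N) ∈ Hc
    rw [(QuotientGroup.eq_one_iff x).2 hx]; exact one_mem _
  have hinjΓ : ∀ x ∈ Γ, π x = 1 → x = 1 := by
    intro x hx hx1
    rcases hker x hx1 with e | ⟨h1, h2⟩
    · exact e
    exfalso
    have hxN : x ∈ N := (QuotientGroup.eq_one_iff x).1 (by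
      have := hH.disjoint.le_bot (Subgroup.mem_inf.2 ⟨Subgroup.mem_map_of_mem π₀ hx1, hx⟩)
      exact Subgroup.mem_bot.1 this)
    obtain ⟨a, rfl⟩ := hmemN.1 hxN
    have ha : (a : G) = 1 := h1
    change fP (Subgroup.inclusion hQP a) = E.z at h2
    rw [show a = 1 from Subtype.ext ha, map_one, map_one] at h2
    exact E.ctx.ne_one h2.symm
  have hsurjΓ : ∀ c : ↥C, ∃ x ∈ Γ, π x = c := by
    intro c
    obtain ⟨x, rfl⟩ := hπ c
    obtain ⟨⟨⟨k, hk⟩, ⟨h, hh⟩⟩, e⟩ := hH.2 (π₀ x)
    obtain ⟨y, hy, rfl⟩ := hk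
    refine ⟨y⁻¹ * x, ?_, by rw [map_mul, map_inv, MonoidHom.mem_ker.1 hy, inv_one, one_mul]⟩
    show π₀ (y⁻¹ * x) ∈ Hc
    rw [map_mul, map_inv, ← e]
    simpa using hh
  let π₁ : ↥Γ →* ↥C := π.comp Γ.subtype
  have hπ₁ : Function.Bijective π₁ := by
    refine ⟨(injective_iff_map_eq_one π₁).2 fun x hx => Subtype.ext (hinjΓ x x.2 hx), fun c => ?_⟩
    obtain ⟨x, hx, e⟩ := hsurjΓ c
    exact ⟨⟨x, hx⟩, e⟩
  let θ : ↥C →* ↥C' :=
    ((MonoidHom.snd ↥C ↥C').comp (F.subtype.comp Γ.subtype)).comp (MulEquiv.ofBijective π₁ hπ₁).symm.toMonoidHom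
  have hθF : ∀ c, (c, θ c) ∈ F := fun c => by
    set x := (MulEquiv.ofBijective π₁ hπ₁).symm c with hx
    have h1 : π₁ x = c := (MulEquiv.ofBijective π₁ hπ₁).apply_symm_apply c
    have h2 : ((x : ↥F) : ↥C × ↥C') = (c, θ c) := Prod.ext h1 rfl
    exact h2 ▸ (x : ↥F).2
  have hθpair : ∀ {x : ↥F}, x ∈ Γ → θ x.1.1 = x.1.2 := fun {x} hx => by
    have h : (MulEquiv.ofBijective π₁ hπ₁).symm (π₁ ⟨x, hx⟩) = ⟨x, hx⟩ :=
      (MulEquiv.ofBijective π₁ hπ₁).symm_apply_apply _
    show ((((MulEquiv.ofBijective π₁ hπ₁).symm x.1.1 : ↥Γ) : ↥F).1).2 = _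
    rw [show x.1.1 = π₁ ⟨x, hx⟩ from rfl, h]
  have hθQ : ∀ a : ↥D.Q, θ (iP (Subgroup.inclusion hQP a)) = jP (Subgroup.inclusion hQP a) := fun a =>
    hθpair (hNΓ (hmemN.2 ⟨a, rfl⟩))
  -- agreement on `P`
  have hθP : ∀ p : ↥P, θ (iP p) = jP p := by
    let d : ↥P → ↥C' := fun p => θ (iP p) * (jP p)⁻¹
    have hd : ∀ p, d p = 1 ∨ (d p : H) = E.z := fun p => by
      have hm : (1, d p) ∈ F := by
        have := mul_mem (hθF (iP p)) (inv_mem (hgP p))
        simpa [d] using this
      rcases hker ⟨_, hm⟩ rfl with e | ⟨-, e⟩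
      · exact Or.inl (congrArg (fun t : ↥F => t.1.2) e)
      · exact Or.inr e
    have hzcen : ∀ p : ↥P, ∀ u : ↥C', Commute (d p) u := fun p u => by
      rcases hd p with e | e
      · rw [e]; exact Commute.one_left u
      · exact Subtype.ext (by
          show (d p : H) * (u : H) = (u : H) * (d p : H)
          rw [e]
          exact (Subgroup.mem_centralizer_singleton_iff.1 u.2).symm)
    let l : ↥P →* Multiplicative (ZMod 2) := MonoidHom.mk'
      (fun p => if d p = 1 then 1 else Multiplicative.ofAdd 1) fun a b => by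
        have hab : d (a * b) = d a * d b := by
          show θ (iP (a * b)) * (jP (a * b))⁻¹ = θ (iP a) * (jP a)⁻¹ * d b
          rw [map_mul, map_mul, map_mul, mul_assoc, mul_assoc, mul_inv_rev, ← (hzcen b (jP a)⁻¹).eq]
          simp only [d, mul_assoc]
        have key : ∀ u v : ↥C', (u = 1 ∨ (u : H) = E.z) → (v = 1 ∨ (v : H) = E.z) →
            (if u * v = 1 then (1 : Multiplicative (ZMod 2)) else Multiplicative.ofAdd 1) =
              (if u = 1 then (1 : Multiplicative (ZMod 2)) else Multiplicative.ofAdd 1) *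
                (if v = 1 then (1 : Multiplicative (ZMod 2)) else Multiplicative.ofAdd 1) := by
          intro u v hu hv
          rcases hu with rfl | hu
          · simp
          rcases hv with rfl | hv
          · simp
          rw [if_pos (Subtype.ext (by rw [Subgroup.coe_mul, hu, hv, E.ctx.sq_z]; rfl)),
            if_neg (fun h => E.ctx.ne_one (by rw [← hu, h]; rfl)),
            if_neg (fun h => E.ctx.ne_one (by rw [← hv, h]; rfl))]
          decide
        show (if d (a * b) = 1 then _ else _) = _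
        rw [hab]
        exact key _ _ (hd a) (hd b)
    have hl := hperf l fun a ha => by
      have h := hθQ ⟨a, ha⟩
      show (if d a = 1 then _ else _) = _
      rw [if_pos]
      show θ (iP a) * (jP a)⁻¹ = 1
      rw [show a = Subgroup.inclusion hQP ⟨a, ha⟩ from rfl, h, mul_inv_cancel]
    intro p
    have h := DFunLike.congr_fun hl p
    by_contra hne
    have h' : (if d p = 1 then (1 : Multiplicative (ZMod 2)) else Multiplicative.ofAdd 1) = 1 := h
    rw [if_neg fun e => hne (mul_inv_eq_one.1 e)] at h'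
    exact absurd h' (by decide)
  have hθinj : Function.Injective θ := by
    refine (injective_iff_map_eq_one θ).2 fun c hc => ?_
    have hF := hθF c
    have hcomm : ∀ a ∈ D.Q, Commute (c : G) a := by
      intro a ha
      have h := hF ⟨a, ha⟩
      simp only [hc, OneMemClass.coe_one, one_mul, inv_one, mul_one] at h
      exact mul_inv_eq_iff_eq_mul.1 (congrArg Subtype.val (hfinj h))
    rcases D.ctx.cent _ hcomm with e | e
    · exact Subtype.ext e
    · exfalso
      have h := hθQ ⟨D.z, D.ctx.mem⟩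
      rw [show iP (Subgroup.inclusion hQP ⟨D.z, D.ctx.mem⟩) = c from Subtype.ext e.symm, hc] at h
      exact E.ctx.ne_one (by rw [← hz]; exact (congrArg Subtype.val h).symm)
  have hθsurj : Function.Surjective θ := by
    intro c'
    have hc' : Commute (c' : H) E.z := Subgroup.mem_centralizer_singleton_iff.1 c'.2
    have hT' : ∀ v, D.qf ((T⁻¹ : GL ι (ZMod 2)).val.mulVec v) = E.qf v := fun v => by
      rw [← hTq, Cfsg.Lib.Linear.Orth.act_inv]
    obtain ⟨c, hcz, hce⟩ := D.act_surj _ (omega_conj T⁻¹ hT' (E.act_mem c' hc'))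
    rw [inv_inv] at hce
    set cc : ↥C := ⟨c, Subgroup.mem_centralizer_singleton_iff.2 hcz⟩ with hcc
    have hcθ : Commute ((θ cc : ↥C') : H) E.z := Subgroup.mem_centralizer_singleton_iff.1 (θ cc).2
    have hactθ : E.act (θ cc : H) = E.act (c' : H) := by
      refine Cfsg.Lib.Linear.Orth.gl_ext fun v => ?_
      obtain ⟨b, hb, rfl⟩ := E.cls_surj v
      rw [← hfQ] at hb
      obtain ⟨a, rfl⟩ := hb
      have h := hθF cc a
      rw [← E.act_cls _ hcθ (f a) (hfQ ▸ ⟨a, rfl⟩), ← h, hT, hT,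
        show D.cls (c * (a : G) * c⁻¹) = (D.act c).val.mulVec (D.cls (a : G)) from D.act_cls c hcz a a.2,
        hce, Cfsg.Lib.Linear.Orth.mul_act, Cfsg.Lib.Linear.Orth.mul_act,
        Cfsg.Lib.Linear.Orth.act_inv]
    have hq : ((θ cc : ↥C') : H)⁻¹ * c' ∈ E.Q := by
      refine (E.act_ker _ (hcθ.inv_left.mul_left hc')).1 ?_
      rw [E.act_mul _ _ hcθ.inv_left hc', E.act_inv hcθ, hactθ, inv_mul_cancel]
    obtain ⟨a, ha⟩ : ∃ a, f a = ((θ cc : ↥C') : H)⁻¹ * c' := by rw [← hfQ] at hq; exact hq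
    refine ⟨cc * iP (Subgroup.inclusion hQP a), Subtype.ext ?_⟩
    rw [map_mul, hθQ, Subgroup.coe_mul]
    show ((θ cc : ↥C') : H) * f a = c'
    rw [ha, mul_inv_cancel_left]
  exact ⟨MulEquiv.ofBijective θ ⟨hθinj, hθsurj⟩, fun p => congrArg Subtype.val (hθP p)⟩

end Cfsg.Lib.Extra.CoOneUniq
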