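import Cfsg.Agent.Lib.Extra.CoOneUniq.Norm
import Cfsg.Agent.Lib.Extra.Wide.Numbers
import Mathlib.GroupTheory.Sylow

/-!
# The exchange of two commuting central involutions

An isomorphism of the centralizers of the central involutions agreeing with a homomorphism on the
normalizer of the abelian subgroup respects the exchange of `z` with a second point `t`: the
discrepancy is a homomorphism of `C(z) ⊓ C(t)` into the four group which kills a Sylow 2-subgroup.
-/

set_option autoImplicit false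
set_option linter.style.haveILetI false
set_option linter.unusedSectionVars false

namespace Cfsg.Lib.CoOneUniq

open Cfsg Module Cfsg.Lib.Linear.Orth Cfsg.Lib.Extra.Wide Cfsg.Lib.Concrete
open Cfsg.Lib.CoOneLocal
open scoped Matrix

variable {G : Type*} [Group G] [Finite G] {D : Data G I8} {t : G}

/-- What centralizes `z`, `t` and the hyperplane section of `Q` lies in the four group. -/
theorem inA_of_centralizes (hp : D.Point t) {g : G} (hgz : Commute g D.z)
    (h : ∀ q, D.InCQ t q → Commute g q) : D.InA t g := by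
  obtain ⟨a, -, haw, -⟩ := hp.exists_mover
  set v0 := D.cls t
  set w := D.cls a
  have key : ∀ d : V8, (∀ p, D.B v0 p = 0 → D.B d p = 0) → d = D.B d w • v0 := by
    intro d hd
    refine vadd_eq_zero (D.space.nondeg _ fun x => ?_)
    have hpx : D.B v0 (x + D.B v0 x • w) = 0 := by
      rw [map_add, map_smul, haw, smul_eq_mul, mul_one]
      exact (show ∀ x : ZMod 2, x + x = 0 by decide) _
    have h1 := hd _ hpx
    rw [map_add, map_smul, smul_eq_mul] at h1
    simp only [map_add, map_smul, smul_eq_mul]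
    rw [D.space.symm x d, D.space.symm x v0, mul_comm]
    exact h1
  have hfix : ∀ p, D.B v0 p = 0 → (D.act g).val *ᵥ p = p := by
    intro p hpp
    obtain ⟨q, hq, rfl⟩ := hp.exists_inCQ hpp
    rw [← D.act_cls g hgz q hq.1, (h q hq).eq, mul_inv_cancel_right]
  have hiso := D.act_iso hgz
  have hw : (D.act g).val *ᵥ w = w := by
    have hd := key ((D.act g).val *ᵥ w + w) fun p hpp => by
      rw [map_add, LinearMap.add_apply]
      conv_lhs => enter [1, 2]; rw [← hfix p hpp]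
      rw [D.space.B_act hiso]
      exact (show ∀ x : ZMod 2, x + x = 0 by decide) _
    rcases bit (D.B ((D.act g).val *ᵥ w + w) w) with e | e <;> rw [e] at hd
    · rw [zero_smul] at hd
      exact vadd_eq_zero hd
    · exfalso
      rw [one_smul] at hd
      have he : (D.act g).val *ᵥ w = v0 + w := by rw [← hd, add_assoc, vadd_self, add_zero]
      have hqw := mem_iso.1 hiso w
      rw [he, D.space.add, hp.cls_sing, zero_add, haw] at hqw
      exact one_ne_zero (add_eq_left.1 hqw)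
  have hact : D.act g = 1 := gl_ext fun x => by
    have hpx : D.B v0 (x + D.B v0 x • w) = 0 := by
      rw [map_add, map_smul, haw, smul_eq_mul, mul_one]
      exact (show ∀ x : ZMod 2, x + x = 0 by decide) _
    have h1 := hfix _ hpx
    rw [Matrix.mulVec_add, Matrix.mulVec_smul, hw] at h1
    rw [Units.val_one, Matrix.one_mulVec]
    exact add_right_cancel h1
  have hgQ := (D.act_ker g hgz).1 hact
  exact hp.inA_of_cls hgQ (key (D.cls g) fun p hpp => by
    obtain ⟨q, hq, rfl⟩ := hp.exists_inCQ hpp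
    exact (D.cls_comm g hgQ q hq.1).1 (h q hq))

theorem inA_sq (hp : D.Point t) {a : G} (ha : D.InA t a) : a * a = 1 := by
  rcases ha with rfl | rfl | rfl | rfl
  exacts [one_mul 1, D.ctx.sq_z, hp.sq, hp.z_mul.sq]

theorem inA_commute (hp : D.Point t) {a c : G} (ha : D.InA t a) (hcz : Commute c D.z)
    (hct : Commute c t) : Commute a c := by
  rcases ha with rfl | rfl | rfl | rfl
  exacts [Commute.one_left _, hcz.symm, hct.symm, hcz.symm.mul_left hct.symm]

/-- The order of the centralizer of `z`. -/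
theorem card_centralizer (hq : D.qf = Cfsg.quadFormPlus 4 (ZMod 2)) (hp : D.Point t) :
    Nat.card ↥(Subgroup.centralizer ({D.z} : Set G)) = 2 ^ 9 * 174182400 := by
  let C := Subgroup.centralizer ({D.z} : Set G)
  have hC : ∀ c : ↥C, Commute (c : G) D.z := fun c => Subgroup.mem_centralizer_singleton_iff.1 c.2
  let f : ↥C →* GL I8 (ZMod 2) :=
    MonoidHom.mk' (fun c => D.act c) fun a b => D.act_mul _ _ (hC a) (hC b)
  have hker : f.ker = D.Q.subgroupOf C := by
    ext c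
    rw [MonoidHom.mem_ker, Subgroup.mem_subgroupOf]
    exact D.act_ker c (hC c)
  have hrange : f.range = Cfsg.Geo.omegaGL D.qf := by
    ext g
    constructor
    · rintro ⟨c, rfl⟩
      exact D.act_mem c (hC c)
    · intro hg
      obtain ⟨c, hc, e⟩ := D.act_surj g hg
      exact ⟨⟨c, Subgroup.mem_centralizer_singleton_iff.2 hc.eq⟩, e⟩
  have hQC : D.Q ≤ C := fun q hq' =>
    Subgroup.mem_centralizer_singleton_iff.2 (D.ctx.central q hq').symm.eq
  rw [Subgroup.card_eq_card_quotient_mul_card_subgroup f.ker,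
    Nat.card_congr (QuotientGroup.quotientKerEquivRange f).toEquiv, hker,
    Nat.card_congr (Subgroup.subgroupOfEquivOfLe hQC).toEquiv, hp.card_Q, hrange, hq, mul_comm]
  have h := two_mul_card_omega (hq ▸ D.space) (by simp)
  rw [card_plus_eight] at h
  rw [Cfsg.Geo.omegaGL, Subgroup.card_map_of_injective (Subgroup.subtype_injective _)]
  simp [Fintype.card_sum]
  omega

theorem two_part_le (hq : D.qf = Cfsg.quadFormPlus 4 (ZMod 2)) (hp : D.Point t) {k : ℕ}
    (h : 2 ^ k ∣ Nat.card ↥(Subgroup.centralizer ({D.z} : Set G))) : k ≤ 21 := by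
  rw [card_centralizer hq hp] at h
  by_contra hk
  exact (by norm_num : ¬ 2 ^ 22 ∣ 2 ^ 9 * 174182400) ((pow_dvd_pow 2 (by omega)).trans h)

/-- The centralizer of the two points has no more than `2 ^ 20` in its 2-part. -/
theorem not_dvd_centralizer (hq : D.qf = Cfsg.quadFormPlus 4 (ZMod 2)) (hp : D.Point t) :
    ¬ 2 ^ 21 ∣ Nat.card
      ↥(Subgroup.centralizer ({D.z} : Set G) ⊓ Subgroup.centralizer ({t} : Set G)) := by
  intro hdvd
  haveI : Fact (Nat.Prime 2) := ⟨Nat.prime_two⟩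
  set C := Subgroup.centralizer ({D.z} : Set G) with hC
  obtain ⟨P, hP⟩ := Sylow.exists_subgroup_card_pow_prime 2 hdvd
  set P' : Subgroup G := P.map (Subgroup.subtype _) with hP'
  have hcP : Nat.card ↥P' = 2 ^ 21 := by
    rw [hP', Subgroup.card_map_of_injective (Subgroup.subtype_injective _), hP]
  have hP'C : P' ≤ C ⊓ Subgroup.centralizer ({t} : Set G) := Subgroup.map_subtype_le _
  -- Q P' is a 2-subgroup
  obtain ⟨a, ha, -, hat⟩ := hp.exists_mover
  have hQC : D.Q ≤ C := fun q hq' => Subgroup.mem_centralizer_singleton_iff.2 (D.ctx.central q hq').symm.eq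
  have hnorm : P' ≤ Subgroup.normalizer (D.Q : Set G) := fun x hx =>
    D.ctx.norm x (Subgroup.mem_centralizer_singleton_iff.1 (hP'C hx).1)
  have hQ2 : IsPGroup 2 ↥D.Q := IsPGroup.of_card (n := 9) (by
    rw [hp.card_Q]; norm_num [Fintype.card_sum])
  have hsup : IsPGroup 2 ↥(P' ⊔ D.Q) :=
    (IsPGroup.of_card hcP).to_sup_of_normal_right' hQ2 hnorm
  obtain ⟨k, hk⟩ := hsup.exists_card_eq
  have hCdvd : Nat.card ↥(P' ⊔ D.Q) ∣ Nat.card ↥C :=
    Subgroup.card_dvd_of_le (sup_le (hP'C.trans inf_le_left) hQC)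
  have hk21 : k ≤ 21 := by
    rw [hk] at hCdvd
    exact two_part_le hq hp hCdvd
  have heq : P' = P' ⊔ D.Q := Subgroup.eq_of_le_of_card_ge le_sup_left (by
    rw [hk, hcP]; exact Nat.pow_le_pow_right (by norm_num) hk21)
  have haP : a ∈ P' := heq.ge (Subgroup.mem_sup_right ha)
  have hac : Commute a t := Subgroup.mem_centralizer_singleton_iff.1 (hP'C haP).2
  rw [hac.eq, mul_inv_cancel_right] at hat
  exact D.ctx.ne_one (right_eq_mul.1 hat)

/-- The normalizer of the abelian subgroup contains that much of the centralizer of the two points. -/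
theorem dvd_common (hq : D.qf = Cfsg.quadFormPlus 4 (ZMod 2))
    (hab : ∀ g ∈ AA D, ∀ h ∈ AA D, Commute g h) (hp : D.Point t) (htA : t ∈ AA D) :
    2 ^ 20 ∣ Nat.card ↥(NN D ⊓ Subgroup.centralizer ({D.z} : Set G) ⊓
      Subgroup.centralizer ({t} : Set G)) := by
  classical
  obtain ⟨S⟩ := exists_setup D hq hab
  obtain ⟨-, -, -, -, hdvd, -⟩ := S.exists_structure
  haveI : Fact (Nat.Prime 2) := ⟨Nat.prime_two⟩
  set M := NN D ⊓ Subgroup.centralizer ({D.z} : Set G) with hM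
  have hMz : ∀ m ∈ M, Commute m D.z := fun m hm => Subgroup.mem_centralizer_singleton_iff.1 hm.2
  obtain ⟨P₀, hP₀⟩ := Sylow.exists_subgroup_card_pow_prime 2
    ((dvd_mul_right (2 ^ 21) 35).trans hdvd)
  obtain ⟨-, b₀, hb₀, hcls⟩ := WS_of_perp hq hp.mem fun v hv => mem_AA.1 htA v hv
  have hb₀0 : b₀ ≠ 0 := fun h => hp.cls_ne (by rw [hcls, h, ve_zero])
  let X := {v : V8 // ∃ a, a < 16 ∧ a ≠ 0 ∧ v = ve a}
  letI : MulAction ↥P₀ X :=
    { smul := fun r v => ⟨(D.act ((r : ↥M) : G)).val *ᵥ v.1, by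
        obtain ⟨a, ha, ha0, e⟩ := v.2
        obtain ⟨b, hb, eb, hb0⟩ := act_ve S.F (r : ↥M).2.1 (hMz _ (r : ↥M).2) ha
        exact ⟨b, hb, hb0 ha0, by rw [e, eb]⟩⟩
      one_smul := fun v => Subtype.ext (by
        show (D.act (((1 : ↥P₀) : ↥M) : G)).val *ᵥ v.1 = v.1
        rw [Subgroup.coe_one, Subgroup.coe_one, D.act_one, Units.val_one, Matrix.one_mulVec])
      mul_smul := fun r s v => Subtype.ext (by
        show (D.act (((r * s : ↥P₀) : ↥M) : G)).val *ᵥ v.1 =
          (D.act ((r : ↥M) : G)).val *ᵥ ((D.act ((s : ↥M) : G)).val *ᵥ v.1)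
        rw [Subgroup.coe_mul, Subgroup.coe_mul, D.act_mul _ _ (hMz _ (r : ↥M).2) (hMz _ (s : ↥M).2),
          Units.val_mul, Matrix.mulVec_mulVec]) }
  have hX : Nat.card X = 15 := by
    refine (Nat.card_congr (Equiv.ofBijective (fun k : Fin 15 => (⟨ve (k.val + 1), k.val + 1, by omega,
      by omega, rfl⟩ : X)) ⟨?_, ?_⟩)).symm.trans (Nat.card_fin 15)
    · intro k l h
      have h' := ve_inj (by omega) (by omega) (congrArg Subtype.val h)
      exact Fin.ext (by omega)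
    · rintro ⟨v, a, ha, ha0, rfl⟩
      refine ⟨⟨a - 1, by omega⟩, Subtype.ext ?_⟩
      show ve (a - 1 + 1) = ve a
      rw [Nat.sub_add_cancel (by omega)]
  obtain ⟨⟨_, a, ha, ha0, rfl⟩, hv⟩ :=
    (IsPGroup.of_card hP₀).nonempty_fixed_point_of_prime_not_dvd_card X (by rw [hX]; norm_num)
  let P : ℕ → Prop := fun b => b < 16 ∧ ∃ n ∈ M, (D.act n).val *ᵥ ve a = ve b
  have hstep : ∀ p ∈ tvAll, ∀ b, P b → P (tvA p.1 p.2 b) := by
    rintro p hp' b ⟨hb, n, hn, e⟩
    obtain ⟨d, hdN, hdz, hda⟩ := exists_lift S.F hp'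
    refine ⟨(tvA_lt p hp' b hb).1, d * n,
      mul_mem ⟨hdN, Subgroup.mem_centralizer_singleton_iff.2 hdz.eq⟩ hn, ?_⟩
    rw [D.act_mul _ _ hdz (hMz n hn), Units.val_mul, ← Matrix.mulVec_mulVec, e, hda b hb]
  have hP1 : P 1 := reach_closed (P := P)
    ⟨ha, 1, one_mem _, by rw [D.act_one, Units.val_one, Matrix.one_mulVec]⟩ hstep 4 _ (reach_back a ha ha0)
  obtain ⟨-, n, hn, hna⟩ := reach_closed (P := P) hP1 hstep 5 _ (reach_point b₀ hb₀ hb₀0)
  set P₁ : Subgroup G := (P₀.map M.subtype).map (MulAut.conj n).toMonoidHom with hP₁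
  have hc₁ : Nat.card ↥P₁ = 2 ^ 21 := by
    rw [hP₁, Subgroup.card_map_of_injective (MulAut.conj n).injective,
      Subgroup.card_map_of_injective (Subgroup.subtype_injective _), hP₀]
  have hle : P₁ ≤ M := by
    rintro _ ⟨x, ⟨x, -, rfl⟩, rfl⟩
    exact mul_mem (mul_mem hn x.2) (inv_mem hn)
  have hmove : ∀ s ∈ P₁, s * t * s⁻¹ = t ∨ s * t * s⁻¹ = D.z * t := by
    rintro s hs
    have hsz := hMz s (hle hs)
    refine D.cls_eq hp.mem ((Subgroup.mem_normalizer_iff.1 (D.ctx.norm s hsz) t).1 hp.mem) ?_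
    rw [D.act_cls s hsz t hp.mem]
    obtain ⟨x, ⟨x, hx, rfl⟩, rfl⟩ := hs
    have hx' : (D.act (x : G)).val *ᵥ ve a = ve a := congrArg Subtype.val (hv ⟨x, hx⟩)
    show D.cls t = (D.act (n * (x : G) * n⁻¹)).val *ᵥ D.cls t
    rw [hcls, ← hna, act_conj (hMz n hn) (hMz _ x.2), mul_act, mul_act, inv_act, hx']
  set St := P₁ ⊓ Subgroup.centralizer ({t} : Set G) with hSt
  have h2 : Nat.card ↥P₁ ≤ 2 * Nat.card ↥St := by
    by_cases hall : P₁ ≤ Subgroup.centralizer ({t} : Set G)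
    · rw [hSt, inf_eq_left.2 hall]; omega
    · obtain ⟨s₀, hs₀, hs₀t⟩ := SetLike.not_le_iff_exists.1 hall
      have hzs : ∀ s ∈ P₁, s ∉ Subgroup.centralizer ({t} : Set G) → s * t * s⁻¹ = D.z * t :=
        fun s hs hs' => (hmove s hs).resolve_left fun e =>
          hs' (Subgroup.mem_centralizer_singleton_iff.2 (mul_inv_eq_iff_eq_mul.1 e))
      let f : Bool × ↥St → ↥P₁ := fun p =>
        ⟨(bif p.1 then s₀ else 1) * p.2, mul_mem
          (show (bif p.1 then s₀ else 1) ∈ P₁ by cases p.1; exacts [one_mem _, hs₀]) p.2.2.1⟩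
      have hf : Function.Surjective f := by
        rintro ⟨s, hs⟩
        by_cases h : s ∈ Subgroup.centralizer ({t} : Set G)
        · exact ⟨(false, ⟨s, hs, h⟩), Subtype.ext (one_mul s)⟩
        · refine ⟨(true, ⟨s₀⁻¹ * s, Subgroup.mem_inf.2 ⟨P₁.mul_mem (P₁.inv_mem hs₀) hs, ?_⟩⟩), Subtype.ext (mul_inv_cancel_left _ _)⟩
          refine Subgroup.mem_centralizer_singleton_iff.2 (mul_inv_eq_iff_eq_mul.1 ?_)
          calc s₀⁻¹ * s * t * (s₀⁻¹ * s)⁻¹ = s₀⁻¹ * (s * t * s⁻¹) * s₀ := by group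
            _ = t := by rw [hzs s hs h, ← hzs s₀ hs₀ hs₀t]; group
      have := Nat.card_le_card_of_surjective f hf
      rwa [Nat.card_prod, Nat.card_eq_fintype_card (α := Bool), Fintype.card_bool] at this
  obtain ⟨k, -, hk⟩ := (Nat.dvd_prime_pow Nat.prime_two).1
    (hc₁ ▸ Subgroup.card_dvd_of_le (inf_le_left : St ≤ P₁))
  rw [hc₁, hk, ← pow_succ'] at h2
  have hk20 : 20 ≤ k := by
    have := (Nat.pow_le_pow_iff_right (by norm_num : 1 < 2)).1 h2
    omega
  exact (hk ▸ pow_dvd_pow 2 hk20).trans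
    (Subgroup.card_dvd_of_le (le_inf (inf_le_left.trans hle) inf_le_right))

/-- An isomorphism of the centralizers agreeing on the normalizer respects the exchange. -/
theorem exchange (hq : D.qf = Cfsg.quadFormPlus 4 (ZMod 2))
    (hab : ∀ g ∈ AA D, ∀ h ∈ AA D, Commute g h) {G' : Type*} [Group G'] {z' : G'}
    (φ : ↥(NN D) →* G')
    (χ : ↥(Subgroup.centralizer ({D.z} : Set G)) ≃* ↥(Subgroup.centralizer ({z'} : Set G')))
    (agree : ∀ (m : ↥(NN D)) (h : (m : G) ∈ Subgroup.centralizer ({D.z} : Set G)),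
      φ m = (χ ⟨m, h⟩ : G'))
    (hz : ∀ m : ↥(NN D), (m : G) = D.z → φ m = z') (n : ↥(NN D))
    (ht : t = (n : G) * D.z * (n : G)⁻¹) (htQ : t ∈ D.Q) (hne : t ≠ D.z)
    (hn2 : (n : G) * t * (n : G)⁻¹ = D.z) {c : G}
    (hc : c ∈ Subgroup.centralizer ({D.z} : Set G)) (hct : Commute c t) :
    ∃ h : (n : G) * c * (n : G)⁻¹ ∈ Subgroup.centralizer ({D.z} : Set G),
      (χ ⟨_, h⟩ : G') = φ n * (χ ⟨c, hc⟩ : G') * (φ n)⁻¹ := by
  classical
  have hzA : D.z ∈ AA D := WS_le_AA hq z_mem_WS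
  have hp : D.Point t := by
    refine ⟨htQ, ?_, ?_, hne⟩
    · rw [ht, show ∀ x y : G, x * y * x⁻¹ * (x * y * x⁻¹) = x * (y * y) * x⁻¹ from
        fun x y => by group, D.ctx.sq_z]
      group
    · rw [ht]
      exact fun h => D.ctx.ne_one (conj_eq_one_iff.1 h)
  have htA : t ∈ AA D := ht ▸ (Subgroup.mem_normalizer_iff.1 n.2 _).1 hzA
  let zn : ↥(NN D) := ⟨D.z, Subgroup.le_normalizer hzA⟩
  let tn : ↥(NN D) := ⟨t, Subgroup.le_normalizer htA⟩
  have htn : φ tn = φ n * z' * (φ n)⁻¹ := by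
    rw [← hz zn rfl, ← map_inv, ← map_mul, ← map_mul]
    exact congrArg φ (Subtype.ext ht)
  set H := (Subgroup.centralizer ({D.z} : Set G)) ⊓ Subgroup.centralizer ({t} : Set G) with hH
  have htC : t ∈ (Subgroup.centralizer ({D.z} : Set G)) := Subgroup.mem_centralizer_singleton_iff.2 hp.comm_zt.symm.eq
  have hHz : ∀ c : ↥H, Commute (c : G) D.z := fun c => Subgroup.mem_centralizer_singleton_iff.1 c.2.1
  have hHt : ∀ c : ↥H, Commute (c : G) t := fun c => Subgroup.mem_centralizer_singleton_iff.1 c.2.2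
  have he : ∀ c : ↥H, Commute ((n : G) * c * (n : G)⁻¹) D.z ∧
      Commute ((n : G) * c * (n : G)⁻¹) t := fun c =>
    ⟨hn2 ▸ (Commute.conj_iff (n : G)).2 (hHt c), ht ▸ (Commute.conj_iff (n : G)).2 (hHz c)⟩
  let e : ↥H →* ↥(Subgroup.centralizer ({D.z} : Set G)) :=
    MonoidHom.mk' (fun c => ⟨(n : G) * c * (n : G)⁻¹, Subgroup.mem_centralizer_singleton_iff.2 (he c).1.eq⟩)
      fun a b => Subtype.ext (by
        show (n : G) * ((a : G) * b) * (n : G)⁻¹ = _
        rw [Subgroup.coe_mul]; group)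
  have hy : ∀ c : ↥H, (φ n)⁻¹ * (χ (e c) : G') * φ n ∈ Subgroup.centralizer ({z'} : Set G') := by
    intro c
    refine Subgroup.mem_centralizer_singleton_iff.2 (Commute.eq ?_)
    have h1 : e c * ⟨t, htC⟩ = ⟨t, htC⟩ * e c := Subtype.ext (he c).2.eq
    have h2 : (χ (e c) : G') * χ ⟨t, htC⟩ = χ ⟨t, htC⟩ * χ (e c) := by
      rw [← Subgroup.coe_mul, ← map_mul, h1, map_mul, Subgroup.coe_mul]
    rw [← agree tn htC, htn] at h2
    exact commute_unconj (φ n) h2
  let β : ↥H →* G := (Subgroup.centralizer ({D.z} : Set G)).subtype.comp (χ.symm.toMonoidHom.comp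
    (MonoidHom.mk' (fun c => (⟨_, hy c⟩ : ↥(Subgroup.centralizer ({z'} : Set G')))) fun a b => Subtype.ext (by
      show (φ n)⁻¹ * (χ (e (a * b)) : G') * φ n = _
      rw [map_mul, map_mul, Subgroup.coe_mul, Subgroup.coe_mul]; group)))
  have hβC : ∀ c, Commute (β c) D.z := fun c => Subgroup.mem_centralizer_singleton_iff.1 (χ.symm _).2
  have hfix : ∀ c : ↥H, (c : G) ∈ NN D → β c = c := by
    intro c hcN
    let m : ↥(NN D) := ⟨c, hcN⟩
    have h2 : φ (n * m * n⁻¹) = (χ (e c) : G') := agree (n * m * n⁻¹) (e c).2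
    have h3 : (φ n)⁻¹ * (χ (e c) : G') * φ n = (χ ⟨c, c.2.1⟩ : G') := by
      rw [← h2, ← agree m c.2.1, map_mul, map_mul, map_inv]; group
    show ((χ.symm ⟨_, hy c⟩ : ↥(Subgroup.centralizer ({D.z} : Set G))) : G) = c
    rw [show (⟨_, hy c⟩ : ↥(Subgroup.centralizer ({z'} : Set G'))) = χ ⟨c, c.2.1⟩ from Subtype.ext h3,
      MulEquiv.symm_apply_apply]
  have hinA : ∀ c : ↥H, D.InA t ((c : G)⁻¹ * β c) := by
    intro c
    refine inA_of_centralizes hp ((hHz c).inv_left.mul_left (hβC c)) fun q hqc => ?_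
    have hqH : q ∈ H := ⟨Subgroup.mem_centralizer_singleton_iff.2 (D.ctx.central q hqc.1).symm.eq,
      Subgroup.mem_centralizer_singleton_iff.2 hqc.2.eq⟩
    have hqN : q ∈ NN D := Q_le_NN hq hab hqc.1
    have hc' : ((c * ⟨q, hqH⟩ * c⁻¹ : ↥H) : G) ∈ NN D :=
      Q_le_NN hq hab (hp.cq_conj (hHz c) (hHt c) hqc).1
    have h := hfix _ hc'
    rw [map_mul, map_mul, map_inv, hfix ⟨q, hqH⟩ hqN] at h
    refine mul_inv_eq_iff_eq_mul.1 ?_
    calc (c : G)⁻¹ * β c * q * ((c : G)⁻¹ * β c)⁻¹ = (c : G)⁻¹ * (β c * q * (β c)⁻¹) * c := by group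
      _ = q := by rw [h, Subgroup.coe_mul, Subgroup.coe_mul, Subgroup.coe_inv]; group
  let δ : ↥H →* G := MonoidHom.mk' (fun c => (c : G)⁻¹ * β c) fun a b => by
    have hcm := inA_commute hp (hinA a) (hHz b).inv_left (hHt b).inv_left
    rw [map_mul, Subgroup.coe_mul, mul_inv_rev,
      show (b : G)⁻¹ * (a : G)⁻¹ * (β a * β b) = (b : G)⁻¹ * ((a : G)⁻¹ * β a) * β b by group,
      ← hcm.eq]
    group
  have hrange : δ.range = ⊥ := by
    by_contra hbot
    haveI : Fact (Nat.Prime 2) := ⟨Nat.prime_two⟩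
    have h2 : IsPGroup 2 ↥δ.range := fun x => ⟨1, by
      obtain ⟨c, hc⟩ := x.2
      refine Subtype.ext ?_
      rw [pow_one, pow_two, Subgroup.coe_mul, Subgroup.coe_one, ← hc]
      exact inA_sq hp (hinA c)⟩
    haveI : Nontrivial ↥δ.range := (Subgroup.nontrivial_iff_ne_bot _).2 hbot
    obtain ⟨k, hk⟩ := h2.exists_card_eq
    have hk0 : 1 ≤ k := Nat.pos_of_ne_zero fun h =>
      (Finite.one_lt_card (α := ↥δ.range)).ne' (hk.trans (by rw [h, pow_zero]))
    refine not_dvd_centralizer hq hp ?_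
    rw [← hH, Subgroup.card_eq_card_quotient_mul_card_subgroup δ.ker,
      Nat.card_congr (QuotientGroup.quotientKerEquivRange δ).toEquiv, hk]
    refine dvd_trans (dvd_of_eq (by norm_num : 2 ^ 21 = 2 ^ 1 * 2 ^ 20))
      (Nat.mul_dvd_mul (pow_dvd_pow 2 hk0) ((dvd_common hq hab hp htA).trans ?_))
    rw [inf_assoc, ← hH,
      ← Nat.card_congr (Subgroup.subgroupOfEquivOfLe (inf_le_right : NN D ⊓ H ≤ H)).toEquiv]
    refine Subgroup.card_dvd_of_le fun c hc => MonoidHom.mem_ker.2 ?_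
    show (c : G)⁻¹ * β c = 1
    rw [hfix c hc.1, inv_mul_cancel]
  let cH : ↥H := ⟨c, hc, Subgroup.mem_centralizer_singleton_iff.2 hct.eq⟩
  refine ⟨(e cH).2, ?_⟩
  have h1 : δ cH = 1 := by
    have : δ cH ∈ δ.range := ⟨cH, rfl⟩
    rwa [hrange, Subgroup.mem_bot] at this
  have h2 : β cH = c := (inv_mul_eq_one.1 h1).symm
  have h3 : χ.symm ⟨_, hy cH⟩ = (⟨c, hc⟩ : ↥(Subgroup.centralizer ({D.z} : Set G))) := Subtype.ext h2
  have h4 : (φ n)⁻¹ * (χ (e cH) : G') * φ n = (χ ⟨c, hc⟩ : G') :=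
    congrArg Subtype.val (χ.symm_apply_eq.1 h3)
  rw [← h4]
  show (χ (e cH) : G') = _
  group

end Cfsg.Lib.CoOneUniq
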