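import Cfsg.Agent.Lib.Extra.CoOneUniq.AssemblePerfect
import Cfsg.Agent.Lib.Extra.CoOneUniq.CentExtend
import Cfsg.Agent.Lib.Extra.CoOneUniq.Exchange
import Cfsg.Agent.Lib.Extra.CoOneUniq.Classes.OfData
import Cfsg.Agent.Lib.Concrete.LeechCrossMax
import Cfsg.Agent.Lib.Concrete.LeechSimpleGroups

/-!
# A group of Conway type is the first Conway group

The isomorphism of the normalizers of the abelian subgroups extends to the centralizers of the
involutions. The graphs of the two isomorphisms generate a subgroup of the product that projects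
bijectively onto the first Conway group, by the completion bound; its image in the group is
everything, by descent.
-/

set_option autoImplicit false
set_option maxRecDepth 100000
set_option linter.style.haveILetI false

namespace Cfsg.Lib.CoOneUniq

open Cfsg Cfsg.Lib.Extra.Wide Cfsg.Lib.CoOneLocal Cfsg.Lib.Concrete Cfsg.Lib.CoOne FrameData

theorem xiEl_notMem : xiEl ∉ N1 := by
  intro h
  have h1 : fcode xiEl = fcode 1 := fcode_eq_iff.2 (by simpa using inv_mem h)
  have h2 : fcode (wordEl [none]) = evW [none] topCode := fcode_wordEl _ (by decide +kernel)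
  rw [show wordEl [none] = xiEl from mul_one xiEl, h1, fcode_one] at h2
  exact absurd h2 (by decide +kernel)

theorem N1_sup_cZ : N1 ⊔ cZ = ⊤ := by
  have hle : crossStab ≤ (N1 ⊔ cZ).comap kap := fun g hg => Subgroup.mem_sup_left ⟨g, hg, rfl⟩
  have hlt : crossStab < (N1 ⊔ cZ).comap kap := lt_of_le_of_ne hle fun e => xiEl_notMem
    ⟨xiCo0, e.ge (Subgroup.mem_sup_right xiEl_mem), rfl⟩
  have htop := crossStab_isCoatom.2 _ hlt
  refine eq_top_iff.2 fun x _ => ?_
  obtain ⟨g, rfl⟩ := QuotientGroup.mk'_surjective _ x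
  exact htop.ge (Subgroup.mem_top g)

/-- A group of Conway type is the first Conway group. -/
theorem iso_of_data {G : Type*} [Group G] [Finite G] (D : Data G I8)
    (hq : D.qf = Cfsg.quadFormPlus 4 (ZMod 2)) (hab : ∀ g ∈ AA D, ∀ h ∈ AA D, Commute g h) :
    Nonempty (G ≃* Spor.Co1) := by
  classical
  haveI : Finite Co0 := Nat.finite_of_card_ne_zero (by rw [card_Co0]; norm_num)
  obtain ⟨E, hqE, hEz, hEQ, -, habE, hEN⟩ := exists_co1_data
  obtain ⟨φ, -, hφz, hφc, hφQ⟩ := exists_norm_iso hq hqE hab habE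
  have hzA : D.z ∈ AA D := WS_le_AA hq z_mem_WS
  let zn : ↥(NN D) := ⟨D.z, Subgroup.le_normalizer hzA⟩
  have hφzn : (φ zn : Spor.Co1) = E.z := (hφz zn).2 rfl
  set C := Subgroup.centralizer ({D.z} : Set G) with hC
  set CE := Subgroup.centralizer ({E.z} : Set Spor.Co1) with hCE
  have hCEz : CE = cZ := by rw [hCE, hEz]
  -- the isomorphism extends
  set P := NN D ⊓ C with hP
  have hPz : ∀ p ∈ P, Commute p D.z := fun p hp => Subgroup.mem_centralizer_singleton_iff.1 hp.2
  have hQP : D.Q ≤ P := le_inf (Q_le_NN hq hab) fun q hq' =>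
    Subgroup.mem_centralizer_singleton_iff.2 (D.ctx.central q hq').symm.eq
  let fP : ↥P →* Spor.Co1 :=
    (NN E).subtype.comp (φ.toMonoidHom.comp (Subgroup.inclusion (inf_le_left : P ≤ NN D)))
  have hinj : Function.Injective fP := fun a b h =>
    Subgroup.inclusion_injective _ (φ.injective (Subtype.ext h))
  have hfQ : (fP.comp (Subgroup.inclusion hQP)).range = E.Q := by
    ext x
    constructor
    · rintro ⟨a, rfl⟩
      exact (hφQ _).2 a.2
    · intro hx
      obtain ⟨n, hn⟩ := φ.surjective ⟨x, Q_le_NN hqE habE hx⟩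
      have e : (φ n : Spor.Co1) = x := congrArg Subtype.val hn
      exact ⟨⟨(n : G), (hφQ n).1 (e.symm ▸ hx)⟩, e⟩
  have hodd : Odd (P.subgroupOf C).index := by
    obtain ⟨t, hp, -⟩ := exists_T hq (a := 1) (by norm_num) (by norm_num)
    obtain ⟨S⟩ := exists_setup D hq hab
    obtain ⟨-, -, -, -, hdvd, -⟩ := S.exists_structure
    obtain ⟨m, hm⟩ : 2 ^ 21 * 35 ∣ Nat.card ↥P := hdvd
    have h := (P.subgroupOf C).card_mul_index
    rw [Nat.card_congr (Subgroup.subgroupOfEquivOfLe (inf_le_right : P ≤ C)).toEquiv, hm,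
      card_centralizer hq hp] at h
    have h' : 35 * m * (P.subgroupOf C).index = 42525 := by
      refine Nat.eq_of_mul_eq_mul_left (show 0 < 2 ^ 21 by norm_num) ?_
      rw [← mul_assoc, ← mul_assoc, h]
      norm_num
    exact Odd.of_dvd_nat (by decide) (Dvd.intro_left _ h')
  have hperf : ∀ l : ↥P →* Multiplicative (ZMod 2), (∀ a : ↥P, (a : G) ∈ D.Q → l a = 1) → l = 1 := by
    intro l hl
    let j : ↥(N1 ⊓ cZ) →* ↥(NN E) := Subgroup.inclusion (by rw [hEN]; exact inf_le_left)
    let ψ : ↥(N1 ⊓ cZ) →* ↥P := (((NN D).subtype.comp φ.symm.toMonoidHom).comp j).codRestrict P fun x => by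
      refine ⟨(φ.symm (j x)).2, Subgroup.mem_centralizer_singleton_iff.2 ((hφc _).1 ?_).eq⟩
      show Commute (φ (φ.symm (j x)) : Spor.Co1) E.z
      rw [φ.apply_symm_apply, hEz]
      exact Subgroup.mem_centralizer_singleton_iff.1 x.2.2
    have h0 := cN1_perfect (l.comp ψ) fun x hx => hl _ ((hφQ (φ.symm (j x))).1 (by
      rw [φ.apply_symm_apply, hEQ]; exact hx))
    refine MonoidHom.ext fun p => ?_
    let n : ↥(NN D) := ⟨p, p.2.1⟩
    have hx : (φ n : Spor.Co1) ∈ N1 ⊓ cZ := ⟨hEN ▸ (φ n).2,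
      Subgroup.mem_centralizer_singleton_iff.2 (hEz ▸ (hφc n).2 (hPz p p.2)).eq⟩
    have e' : ((φ.symm (φ n) : ↥(NN D)) : G) = (n : G) := congrArg Subtype.val (φ.symm_apply_apply n)
    have e : ψ ⟨_, hx⟩ = p := Subtype.ext e'
    rw [← e]
    exact DFunLike.congr_fun h0 _
  obtain ⟨χ, hχ⟩ := Cfsg.Lib.Extra.CoOneUniq.exists_extend D E P hPz hQP fP hinj hfQ hodd hperf
  have hagree : ∀ (m : ↥(NN D)) (h : (m : G) ∈ C), (φ m : Spor.Co1) = (χ ⟨m, h⟩ : Spor.Co1) :=
    fun m h => (hχ ⟨m, m.2, h⟩).symm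
  -- the glued group
  let φ' : ↥(NN D) →* Spor.Co1 := (NN E).subtype.comp φ.toMonoidHom
  set A := ((NN D).subtype.prod φ').range with hA
  set B := (C.subtype.prod (CE.subtype.comp χ.toMonoidHom)).range with hB
  let W : Subgroup (G × Spor.Co1) := A ⊔ B
  let pr : ↥W →* Spor.Co1 := (MonoidHom.snd G Spor.Co1).comp W.subtype
  let K : Glue ↥W :=
    { pr := pr
      GN := A.subgroupOf W
      GC := B.subgroupOf W
      mapN := fun a ha => by
        obtain ⟨n, hn⟩ := ha
        show (a : G × Spor.Co1).2 ∈ N1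
        rw [← show _ = (a : G × Spor.Co1) from hn, ← hEN]
        exact (φ n).2
      surjN := fun x hx => by
        rw [← hEN] at hx
        exact ⟨⟨_, Subgroup.mem_sup_left ⟨φ.symm ⟨x, hx⟩, rfl⟩⟩, ⟨φ.symm ⟨x, hx⟩, rfl⟩,
          congrArg Subtype.val (φ.apply_symm_apply _)⟩
      injN := fun a ha h => by
        obtain ⟨n, hn⟩ := ha
        have hn' : _ = (a : G × Spor.Co1) := hn
        have h' : (φ n : Spor.Co1) = 1 := (congrArg Prod.snd hn').trans h
        have h1 : n = 1 := φ.injective ((Subtype.ext h').trans (map_one φ).symm)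
        refine Subtype.ext ?_
        rw [← hn', h1, map_one]
        rfl
      mapC := fun c hc => by
        obtain ⟨x, hx⟩ := hc
        show (c : G × Spor.Co1).2 ∈ cZ
        rw [← show _ = (c : G × Spor.Co1) from hx, ← hCEz]
        exact (χ x).2
      surjC := fun x hx => by
        rw [← hCEz] at hx
        exact ⟨⟨_, Subgroup.mem_sup_right ⟨χ.symm ⟨x, hx⟩, rfl⟩⟩, ⟨χ.symm ⟨x, hx⟩, rfl⟩,
          congrArg Subtype.val (χ.apply_symm_apply _)⟩
      injC := fun c hc h => by
        obtain ⟨x, hx⟩ := hc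
        have hx' : _ = (c : G × Spor.Co1) := hx
        have h' : (χ x : Spor.Co1) = 1 := (congrArg Prod.snd hx').trans h
        have h1 : x = 1 := χ.injective ((Subtype.ext h').trans (map_one χ).symm)
        refine Subtype.ext ?_
        rw [← hx', h1, map_one]
        rfl
      inter := fun a ha h => by
        obtain ⟨n, hn⟩ := ha
        have hn' : _ = (a : G × Spor.Co1) := hn
        have h' : (φ n : Spor.Co1) ∈ cZ := by
          have h2 : (a : G × Spor.Co1).2 ∈ cZ := h
          rw [← hn'] at h2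
          exact h2
        have hnC : (n : G) ∈ C := Subgroup.mem_centralizer_singleton_iff.2 ((hφc n).1 (hEz.symm ▸
          Subgroup.mem_centralizer_singleton_iff.1 h')).eq
        exact ⟨⟨n, hnC⟩, (show ((n : G), (χ ⟨n, hnC⟩ : Spor.Co1)) = ((n : G), (φ n : Spor.Co1)) by
          rw [hagree n hnC]).trans hn'⟩
      gen := by
        rw [← Subgroup.subgroupOf_sup (le_sup_left : A ≤ W) (le_sup_right : B ≤ W), Subgroup.subgroupOf_self]
      swap := fun a ha t hat htQ htne hta c hc hcom => by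
        obtain ⟨n, hn⟩ := ha
        obtain ⟨x, hx⟩ := hc
        have hn' : ((n : G), (φ n : Spor.Co1)) = (a : G × Spor.Co1) := hn
        have hx' : ((x : G), (χ x : Spor.Co1)) = (c : G × Spor.Co1) := hx
        have hpa : pr a = (φ n : Spor.Co1) := (congrArg Prod.snd hn').symm
        have hpc : pr c = (χ x : Spor.Co1) := (congrArg Prod.snd hx').symm
        rw [hpa] at hat hta
        rw [hpc] at hcom
        let tn : ↥(NN D) := n * zn * n⁻¹
        have htn : (φ tn : Spor.Co1) = t := by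
          rw [map_mul, map_mul, map_inv, Subgroup.coe_mul, Subgroup.coe_mul, Subgroup.coe_inv, hφzn, hEz]
          exact hat
        have h1 : (tn : G) ∈ D.Q := (hφQ tn).1 (by rw [htn, hEQ]; exact ⟨t, htQ, rfl⟩)
        have h2 : (tn : G) ≠ D.z := fun e => htne (by rw [← htn, (hφz tn).2 e, hEz])
        have h3 : ((n * tn * n⁻¹ : ↥(NN D)) : G) = D.z := (hφz _).1 (by
          rw [map_mul, map_mul, map_inv, Subgroup.coe_mul, Subgroup.coe_mul, Subgroup.coe_inv, htn, hEz]
          exact hta)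
        have htC : (tn : G) ∈ C := (hQP h1).2
        have h4 : Commute (x : G) (tn : G) := by
          have hcom' : χ x * χ ⟨tn, htC⟩ = χ ⟨tn, htC⟩ * χ x := Subtype.ext (by
            show (χ x : Spor.Co1) * (χ ⟨tn, htC⟩ : Spor.Co1) = (χ ⟨tn, htC⟩ : Spor.Co1) * (χ x : Spor.Co1)
            rw [← hagree tn htC, htn]; exact hcom.eq)
          rw [← map_mul, ← map_mul] at hcom'
          exact congrArg Subtype.val (χ.injective hcom')
        obtain ⟨hnx, e⟩ := exchange hq hab φ' χ hagree (fun m e => (hφz m).2 e) n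
          (t := (tn : G)) rfl h1 h2 h3 x.2 h4
        refine ⟨⟨_, hnx⟩, ?_⟩
        show (_, (χ ⟨_, hnx⟩ : Spor.Co1)) = (a : G × Spor.Co1) * (c : G × Spor.Co1) * (a : G × Spor.Co1)⁻¹
        rw [e, ← hn', ← hx']
        rfl }
  have hprinj : Function.Injective pr := glue_injective K
  have hprsurj : Function.Surjective pr := by
    intro x
    have hle : N1 ⊔ cZ ≤ pr.range := sup_le
      (fun y hy => by obtain ⟨a, -, ha⟩ := K.surjN y hy; exact ⟨a, ha⟩)
      (fun y hy => by obtain ⟨a, -, ha⟩ := K.surjC y hy; exact ⟨a, ha⟩)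
    exact hle (N1_sup_cZ.ge (Subgroup.mem_top x))
  let ε := MulEquiv.ofBijective pr ⟨hprinj, hprsurj⟩
  let j : Spor.Co1 →* G := ((MonoidHom.fst G Spor.Co1).comp W.subtype).comp ε.symm.toMonoidHom
  have hjC : ∀ c : ↥C, j (χ c : Spor.Co1) = c := fun c => by
    let w : ↥W := ⟨((c : G), (χ c : Spor.Co1)), Subgroup.mem_sup_right ⟨c, rfl⟩⟩
    show ((ε.symm (ε w) : ↥W) : G × Spor.Co1).1 = _
    rw [MulEquiv.symm_apply_apply]
  let zc : ↥C := ⟨D.z, Subgroup.mem_centralizer_singleton_iff.2 rfl⟩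
  have hjz : j zEl = D.z := by
    have e : (χ zc : Spor.Co1) = zEl := by
      rw [← hagree zn (Subgroup.mem_centralizer_singleton_iff.2 rfl), hφzn, hEz]
    rw [← e]
    exact hjC zc
  haveI : IsSimpleGroup Spor.Co1 := isCo1_quotient.1
  have hjinj : Function.Injective j := by
    rw [← MonoidHom.ker_eq_bot_iff]
    refine (MonoidHom.normal_ker j).eq_bot_or_eq_top.resolve_right fun h => D.ctx.ne_one ?_
    rw [← hjz]
    exact MonoidHom.mem_ker.1 (h.ge (Subgroup.mem_top zEl))
  let θ : ↥j.range ≃* Spor.Co1 := (MonoidHom.ofInjective hjinj).symm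
  have hM : j.range = ⊤ := descent_of_data D (by simp) (hq ▸ half_plus_eight) θ
    ⟨D.z, zEl, hjz⟩ rfl (θ.symm.injective (by
      rw [MulEquiv.symm_apply_apply]
      exact Subtype.ext hjz.symm))
    fun c hc => ⟨_, hjC ⟨c, hc⟩⟩
  exact ⟨(MulEquiv.ofBijective j ⟨hjinj, MonoidHom.range_eq_top.1 hM⟩).symm⟩

/-- The first Conway group from the large extraspecial hypothesis. -/
theorem iso_co1_of_hyp {G : Type*} [Group G] [Finite G] (z : G) (hz : orderOf z = 2)
    (Q : Subgroup (Subgroup.centralizer ({z} : Set G))) [Q.Normal]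
    (hF : Cfsg.generalizedFittingSubgroup (Subgroup.centralizer ({z} : Set G)) = Q)
    (hQ : Cfsg.IsExtraspecial 2 Q) (hcard : Nat.card Q = 2 ^ 9)
    (e : (Subgroup.centralizer ({z} : Set G)) ⧸ Q ≃* Cfsg.Omega (ZMod 2) (Cfsg.quadFormPlus 4 (ZMod 2)))
    (hnwc : ∃ g : G, (∃ hq : g * z * g⁻¹ ∈ Subgroup.centralizer ({z} : Set G),
      (⟨g * z * g⁻¹, hq⟩ : Subgroup.centralizer ({z} : Set G)) ∈ Q) ∧ g * z * g⁻¹ ≠ z) :
    Cfsg.Spor.IsoCo1 G := by
  obtain ⟨D₀, hq₀, -, -⟩ := exists_data_of_hyp z hz Q hF hQ hcard e hnwc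
  obtain ⟨D, hq, -, -, hab⟩ := exists_abelian D₀ hq₀
  exact iso_of_data D hq hab

end Cfsg.Lib.CoOneUniq
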