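import Cfsg.Agent.Lib.Extra.CoOneUniq.Fused
import Cfsg.Agent.Lib.Extra.CoOneUniq.Assemble
import Cfsg.Agent.Lib.Linear.OrthCenter
import Cfsg.Agent.S0296

/-!
# The first Conway group from the centralizer of an involution
-/

set_option autoImplicit false
set_option linter.style.haveILetI false
set_option linter.unusedSectionVars false

namespace Cfsg.Lib.CoOneFused

open Cfsg Module Cfsg.Lib.Linear.Orth Cfsg.Lib.Extra.Wide Cfsg.Lib.CoOneLocal

theorem card_omega_qp : Nat.card ↥(Cfsg.Omega (ZMod 2) qp) = 174182400 := by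
  obtain ⟨Bp, Sp⟩ := exists_space_plus (F := ZMod 2) 4
  have hΩ := two_mul_card_omega Sp (by simp)
  rw [card_plus_eight] at hΩ
  show Nat.card ↥(Cfsg.Omega (ZMod 2) (Cfsg.quadFormPlus 4 (ZMod 2))) = _
  omega

theorem omega_center : Subgroup.center ↥(Cfsg.Omega (ZMod 2) qp) = ⊥ := by
  obtain ⟨Bp, Sp⟩ := exists_space_plus (F := ZMod 2) 4
  refine (Subgroup.eq_bot_iff_forall _).2 fun z hz => ?_
  refine Subtype.ext (Subtype.ext (Units.ext ?_))
  rcases omega_center_pm Sp (by simp) hz with h | h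
  · exact h
  · refine h.trans (Matrix.ext fun i j => ?_)
    rw [Matrix.neg_apply]
    exact ZMod.neg_eq_self_mod_two _

theorem omega_odd_normal (N : Subgroup ↥(Cfsg.Omega (ZMod 2) qp)) [N.Normal]
    (h : (Nat.card N).Coprime 2) : N = ⊥ := by
  haveI hS : IsSimpleGroup (Cfsg.POmega (ZMod 2) qp) := Cfsg.Agent.S0296.result (F := ZMod 2) 4 le_rfl
  let e : Cfsg.POmega (ZMod 2) qp ≃* ↥(Cfsg.Omega (ZMod 2) qp) :=
    (QuotientGroup.quotientMulEquivOfEq omega_center).trans QuotientGroup.quotientBot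
  haveI := e.symm.toEquiv.nontrivial
  haveI : IsSimpleGroup ↥(Cfsg.Omega (ZMod 2) qp) :=
    IsSimpleGroup.isSimpleGroup_of_surjective (f := e.toMonoidHom) e.surjective
  rcases Subgroup.Normal.eq_bot_or_eq_top (H := N) inferInstance with hN | hN
  · exact hN
  · exfalso
    rw [hN, Subgroup.card_top, card_omega_qp] at h
    norm_num at h

/-- The centralizer has trivial odd core, so its largest normal `2`-subgroup contains its own centralizer. -/
theorem centralizer_core_le {C K : Type*} [Group C] [Finite C] [Group K] (hcon : Cfsg.IsPConstrained 2 C)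
    (hK : ∀ M : Subgroup K, M.Normal → (Nat.card M).Coprime 2 → M = ⊥)
    (e : C ⧸ Cfsg.pCore 2 C ≃* K) :
    Subgroup.centralizer (Cfsg.pCore 2 C : Set C) ≤ Cfsg.pCore 2 C := by
  classical
  haveI : Fact (Nat.Prime 2) := ⟨Nat.prime_two⟩
  set f : C →* K := e.toMonoidHom.comp (QuotientGroup.mk' (Cfsg.pCore 2 C)) with hf
  set N := Cfsg.pPrimeCore 2 C with hN
  have hcop : (Nat.card N).Coprime 2 := Cfsg.Lib.Core.pPrimeCore_coprime 2 C
  have hNle : N ≤ Cfsg.pCore 2 C := by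
    haveI : (N.map f).Normal := Subgroup.Normal.map inferInstance f
      (e.surjective.comp (QuotientGroup.mk'_surjective _))
    have h0 := hK (N.map f) inferInstance (hcop.coprime_dvd_left ((N.card_map_dvd f)))
    intro x hx
    have h1 : f x ∈ N.map f := Subgroup.mem_map_of_mem f hx
    rw [h0, Subgroup.mem_bot, hf, MonoidHom.comp_apply] at h1
    exact (QuotientGroup.eq_one_iff x).1 (e.map_eq_one_iff.1 h1)
  have hNb : N = ⊥ := by
    obtain ⟨k, hk⟩ := IsPGroup.iff_card.mp ((Cfsg.Lib.Core.pCore_isPGroup 2 C).to_le hNle)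
    rw [hk] at hcop
    rcases k with _ | k
    · exact Subgroup.card_eq_one.1 (by rw [hk, pow_zero])
    · exfalso
      rw [Nat.coprime_pow_left_iff (Nat.succ_pos k)] at hcop
      norm_num at hcop
  have hPC : Cfsg.pPrimePCore 2 C = Cfsg.pCore 2 C := by
    refine le_antisymm ?_ ?_
    · haveI : ((Cfsg.pPrimePCore 2 C)).Normal := by unfold Cfsg.pPrimePCore; infer_instance
      refine Cfsg.Lib.Core.le_pCore ?_
      have h2 := (Cfsg.Lib.Core.pCore_isPGroup 2 (C ⧸ Cfsg.pPrimeCore 2 C)).comap_of_ker_isPGroup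
        (QuotientGroup.mk' (Cfsg.pPrimeCore 2 C))
        (by rw [QuotientGroup.ker_mk', ← hN, hNb]; exact IsPGroup.of_bot)
      exact h2
    · intro x hx
      show QuotientGroup.mk' _ x ∈ Cfsg.pCore 2 (C ⧸ Cfsg.pPrimeCore 2 C)
      haveI : ((Cfsg.pCore 2 C).map (QuotientGroup.mk' (Cfsg.pPrimeCore 2 C))).Normal :=
        Subgroup.Normal.map inferInstance _ (QuotientGroup.mk'_surjective _)
      exact Cfsg.Lib.Core.le_pCore ((Cfsg.Lib.Core.pCore_isPGroup 2 C).map _)
        (Subgroup.mem_map_of_mem _ hx)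
  obtain ⟨P⟩ : Nonempty (Sylow 2 ↥(Cfsg.pPrimePCore 2 C)) := inferInstance
  have h := hcon P
  have hP : (P : Subgroup ↥(Cfsg.pPrimePCore 2 C)) = ⊤ := by
    refine (P.3 (Q := ⊤) ?_ le_top).symm
    have h2 : IsPGroup 2 ↥(Cfsg.pPrimePCore 2 C) := hPC ▸ Cfsg.Lib.Core.pCore_isPGroup 2 C
    exact h2.to_subgroup ⊤
  rw [hP, ← MonoidHom.range_eq_map, Subgroup.range_subtype, hPC] at h
  exact h

/-- The data of the centralizer from the hypotheses. -/
theorem exists_act {G : Type*} [Group G] [Finite G] (z : G) (hz : orderOf z = 2)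
    (Q : Subgroup (Subgroup.centralizer ({z} : Set G))) [Q.Normal]
    (hF : Cfsg.generalizedFittingSubgroup (Subgroup.centralizer ({z} : Set G)) = Q)
    (hQ : Cfsg.IsExtraspecial 2 Q) (hcard : Nat.card Q = 2 ^ 9)
    (e : (Subgroup.centralizer ({z} : Set G)) ⧸ Q ≃* Cfsg.Omega (ZMod 2) qp) :
    ∃ D : Act G, D.z = z ∧ D.Q = Q.map (Subgroup.centralizer ({z} : Set G)).subtype := by
  classical
  haveI : Fact (Nat.Prime 2) := ⟨Nat.prime_two⟩
  obtain ⟨Bm, Sm⟩ := exists_space_minus (F := ZMod 2) 3 1 1 aniso_two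
  obtain ⟨Bp, Sp⟩ := exists_space_plus (F := ZMod 2) 4
  have hctx := ctx_of_hyp z hz Q hF hQ
  have hπ : ∀ c : Subgroup.centralizer ({z} : Set G), (e.toMonoidHom.comp (QuotientGroup.mk' Q)) c = 1 ↔
      (c : G) ∈ Q.map (Subgroup.centralizer ({z} : Set G)).subtype := fun c => by
    simp only [MonoidHom.coe_comp, Function.comp_apply, MulEquiv.coe_toMonoidHom,
      MulEquiv.map_eq_one_iff, QuotientGroup.mk'_apply, QuotientGroup.eq_one_iff]
    exact ⟨fun h => ⟨c, h, rfl⟩, fun ⟨y, hy, e'⟩ => Subtype.ext e' ▸ hy⟩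
  have hsurj := e.surjective.comp (QuotientGroup.mk'_surjective Q)
  rcases Cfsg.Lib.Extra.model_cases hQ 3 (by rw [hcard]) with ⟨⟨f⟩⟩ | ⟨⟨f⟩⟩
  · obtain ⟨cls, act, R, hRc, hRle, h1, h2, h3, h4, h5, h7, h8, h9, h10, h11⟩ :=
      exists_action hctx (Cfsg.Lib.Extra.pairForm_nondeg _) (Cfsg.Lib.Extra.plusCoords 4)
        (Cfsg.Lib.Extra.plus_form 4) Sp
        ((Q.equivMapOfInjective _ (Subgroup.centralizer ({z} : Set G)).subtype_injective).symm.trans f)
        (e.toMonoidHom.comp (QuotientGroup.mk' Q)) hsurj hπ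
    have hR := eq_omega Sp (by simp) hRle hRc
    rw [hR] at h8 h9
    exact ⟨⟨z, Q.map (Subgroup.centralizer ({z} : Set G)).subtype, Bp, cls, act, hctx, Sp, h1, h2, h3, h4,
      h5, h7, h8, h9, h10, h11⟩, rfl, rfl⟩
  · exfalso
    obtain ⟨cls, act, R, hRc, hRle, -⟩ :=
      exists_action hctx (Cfsg.Lib.Extra.pairForm_nondeg _) (Cfsg.Lib.Extra.minusCoords 3)
        (Cfsg.Lib.Extra.minus_form 3) Sm
        ((Q.equivMapOfInjective _ (Subgroup.centralizer ({z} : Set G)).subtype_injective).symm.trans f)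
        (e.toMonoidHom.comp (QuotientGroup.mk' Q)) hsurj hπ
    have h := Subgroup.card_dvd_of_le hRle
    rw [hRc, card_minus_eight, card_omega_qp] at h
    norm_num at h

/-- The first Conway group from the centralizer of an involution. -/
theorem iso_co1_of_centralizer {G : Type*} [Group G] [Finite G] (hO : Cfsg.oddCore G = ⊥)
    (hZ : Subgroup.center G = ⊥) (t : G) (ht : orderOf t = 2)
    (hcon : Cfsg.IsPConstrained 2 (Subgroup.centralizer ({t} : Set G)))
    (hQ : Cfsg.IsExtraspecial 2 (Cfsg.pCore 2 (Subgroup.centralizer ({t} : Set G))))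
    (hcard : Nat.card (Cfsg.pCore 2 (Subgroup.centralizer ({t} : Set G))) = 2 ^ 9)
    (e : (Subgroup.centralizer ({t} : Set G)) ⧸ Cfsg.pCore 2 (Subgroup.centralizer ({t} : Set G)) ≃*
      Cfsg.Omega (ZMod 2) qp) : Cfsg.Spor.IsoCo1 G := by
  haveI : Fact (Nat.Prime 2) := ⟨Nat.prime_two⟩
  have hF := Cfsg.Lib.Core.generalizedFitting_eq_pCore_iff.2 (centralizer_core_le hcon (fun M hM h => @omega_odd_normal M hM h) e)
  obtain ⟨D, hDz, hDQ⟩ := exists_act t ht _ hF hQ hcard e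
  obtain ⟨g, hg, hne⟩ := exists_fused D hO hZ
  rw [hDz] at hg hne
  rw [hDQ] at hg
  obtain ⟨y, hy, hy'⟩ := hg
  refine Cfsg.Lib.CoOneUniq.iso_co1_of_hyp t ht _ hF hQ hcard e ⟨g, ⟨hy' ▸ y.2, ?_⟩, hne⟩
  have hy2 : y = ⟨g * t * g⁻¹, hy' ▸ y.2⟩ := Subtype.ext hy'
  exact hy2 ▸ hy

end Cfsg.Lib.CoOneFused
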