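import Cfsg.Agent.Lib.Extra.CoOneUniq.FrameLetters
import Cfsg.Agent.Lib.CoOne.OctadKernel

/-!
# The centralizer is generated by its monomial part and the element of the sextet
-/

set_option autoImplicit false
set_option maxRecDepth 100000

namespace Cfsg.Lib.CoOneUniq

open Cfsg Cfsg.Lib.Concrete Cfsg.Lib.CoOne FrameData

theorem line_check : lineWords.length = 70 ∧ lineWords.all (fun w => w.all fun k => decide (k < mons.length) &&
      pimg (monAt k).1 m24BaseOctad == m24BaseOctad) = true ∧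
    (lineWords.map fun w => evW (w.map some ++ [none]) topCode).Nodup := by decide +kernel

/-- The monomial part and the sextet element generate the centralizer. -/
theorem cZ_gen : N1.subgroupOf cZ ⊔ Subgroup.zpowers (⟨xiEl, xiEl_mem⟩ : ↥cZ) = ⊤ := by
  set P := N1.subgroupOf cZ
  set H := P ⊔ Subgroup.zpowers (⟨xiEl, xiEl_mem⟩ : ↥cZ)
  have : Finite Co0 := Nat.finite_of_card_ne_zero (by rw [card_Co0]; norm_num)
  have hP : P.index ≤ 135 ∧ P.index ≠ 0 := by
    have h1 := Subgroup.index_comap_of_surjective P piZ_surjective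
    have h2 : cCross ≤ P.comap piZ := fun g hg => show (piZ g : Spor.Co1) ∈ N1 from ⟨g.1, hg, rfl⟩
    have h3 := Subgroup.index_dvd_of_le h2
    rw [h1] at h3
    have h4 : cCross.index ≠ 0 := Subgroup.FiniteIndex.index_ne_zero
    exact ⟨(Nat.le_of_dvd (Nat.pos_of_ne_zero h4) h3).trans index_cCross,
      fun h => h4 (Nat.eq_zero_of_zero_dvd (h ▸ h3))⟩
  have hPH : P ≤ H := le_sup_left
  obtain ⟨hlen, hok, hnd⟩ := line_check
  have hk : ∀ w ∈ lineWords, ∀ k ∈ w, k < mons.length ∧ (mel k : Spor.Co1) ∈ cZ := fun w hw k hk' => by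
    have := List.all_eq_true.1 (List.all_eq_true.1 hok w hw) k hk'
    simp only [Bool.and_eq_true, decide_eq_true_eq, beq_iff_eq] at this
    exact ⟨this.1, mel_mem_cZ this.1 this.2⟩
  have hmem : ∀ w : List ℕ, (∀ k ∈ w, k < mons.length ∧ (mel k : Spor.Co1) ∈ cZ) →
      ∃ x : ↥cZ, x ∈ H ∧ (x : Spor.Co1) = wordEl (w.map some ++ [none]) := by
    intro w
    induction w with
    | nil => exact fun _ => ⟨⟨xiEl, xiEl_mem⟩, Subgroup.mem_sup_right (Subgroup.mem_zpowers _),
        (mul_one xiEl).symm⟩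
    | cons k w ih =>
      intro h
      obtain ⟨x, hx, e⟩ := ih fun j hj => h j (List.mem_cons_of_mem _ hj)
      refine ⟨⟨_, (h k List.mem_cons_self).2⟩ * x,
        mul_mem (Subgroup.mem_sup_left (Subgroup.mem_subgroupOf.2 (mel k).2)) hx, ?_⟩
      rw [Subgroup.coe_mul, e]
      rfl
  have hin : ∀ i : Fin lineWords.length, ∃ x : ↥H,
      fcode ((x : ↥cZ) : Spor.Co1) = evW ((lineWords.get i).map some ++ [none]) topCode := fun i => by
    obtain ⟨x, hx, e⟩ := hmem _ (hk _ (List.get_mem lineWords i))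
    refine ⟨⟨x, hx⟩, ?_⟩
    rw [show ((⟨x, hx⟩ : ↥H) : ↥cZ) = x from rfl, e]
    refine fcode_wordEl _ ?_
    simp only [wordOK, List.all_append, List.all_map, List.all_cons, List.all_nil, Bool.and_true,
      Bool.and_eq_true, List.all_eq_true]
    exact ⟨fun j hj => by simpa [Nat.blt_eq] using (hk _ (List.get_mem lineWords i) j hj).1, by simp [mons_len]⟩
  choose f hf using hin
  have : (P.subgroupOf H).FiniteIndex := ⟨fun h0 => hP.2 (by
    rw [← Subgroup.relIndex_mul_index hPH, Subgroup.relIndex, h0, zero_mul])⟩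
  have hcard : 70 ≤ P.relIndex H := by
    have := Nat.card_le_card_of_injective (fun i => (QuotientGroup.mk (f i) : ↥H ⧸ P.subgroupOf H))
      fun i j hij => by
        have hm : (((f i : ↥cZ) : Spor.Co1))⁻¹ * ((f j : ↥cZ) : Spor.Co1) ∈ N1 :=
          (QuotientGroup.eq (s := P.subgroupOf H) (a := f i) (b := f j)).1 hij
        have he : fcode ((f i : ↥cZ) : Spor.Co1) = fcode ((f j : ↥cZ) : Spor.Co1) := fcode_eq_iff.2 hm
        rw [hf, hf] at he
        have hi : i.val < (lineWords.map fun w => evW (w.map some ++ [none]) topCode).length := by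
          rw [List.length_map]; exact i.isLt
        have hj : j.val < (lineWords.map fun w => evW (w.map some ++ [none]) topCode).length := by
          rw [List.length_map]; exact j.isLt
        refine Fin.ext ((hnd.getElem_inj_iff (hi := hi) (hj := hj)).1 ?_)
        rw [List.getElem_map, List.getElem_map]
        exact he
    rwa [Nat.card_fin, hlen, ← Subgroup.index] at this
  have h1 := Subgroup.relIndex_mul_index hPH
  have h5 : H.index ≠ 0 := fun h => hP.2 (by rw [← h1, h, mul_zero])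
  have h6 : H.index * 70 ≤ 135 := le_trans (Nat.mul_le_mul_left _ hcard) (by rw [mul_comm, h1]; exact hP.1)
  exact Subgroup.index_eq_one.1 (by omega)

namespace Glue

variable {X : Type*} [Group X] (G : Glue X)

/-- The glued group is generated by the monomial part and the sextet element. -/
theorem gen_e : G.GN ⊔ Subgroup.zpowers G.e = ⊤ := by
  refine top_unique (G.gen ▸ sup_le le_sup_left fun c hc => ?_)
  set M := G.GN ⊔ Subgroup.zpowers G.e
  have h : N1.subgroupOf cZ ⊔ Subgroup.zpowers (⟨xiEl, xiEl_mem⟩ : ↥cZ) ≤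
      ((M ⊓ G.GC).map G.pr).subgroupOf cZ := by
    refine sup_le (fun n hn => ?_) (Subgroup.zpowers_le.2 ?_)
    · obtain ⟨a, ha, e⟩ := G.surjN _ (Subgroup.mem_subgroupOf.1 hn)
      exact ⟨a, ⟨Subgroup.mem_sup_left ha, G.inter a ha (by rw [e]; exact n.2)⟩, e⟩
    · exact ⟨G.e, ⟨Subgroup.mem_sup_right (Subgroup.mem_zpowers _), G.e_mem⟩, G.pr_e⟩
  rw [cZ_gen] at h
  obtain ⟨d, ⟨hd, hdC⟩, e⟩ := h (Subgroup.mem_top (⟨G.pr c, G.mapC c hc⟩ : ↥cZ))
  rwa [← show d = c from inv_mul_eq_one.1 (G.injC _ (mul_mem (inv_mem hdC) hc)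
    (by rw [map_mul, map_inv, e]; exact inv_mul_cancel _))]

end Glue

end Cfsg.Lib.CoOneUniq
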