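import Cfsg.Agent.Lib.Extra.CoOneUniq.FrameStages
import Cfsg.Agent.Lib.Extra.CoOneUniq.FrameGen

/-!
# The completion bound

The covering of the frame graph given by a glued group is trivial: the orbits are lifted layer by
layer, so the projection of the glued group is injective.
-/

set_option autoImplicit false
set_option maxRecDepth 100000

namespace Cfsg.Lib.CoOneUniq

open Cfsg Cfsg.Lib.Concrete Cfsg.Lib.CoOne FrameData

theorem kinds_sep : ∀ i j : Fin 6, kindC (repCode i.val) = kindC (repCode j.val) →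
    i = j ∨ (i.val < 2 ∧ j.val < 2) ∨ (i = 2 ∧ j = 3) ∨ (i = 3 ∧ j = 2) := by
  intro i j h
  have hk : ∀ n : Fin 6, kindC (repCode n.val) = [0, 0, 8, 8, 25, 12].getD n.val 0 := fun n => by
    rw [← rep_kinds.1, List.getD_eq_getElem _ _ (by rw [List.length_map, List.length_range]; exact n.isLt),
      List.getElem_map, List.getElem_range]
  rw [hk, hk] at h
  exact (by decide : ∀ i j : Fin 6, [0, 0, 8, 8, 25, 12].getD i.val 0 = [0, 0, 8, 8, 25, 12].getD j.val 0 →
    i = j ∨ (i.val < 2 ∧ j.val < 2) ∨ (i = 2 ∧ j = 3) ∨ (i = 3 ∧ j = 2)) i j h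

namespace Glue

variable {X : Type*} [Group X] {G : Glue X}

/-- The lower neighbours, with the stabiliser. -/
def LowR (G : Glue X) (i : Fin 6) : Prop :=
  G.Fix i ∧ ∀ k < nLow.getD i.val 0, ∀ d, d + 1 = lev i → G.NearR i (nodeAt i.val k) d

theorem fix_zero : G.Fix 0 := by
  intro a ha _
  rw [wRep_zero, mul_one]
  show a⁻¹ * 1 ∈ G.GN
  rw [mul_one]
  exact inv_mem ha

theorem sep_one {a b : X} (ha : a ∈ G.GN) (hb : b ∈ G.GN) :
    G.pos (a * G.wRep 1) ≠ G.pos (b * G.wRep 0) := by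
  intro h
  rw [wRep_zero, pos_eq_iff, mul_one] at h
  refine rep_kinds.2.1 ?_
  show repCode ((1 : Fin 6).val) = topCode
  rw [← G.pos_wRep 1, ← G.pos_one, pos_eq_iff, mul_one]
  have h' := mul_mem h (inv_mem (G.mapN _ (mul_mem (inv_mem ha) hb)))
  rwa [← map_inv, ← map_mul, show (a * G.wRep 1)⁻¹ * b * (a⁻¹ * b)⁻¹ = (G.wRep 1)⁻¹ by group] at h'

theorem sep_two (h2 : LowR G 2) {a b : X} (ha : a ∈ G.GN) (hb : b ∈ G.GN) :
    G.pos (a * G.wRep 2) ≠ G.pos (b * G.wRep 3) := by
  intro h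
  set c := b⁻¹ * a
  have hc : c ∈ G.GN := mul_mem (inv_mem hb) ha
  have hp : G.pos (c * G.wRep 2) = G.pos (G.wRep 3) := by
    rw [show c * G.wRep 2 = b⁻¹ * (a * G.wRep 2) from mul_assoc _ _ _, pos_mul, h, ← pos_mul, inv_mul_cancel_left]
  obtain ⟨hnd, hn2, hn3⟩ := low_distinct
  have key : ∀ k : Fin 35, ∃ m : Fin 7, fact (G.pr c) (nodeAt 2 k.val) = nodeAt 3 m.val ∧
      ∃ r : Spor.Co1, nodeAt 2 k.val = fcode r := by
    intro k
    have hk : k.val < nLow.getD ((2 : Fin 6).val) 0 := by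
      show k.val < nLow.getD 2 0
      rw [hn2]; exact k.isLt
    obtain ⟨y, -, hadj, hy⟩ := h2.2 k.val hk 1 rfl
    obtain ⟨y', hy', hyp⟩ := (hadj.symm.smul c).exists_over hp
    rw [pos_mul, hy] at hyp
    have hkind : kindC (G.pos y') = kappa ((3 : Fin 6).val) := by
      have h0 : kindC (nodeAt 2 k.val) = kappa 2 :=
        (kind_low (i := 2) le_rfl (lt_trans k.isLt (by norm_num))).2 hk
      rw [hyp, ← hy, pos, kind_N1 (G.mapN c hc), ← pos, hy]
      exact h0
    obtain ⟨m, hm, e⟩ := nb_low (G := G) (i := 3) le_rfl hy' hkind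
    refine ⟨⟨m, ?_⟩, hyp.symm.trans e, ⟨_, hy.symm⟩⟩
    rw [← hn3]
    exact hm
  choose f hf using key
  have hinj : Function.Injective f := by
    intro k l e
    obtain ⟨r, hr⟩ := (hf k).2
    obtain ⟨r', hr'⟩ := (hf l).2
    have h1 : fact (G.pr c) (fcode r) = fact (G.pr c) (fcode r') := by
      rw [← hr, ← hr', (hf k).1, (hf l).1, e]
    have h2 : nodeAt 2 k.val = nodeAt 2 l.val := by
      rw [hr, hr', ← fact_inv_fact (G.pr c) (r := r), h1, fact_inv_fact]
    have hk' : k.val < ((List.range 35).map (nodeAt 2)).length := by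
      rw [List.length_map, List.length_range]; exact k.isLt
    have hl' : l.val < ((List.range 35).map (nodeAt 2)).length := by
      rw [List.length_map, List.length_range]; exact l.isLt
    refine Fin.ext ((hnd.getElem_inj_iff (hi := hk') (hj := hl')).1 ?_)
    rw [List.getElem_map, List.getElem_map, List.getElem_range, List.getElem_range]
    exact h2
  have := Fintype.card_le_of_injective f hinj
  simp at this

/-- The points of bounded level are separated by their frames. -/
theorem inj_of {L : ℕ} (hf : ∀ i : Fin 6, lev i ≤ L → G.Fix i) (h2 : 2 ≤ L → LowR G 2) : G.InjR L := by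
  rintro x y ⟨i, hi, a, ha, hx⟩ ⟨j, hj, b, hb, hy⟩ h
  rw [hx.pos, hy.pos] at h
  have hk : kindC (repCode i.val) = kindC (repCode j.val) := by
    have h' := congrArg kindC h
    rwa [pos_mul, pos_mul, pos, pos, kind_N1 (G.mapN a ha), kind_N1 (G.mapN b hb), ← pos, ← pos, G.pos_wRep,
      G.pos_wRep] at h'
  suffices hh : i = j by
    subst hh
    refine hx.trans (EqV.trans ?_ hy.symm)
    have hp : G.pos (b⁻¹ * a * G.wRep i) = G.pos (G.wRep i) := by
      rw [mul_assoc, pos_mul, h, ← pos_mul, inv_mul_cancel_left]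
    have := (hf i hi _ (mul_mem (inv_mem hb) ha) hp).smul b
    rwa [mul_assoc, mul_inv_cancel_left] at this
  rcases kinds_sep i j hk with e | ⟨e, e'⟩ | ⟨e, e'⟩ | ⟨e, e'⟩
  · exact e
  · have h01 : ∀ n : Fin 6, n.val < 2 → n = 0 ∨ n = 1 := by decide
    rcases h01 i e with rfl | rfl <;> rcases h01 j e' with rfl | rfl
    · rfl
    · exact absurd h.symm (sep_one hb ha)
    · exact absurd h (sep_one ha hb)
    · rfl
  · subst e; subst e'
    exact absurd h (sep_two (h2 (le_trans le_rfl hi)) ha hb)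
  · subst e; subst e'
    exact absurd h.symm (sep_two (h2 (le_trans le_rfl hj)) hb ha)

/-- The lower neighbours of the representatives of a level, and their stabilisers. -/
theorem low_step {i : Fin 6} {d : ℕ} (hd : d + 1 = lev i) (hI : G.InjR d)
    (hB : ∀ j : Fin 6, lev j = d → j ≠ 0 → ∀ k < nSame.getD j.val 0, G.NearR j (nodeAt j.val k) d) :
    LowR G i := by
  have hi : i ≠ 0 := by rintro rfl; exact Nat.succ_ne_zero d hd
  have hE : G.EdgeOK := edgeOK
  by_cases h2 : 2 ≤ lev i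
  · have hroot : ∀ k ∈ rootTab.getD i.val [], k < nLow.getD i.val 0 → G.NearR i (nodeAt i.val k) d := by
      intro k hk hlt
      have h := List.all_eq_true.1 (low_roots i.val (mem_two h2)) k hk
      simp only [Bool.or_eq_true, beq_iff_eq, List.any_eq_true, Bool.and_eq_true] at h
      rcases h with (h | h) | ⟨⟨n, st, t⟩, hm, -, ht⟩
      · have hle : nLow.getD i.val 0 ≤ k := by simpa [Nat.ble_eq] using h
        exact absurd hlt (not_lt.2 hle)
      · exact h ▸ near_zero hi hd
      · exact ht ▸ (chain_target hE hd hI h2 hB hm).1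
    have hle : nLow.getD i.val 0 ≤ 3542 := by
      have := high_same.2.2.2 i.val (mem_pos hi)
      omega
    have hnodes := tree_sound hi hle (fun g hg => stab_fix hE hi hd hI hB hg) hroot
    refine ⟨fun a ha hp => ?_, fun k hk d' hd' => ?_⟩
    · refine inj_of_low hE hI (near_zero hi hd) ((kind_low h2 (by norm_num)).2 ?_) (fun y hy hk => ?_) ha hp
      · exact (high_same.2.2.2 i.val (mem_pos hi)).1
      · obtain ⟨k, hk', e⟩ := nb_low h2 hy hk
        rw [e]
        exact hnodes k hk'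
    · obtain rfl : d' = d := by omega
      exact hnodes k hk
  · have h1 : i = 1 := (lev_bounds i).2.2.1 (by omega)
    subst h1
    refine ⟨fun a ha hp => ?_, fun k hk d' hd' => ?_⟩
    · rw [wRep_one] at hp ⊢
      exact (hE a ha hp).symm
    · have h : k < nLow.getD 1 0 := hk
      rw [high_same.2.2.1] at h
      obtain rfl : k = 0 := by omega
      exact near_zero hi hd'

/-- The neighbours of the representatives of a level on the same level. -/
theorem same_step {i : Fin 6} {d : ℕ} (hd : d + 1 = lev i) (hI : G.InjR d)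
    (hBd : ∀ j : Fin 6, lev j = d → j ≠ 0 → ∀ k < nSame.getD j.val 0, G.NearR j (nodeAt j.val k) d)
    (hlow : LowR G i)
    (hC : ∀ j : Fin 6, lev j = d → j ≠ 0 → ∀ k < 3542, G.NearR j (nodeAt j.val k) (d + 1)) :
    ∀ k < nSame.getD i.val 0, G.NearR i (nodeAt i.val k) (d + 1) := by
  have hi : i ≠ 0 := by rintro rfl; exact Nat.succ_ne_zero d hd
  have hE : G.EdgeOK := edgeOK
  refine tree_sound hi (high_same.2.2.2 i.val (mem_pos hi)).2.2 (fun g hg => stab_fix hE hi hd hI hBd hg) ?_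
  intro k hk hlt
  have h := List.all_eq_true.1 (cert_ok i.val (mem_pos hi)).2.2.2.1 k hk
  simp only [Bool.or_eq_true, beq_iff_eq, List.any_eq_true, Bool.and_eq_true] at h
  rcases h with ((h | ⟨⟨n, st, t⟩, hm, -, ht⟩) | ⟨⟨y, s, u⟩, hm, hu, -⟩) | ⟨⟨j, b, t, u⟩, -, -, hb⟩
  · exact h ▸ near_mono (near_zero hi hd) (Nat.le_succ d)
  · by_cases h2 : 2 ≤ lev i
    · exact ht ▸ near_mono (chain_target hE hd hI h2 hBd hm).1 (Nat.le_succ d)
    · have h1 : i = 1 := (lev_bounds i).2.2.1 (by omega)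
      subst h1
      exact absurd hm (by simp [chainTab])
  · have hs := List.all_eq_true.1 (cert_ok i.val (mem_pos hi)).2.1 _ hm
    simp only [Bool.and_eq_true, decide_eq_true_eq, beq_iff_eq] at hs
    obtain ⟨⟨hy, hst⟩, hto⟩ := hs
    rw [← hu, ← hto]
    exact step_sound hE hd hI (fun _ => Nat.le_add_left 1 d) hC hst (hlow.2 y hy d hd)
  · have hle : nSame.getD i.val 0 ≤ k := by simpa [Nat.ble_eq] using hb
    exact absurd hlt (not_lt.2 hle)

/-- All neighbours of the representatives of a level. -/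
theorem up_step {i : Fin 6} {d : ℕ} (hd : d + 1 = lev i) (hI : G.InjR d)
    (hBd : ∀ j : Fin 6, lev j = d → j ≠ 0 → ∀ k < nSame.getD j.val 0, G.NearR j (nodeAt j.val k) d)
    (hI' : G.InjR (d + 1)) (hsame : ∀ k < nSame.getD i.val 0, G.NearR i (nodeAt i.val k) (d + 1))
    (hup : ∀ j : Fin 6, lev j = d + 2 → LowR G j) :
    ∀ k < 3542, G.NearR i (nodeAt i.val k) (d + 2) := by
  have hi : i ≠ 0 := by rintro rfl; exact Nat.succ_ne_zero d hd
  have hE : G.EdgeOK := edgeOK
  refine tree_sound hi le_rfl (fun g hg => stab_fix hE hi hd hI hBd hg) ?_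
  intro k hk hlt
  by_cases hs : k < nSame.getD i.val 0
  · exact near_mono (hsame k hs) (Nat.le_succ _)
  have h := List.all_eq_true.1 (cert_ok i.val (mem_pos hi)).2.2.2.1 k hk
  simp only [Bool.or_eq_true, beq_iff_eq, List.any_eq_true, Bool.and_eq_true] at h
  rcases h with ((h | ⟨⟨n, st, t⟩, hm, -, ht⟩) | ⟨⟨y, s, u⟩, hm, hu, hb⟩) | ⟨⟨j, b, t, u⟩, hm, hu, -⟩
  · exact h ▸ near_mono (near_zero hi hd) (by omega)
  · by_cases h2 : 2 ≤ lev i
    · exact ht ▸ near_mono (chain_target hE hd hI h2 hBd hm).1 (by omega)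
    · have h1 : i = 1 := (lev_bounds i).2.2.1 (by omega)
      subst h1
      exact absurd hm (by simp [chainTab])
  · exact absurd (by simpa [Nat.blt_eq] using hb) hs
  · have hc := List.all_eq_true.1 (cert_ok i.val (mem_pos hi)).2.2.1 _ hm
    simp only [Bool.and_eq_true, decide_eq_true_eq, beq_iff_eq] at hc
    obtain ⟨⟨⟨⟨⟨hj, hl⟩, hb⟩, ht⟩, hpos⟩, hbc⟩ := hc
    set J : Fin 6 := ⟨j, hj⟩
    have hl' : lev J = d + 2 := by
      show levN j = d + 2
      have h1 : levN j = levN i.val + 1 := hl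
      have h2 : d + 1 = levN i.val := hd
      omega
    have hN : G.NearR J (nodeAt j t) (d + 1) := (hup J hl').2 t ht (d + 1) (by omega)
    have := Near.up hI' hd.ge hl'.le (G.lN_mem (mel b)) hN
      (by rw [G.fact_lN hb, hbc, G.pos_wRep])
    rw [show G.lN (mel b) * G.wRep J = G.wordX (some b :: wordOf j) from (G.wordX_cons _ _).symm ▸ rfl,
      G.pos_wordX (wordOK_cons hb (wordOK_wordOf hj)), hpos] at this
    exact hu ▸ this

/-- All neighbours of every representative are known. -/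
theorem all_known : G.InjR 3 ∧
    ∀ i : Fin 6, i ≠ 0 → ∀ k < 3542, G.NearR i (nodeAt i.val k) 3 := by
  have hz : ∀ i : Fin 6, lev i ≤ 0 → i = 0 := fun i h => (lev_bounds i).2.1.1 (Nat.le_zero.1 h)
  have I0 : G.InjR 0 := inj_of (fun i hi => hz i hi ▸ fix_zero) (fun h => absurd h (by norm_num))
  have B0 : ∀ j : Fin 6, lev j = 0 → j ≠ 0 → ∀ n : ℕ, ∀ k < n, ∀ d, G.NearR j (nodeAt j.val k) d :=
    fun j hj hne => absurd ((lev_bounds j).2.1.1 hj) hne
  have L1 : ∀ i, lev i = 1 → LowR G i := fun i hi =>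
    low_step hi.symm I0 fun j hj hne k hk => B0 j hj hne _ k hk 0
  have F : ∀ {L : ℕ}, (∀ i, lev i = L + 1 → LowR G i) → (∀ i, lev i ≤ L → G.Fix i) →
      ∀ i, lev i ≤ L + 1 → G.Fix i := fun hL h i hi =>
    if e : lev i ≤ _ then h i e else (hL i (by omega)).1
  have F1 := F L1 (fun i hi => hz i hi ▸ fix_zero)
  have I1 : G.InjR 1 := inj_of F1 (fun h => absurd h (by norm_num))
  have B1 : ∀ i, lev i = 1 → ∀ k < nSame.getD i.val 0, G.NearR i (nodeAt i.val k) 1 := fun i hi =>
    same_step hi.symm I0 (fun j hj hne k hk => B0 j hj hne _ k hk 0) (L1 i hi)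
      fun j hj hne k hk => B0 j hj hne _ k hk 1
  have L2 : ∀ i, lev i = 2 → LowR G i := fun i hi => low_step hi.symm I1 fun j hj _ => B1 j hj
  have F2 := F L2 F1
  have I2 : G.InjR 2 := inj_of F2 (fun _ => L2 2 rfl)
  have C1 : ∀ i, lev i = 1 → ∀ k < 3542, G.NearR i (nodeAt i.val k) 2 := fun i hi =>
    up_step hi.symm I0 (fun j hj hne k hk => B0 j hj hne _ k hk 0) I1 (B1 i hi) L2
  have B2 : ∀ i, lev i = 2 → ∀ k < nSame.getD i.val 0, G.NearR i (nodeAt i.val k) 2 := fun i hi =>
    same_step hi.symm I1 (fun j hj _ => B1 j hj) (L2 i hi) fun j hj _ => C1 j hj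
  have L3 : ∀ i, lev i = 3 → LowR G i := fun i hi => low_step hi.symm I2 fun j hj _ => B2 j hj
  have I3 : G.InjR 3 := inj_of (F L3 F2) (fun _ => L2 2 rfl)
  have C2 : ∀ i, lev i = 2 → ∀ k < 3542, G.NearR i (nodeAt i.val k) 3 := fun i hi =>
    up_step hi.symm I1 (fun j hj _ => B1 j hj) I2 (B2 i hi) L3
  have B3 : ∀ i, lev i = 3 → ∀ k < nSame.getD i.val 0, G.NearR i (nodeAt i.val k) 3 := fun i hi =>
    same_step hi.symm I2 (fun j hj _ => B2 j hj) (L3 i hi) fun j hj _ => C2 j hj
  refine ⟨I3, fun i hi k hk => ?_⟩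
  have hcases : ∀ i : Fin 6, i ≠ 0 → lev i = 1 ∨ lev i = 2 ∨ (lev i = 3 ∧ (i.val = 4 ∨ i.val = 5)) := by decide
  rcases hcases i hi with h | h | ⟨h, h'⟩
  · exact near_mono (C1 i h k hk) (by norm_num)
  · exact C2 i h k hk
  · refine B3 i h k ?_
    rcases h' with e | e <;> rw [e]
    · exact high_same.1.symm ▸ hk
    · exact high_same.2.1.symm ▸ hk

/-- The lifted points are closed under the neighbours. -/
theorem closed {x y : X} (hx : G.InR 3 x) (h : G.Adj x y) : G.InR 3 y := by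
  obtain ⟨i, hi, a, ha, hx⟩ := hx
  by_cases h0 : i = 0
  · subst h0
    have hx' : G.EqV x a := by rwa [wRep_zero, mul_one] at hx
    obtain ⟨c, hc, d, hd, e⟩ := h.congr hx' (EqV.refl y)
    refine InS.congr (InS.self (w := G.wRep) 1 ((lev_bounds 1).1) (mul_mem ha hc)) ?_
    rw [wRep_one, e]
    exact EqV.mul_right _ hd
  · refine closure_orbit edgeOK (fun z hz => ?_) ha hx h
    obtain ⟨k, hk, e⟩ := nb_index h0 hz
    rw [e]
    exact all_known.2 i h0 k hk

/-- The completion bound: the projection of a glued group is injective. -/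
theorem pr_injective (G : Glue X) : Function.Injective G.pr := by
  let S : Subgroup X :=
    { carrier := {g | ∀ x, G.InR 3 x → G.InR 3 (x * g) ∧ G.InR 3 (x * g⁻¹)}
      one_mem' := fun x hx => by simp [hx]
      mul_mem' := fun {g h} hg hh x hx => ⟨by rw [← mul_assoc]; exact (hh _ (hg x hx).1).1,
        by rw [mul_inv_rev, ← mul_assoc]; exact (hg _ (hh x hx).2).2⟩
      inv_mem' := fun {g} hg x hx => by rw [inv_inv]; exact (hg x hx).symm }
  have hS : ⊤ ≤ S := by
    rw [← G.gen_e]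
    refine sup_le (fun a ha x hx => ⟨hx.congr (EqV.mul_right x ha), hx.congr (EqV.mul_right x (inv_mem ha))⟩)
      (Subgroup.zpowers_le.2 fun x hx => ?_)
    have hadj : G.Adj x (x * G.e) := ⟨1, one_mem _, 1, one_mem _, by group⟩
    rw [inv_eq_of_mul_eq_one_right G.e_sq]
    exact ⟨closed hx hadj, closed hx hadj⟩
  refine (injective_iff_map_eq_one _).2 fun x hx => ?_
  have hxI : G.InR 3 x := by
    simpa using (hS (Subgroup.mem_top x) 1 (InR.one.mono (Nat.zero_le 3))).1
  have he : G.EqV 1 x := all_known.1 _ _ (InR.one.mono (Nat.zero_le 3)) hxI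
    (by rw [pos, pos, map_one, hx])
  refine G.injN x ?_ hx
  have he' : (1 : X)⁻¹ * x ∈ G.GN := he
  rwa [inv_one, one_mul] at he'

end Glue

/-- The completion bound. -/
theorem glue_injective {X : Type*} [Group X] (G : Glue X) : Function.Injective G.pr :=
  G.pr_injective

end Cfsg.Lib.CoOneUniq
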