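import Cfsg.Agent.Lib.Extra.CoOneUniq.Norm
import Cfsg.Agent.Lib.Extra.CoOneUniq.FrameInduct
import Cfsg.Agent.Lib.Extra.Wide.FromHyp
import Cfsg.Agent.Lib.Extra.Wide.Numbers
import Cfsg.Agent.S5388

/-!
# The data of the first Conway group in monomial coordinates

The half is spanned by the sign elements of four octads missing the base octad; the abelian subgroup
is then the group of all sign elements and its normalizer is the monomial group.
-/

set_option autoImplicit false
set_option maxRecDepth 100000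
set_option linter.style.haveILetI false
set_option linter.unusedSectionVars false

namespace Cfsg.Lib.CoOneUniq

open Cfsg Module Cfsg.Lib.Extra.Wide Cfsg.Lib.CoOneLocal Cfsg.Lib.Concrete Cfsg.Lib.CoOne
open scoped Matrix Pointwise symmDiff

/-- The data from the hypotheses of Conway type. -/
theorem exists_data_of_hyp {G : Type*} [Group G] [Finite G] (z : G) (hz : orderOf z = 2)
    (Q : Subgroup (Subgroup.centralizer ({z} : Set G))) [Q.Normal]
    (hF : Cfsg.generalizedFittingSubgroup (Subgroup.centralizer ({z} : Set G)) = Q)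
    (hQ : Cfsg.IsExtraspecial 2 Q) (hcard : Nat.card Q = 2 ^ 9)
    (e : (Subgroup.centralizer ({z} : Set G)) ⧸ Q ≃* Cfsg.Omega (ZMod 2) (Cfsg.quadFormPlus 4 (ZMod 2)))
    (hnwc : ∃ g : G, (∃ hq : g * z * g⁻¹ ∈ Subgroup.centralizer ({z} : Set G),
      (⟨g * z * g⁻¹, hq⟩ : Subgroup.centralizer ({z} : Set G)) ∈ Q) ∧ g * z * g⁻¹ ≠ z) :
    ∃ D : Data G I8, D.qf = Cfsg.quadFormPlus 4 (ZMod 2) ∧ D.z = z ∧
      D.Q = Q.map (Subgroup.centralizer ({z} : Set G)).subtype := by
  classical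
  haveI : Fact (Nat.Prime 2) := ⟨Nat.prime_two⟩
  obtain ⟨Bm, Sm⟩ := Cfsg.Lib.Linear.Orth.exists_space_minus (F := ZMod 2) 3 1 1
    Cfsg.Lib.Extra.Wide.aniso_two
  obtain ⟨Bp, Sp⟩ := Cfsg.Lib.Linear.Orth.exists_space_plus (F := ZMod 2) 4
  rcases Cfsg.Lib.Extra.model_cases hQ 3 (by rw [hcard]) with ⟨⟨f⟩⟩ | ⟨⟨f⟩⟩
  · exact (Cfsg.Lib.Extra.Wide.exists_data_eq z hz Q hF hQ (Cfsg.Lib.Extra.pairForm_nondeg _)
      (Cfsg.Lib.Extra.plusCoords 4) (Cfsg.Lib.Extra.plus_form 4) Sp (by simp) (by simp; decide)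
      f e hnwc).2 rfl
  · exfalso
    have hΩ := Cfsg.Lib.Extra.Wide.two_mul_card_omega Sp (by simp)
    rw [Cfsg.Lib.Extra.Wide.card_plus_eight] at hΩ
    have h := (Cfsg.Lib.Extra.Wide.exists_data z hz Q hF hQ (Cfsg.Lib.Extra.pairForm_nondeg _)
      (Cfsg.Lib.Extra.minusCoords 3) (Cfsg.Lib.Extra.minus_form 3) Sm (by simp) (by simp; decide)
      f e hnwc).1
    rw [Cfsg.Lib.Extra.Wide.card_minus_eight] at h
    rw [show Nat.card ↥(Cfsg.Omega (ZMod 2) (Cfsg.quadFormPlus 4 (ZMod 2))) = 174182400 by omega] at h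
    norm_num at h

/-- An isometry carrying four independent singular orthogonal vectors to four others. -/
theorem exists_iso_four {q : V8 → ZMod 2} {B : LinearMap.BilinForm (ZMod 2) V8}
    (C : Cfsg.Lib.Linear.Orth.Space q B) (v e : Fin 4 → V8) (hv : LinearIndependent (ZMod 2) v)
    (he : LinearIndependent (ZMod 2) e) (hqv : ∀ i, q (v i) = q (e i))
    (hBv : ∀ i j, B (v i) (v j) = B (e i) (e j)) :
    ∃ h ∈ isometryGroup (ZMod 2) q, ∀ i, h.val *ᵥ v i = e i := by
  suffices ∀ n, n ≤ 4 → ∃ h ∈ isometryGroup (ZMod 2) q, ∀ i : Fin 4, i.val < n → h.val *ᵥ v i = e i by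
    obtain ⟨h, hh, hi⟩ := this 4 le_rfl
    exact ⟨h, hh, fun i => hi i i.isLt⟩
  intro n
  induction n with
  | zero => exact fun _ => ⟨1, one_mem _, fun i hi => absurd hi (Nat.not_lt_zero _)⟩
  | succ n ih =>
    intro hn
    obtain ⟨h, hh, hprev⟩ := ih (by omega)
    set k : Fin 4 := ⟨n, by omega⟩
    set K := Submodule.span (ZMod 2) (e '' {i : Fin 4 | i.val < n}) with hK
    have hk : k ∉ {i : Fin 4 | i.val < n} := lt_irrefl n
    have hx : h.val *ᵥ v k ∉ K := by
      intro hm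
      have hi : ∀ i ∈ {i : Fin 4 | i.val < n}, e i = (Matrix.mulVecLin h.val ∘ v) i := fun i hi => (hprev i hi).symm
      rw [hK, Set.image_congr hi, Set.image_comp, Submodule.span_image] at hm
      obtain ⟨w, hw, e'⟩ := hm
      rw [Matrix.mulVecLin_apply] at e'
      exact hv.notMem_span_image hk (Cfsg.Lib.Linear.Orth.act_injective h e' ▸ hw)
    have hB : ∀ u ∈ K, B u (h.val *ᵥ v k) = B u (e k) := by
      intro u hu
      induction hu using Submodule.span_induction with
      | mem u hu =>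
        obtain ⟨i, hi, rfl⟩ := hu
        rw [← hBv i k, ← hprev i hi, C.B_act hh]
      | zero => simp
      | add u w _ _ hu hw => simp only [map_add, LinearMap.add_apply, hu, hw]
      | smul a u _ hu => simp only [map_smul, LinearMap.smul_apply, hu]
    have hq : q (h.val *ᵥ v k) = q (e k) := by
      rw [← hqv k]; exact Cfsg.Lib.Linear.Orth.mem_iso.1 hh _
    obtain ⟨h', hh', hfix, hmove⟩ := witt_step C K hx (he.notMem_span_image hk) hq hB
    refine ⟨h' * h, mul_mem hh' hh, fun i hi => ?_⟩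
    rw [Cfsg.Lib.Linear.Orth.mul_act]
    rcases Nat.lt_succ_iff_lt_or_eq.1 hi with hlt | heq
    · rw [hprev i hlt]
      exact hfix _ (Submodule.subset_span ⟨i, hlt, rfl⟩)
    · rw [show i = k from Fin.ext heq]
      exact hmove

/-! ### The sign elements -/

theorem diagEl_mul {S T : Finset GolayPt} (hS : S ∈ codeSets) (hT : T ∈ codeSets) :
    diagEl S hS * diagEl T hT = diagEl (S ∆ T) (symmDiff_mem_supports hS hT) := by
  rw [diagEl, diagEl, kq_mul]
  exact kq_congr _ _ _ _ (one_mul 1) (by rw [one_smul])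

theorem diagEl_empty : diagEl ∅ empty_mem_codeSets = 1 := kq_one_empty

theorem diagEl_sq {S : Finset GolayPt} (hS : S ∈ codeSets) : diagEl S hS * diagEl S hS = 1 := by
  rw [diagEl_mul, ← diagEl_empty]
  exact diagEl_congr _ _ (by rw [symmDiff_self, Finset.bot_eq_empty])

theorem diagEl_comm {S T : Finset GolayPt} (hS : S ∈ codeSets) (hT : T ∈ codeSets) :
    Commute (diagEl S hS) (diagEl T hT) := by
  show diagEl S hS * diagEl T hT = diagEl T hT * diagEl S hS
  rw [diagEl_mul, diagEl_mul]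
  exact diagEl_congr _ _ (symmDiff_comm S T)

/-- The group of the sign elements. -/
noncomputable def signGrp : Subgroup Spor.Co1 where
  carrier := {x | ∃ S hS, x = diagEl S hS}
  one_mem' := ⟨∅, empty_mem_codeSets, diagEl_empty.symm⟩
  mul_mem' := by
    rintro _ _ ⟨S, hS, rfl⟩ ⟨T, hT, rfl⟩
    exact ⟨_, _, diagEl_mul hS hT⟩
  inv_mem' := by
    rintro _ ⟨S, hS, rfl⟩
    exact ⟨S, hS, inv_eq_of_mul_eq_one_right (diagEl_sq hS)⟩

theorem signGrp_comm {x y : Spor.Co1} (hx : x ∈ signGrp) (hy : y ∈ signGrp) : Commute x y := by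
  obtain ⟨S, hS, rfl⟩ := hx
  obtain ⟨T, hT, rfl⟩ := hy
  exact diagEl_comm hS hT

theorem zEl_sign : zEl ∈ signGrp := ⟨oSet, oSet_mem, zEl_diag⟩

/-- The monomial group as elements. -/
theorem exists_kq {n : Spor.Co1} (hn : n ∈ N1) : ∃ σ hσ c hc, n = kq σ hσ c hc := by
  obtain ⟨g, hg, rfl⟩ := hn
  obtain ⟨c, hc, hgc⟩ := crossPerm_spec ⟨g, hg⟩
  exact ⟨_, (crossPerm ⟨g, hg⟩).2, c, hc, congrArg kap (co0_ext fun i => Subtype.ext (by rw [hgc, monoCo0_smul]))⟩

theorem kq_mem {σ : Equiv.Perm GolayPt} (hσ : σ ∈ M24) {c : Finset GolayPt} (hc : c ∈ codeSets) :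
    kq σ hσ c hc ∈ N1 := ⟨_, mono_mem_crossStab _ _ _ _, rfl⟩

theorem signGrp_le : signGrp ≤ N1 := by
  rintro _ ⟨S, hS, rfl⟩
  exact kq_mem _ _

theorem N1_normalizes {n x : Spor.Co1} (hn : n ∈ N1) (hx : x ∈ signGrp) : n * x * n⁻¹ ∈ signGrp := by
  obtain ⟨σ, hσ, c, hc, rfl⟩ := exists_kq hn
  obtain ⟨S, hS, rfl⟩ := hx
  exact ⟨_, _, conj_diagEl hσ hc hS⟩

/-- Four octads missing the base octad. -/
def qMask (i : Fin 4) : ℕ := [337856, 628112, 1161408, 2141072].getD i.val 0

/-- The combination of the four words. -/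
def qWord (g : Fin 4 → ZMod 2) : ℕ :=
  (bif g 0 == 1 then qMask 0 else 0) ^^^ (bif g 1 == 1 then qMask 1 else 0) ^^^
    (bif g 2 == 1 then qMask 2 else 0) ^^^ (bif g 3 == 1 then qMask 3 else 0)

theorem qMask_ok : ∀ i : Fin 4, qMask i ∈ octList ∧ qMask i < 16777216 ∧ isCode (qMask i) = true ∧
    qMask i &&& m24BaseOctad = 0 := by decide +kernel

theorem qWord_ok : ∀ g : Fin 4 → ZMod 2, (isCode (qWord g) = true ∧ qWord g < 16777216 ∧
    (none : GolayPt) ∉ mset (qWord g)) ∧ qWord g ≠ outMask ∧ (qWord g = 0 → g = 0) := by decide +kernel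

/-- Membership in the five words separates the points off the octad. -/
theorem qMask_sep : ∀ p : GolayPt, p ∉ oSet → ∀ r : GolayPt, r ≠ p →
    (r ∈ oSet ∨ ∃ i : Fin 4, ¬(r ∈ mset (qMask i) ↔ p ∈ mset (qMask i))) := by decide +kernel

theorem outside_card : 9 ≤ ((Finset.univ : Finset GolayPt) \ oSet).card := by decide +kernel

theorem qMask_code (i : Fin 4) : mset (qMask i) ∈ codeSets :=
  (mset_mem_supports_iff (qMask_ok i).2.1).2 (qMask_ok i).2.2.1

/-- The sign element of a chosen octad. -/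
noncomputable def qEl (i : Fin 4) : Spor.Co1 := diagEl (mset (qMask i)) (qMask_code i)

theorem qEl_mem (i : Fin 4) : ∃ h : qEl i ∈ cZ, (⟨qEl i, h⟩ : ↥cZ) ∈ qZ := by
  obtain ⟨j, hj⟩ := exists_oW (qMask_code i) fun p hp h => by
    rw [mem_mset] at h hp
    have h1 : (qMask i &&& m24BaseOctad).testBit (gidx p).val = true := by rw [Nat.testBit_and, h, hp]; rfl
    rw [(qMask_ok i).2.2.2, Nat.zero_testBit] at h1
    exact Bool.false_ne_true h1
  obtain ⟨k, hk⟩ := exists_fx (σ := 1) (one_mem _)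
  obtain ⟨h, hq⟩ := kE_mem k j
  have e : kE k j = qEl i := kq_congr _ _ _ _ hk hj
  have key : ∀ x, kE k j = x → ∃ hx : x ∈ cZ, (⟨x, hx⟩ : ↥cZ) ∈ qZ := by
    rintro x rfl
    exact ⟨h, hq⟩
  exact key _ e

/-- A power by a bit. -/
noncomputable def qProd (g : Fin 4 → ZMod 2) : Spor.Co1 :=
  pick (qEl 0) (g 0) * pick (qEl 1) (g 1) * pick (qEl 2) (g 2) * pick (qEl 3) (g 3)

theorem qProd_eq (g : Fin 4 → ZMod 2) : ∃ h, qProd g = diagEl (mset (qWord g)) h := by
  have hp : ∀ i (a : ZMod 2), ∃ h, pick (qEl i) a = diagEl (mset (bif a == 1 then qMask i else 0)) h := by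
    intro i a
    rcases bit a with rfl | rfl
    · refine ⟨mset_zero ▸ empty_mem_codeSets, ?_⟩
      rw [pick_zero, ← diagEl_empty]
      exact diagEl_congr _ _ mset_zero.symm
    · exact ⟨qMask_code i, by rw [pick_one]; rfl⟩
  obtain ⟨h0, e0⟩ := hp 0 (g 0)
  obtain ⟨h1, e1⟩ := hp 1 (g 1)
  obtain ⟨h2, e2⟩ := hp 2 (g 2)
  obtain ⟨h3, e3⟩ := hp 3 (g 3)
  refine ⟨(mset_mem_supports_iff (qWord_ok g).1.2.1).2 (qWord_ok g).1.1, ?_⟩
  rw [qProd, e0, e1, e2, e3, diagEl_mul, diagEl_mul, diagEl_mul]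
  exact diagEl_congr _ _ (by rw [qWord, mset_xor, mset_xor, mset_xor])

theorem ve_indep : LinearIndependent (ZMod 2) fun i : Fin 4 => ve (2 ^ i.val) := by
  refine Fintype.linearIndependent_iff.2 fun g hg i => ?_
  have h : ∀ g : Fin 4 → ZMod 2, g 0 • ve (2 ^ (0 : Fin 4).val) + g 1 • ve (2 ^ (1 : Fin 4).val) +
      g 2 • ve (2 ^ (2 : Fin 4).val) + g 3 • ve (2 ^ (3 : Fin 4).val) = 0 → g = 0 := by decide +kernel
  rw [Fin.sum_univ_four] at hg
  exact congrFun (h g hg) i

theorem ve_combo : ∀ a : Fin 16, ∃ g : Fin 4 → ZMod 2, g 0 • ve (2 ^ (0 : Fin 4).val) +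
    g 1 • ve (2 ^ (1 : Fin 4).val) + g 2 • ve (2 ^ (2 : Fin 4).val) + g 3 • ve (2 ^ (3 : Fin 4).val) =
      ve a.val := by decide +kernel

theorem cls_pick {G : Type*} [Group G] (D : Data G I8) {q : G} (hq : q ∈ D.Q) (a : ZMod 2) :
    pick q a ∈ D.Q ∧ D.cls (pick q a) = a • D.cls q := by
  rcases bit a with rfl | rfl
  · exact ⟨by rw [pick_zero]; exact one_mem _, by rw [pick_zero, zero_smul, D.cls_one]⟩
  · exact ⟨by rw [pick_one]; exact hq, by rw [pick_one, one_smul]⟩

theorem cls_qProd (D : Data Spor.Co1 I8) (hq : ∀ i, qEl i ∈ D.Q) (g : Fin 4 → ZMod 2) :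
    qProd g ∈ D.Q ∧ D.cls (qProd g) =
      g 0 • D.cls (qEl 0) + g 1 • D.cls (qEl 1) + g 2 • D.cls (qEl 2) + g 3 • D.cls (qEl 3) := by
  have h := fun i => cls_pick D (hq i) (g i)
  refine ⟨mul_mem (mul_mem (mul_mem (h 0).1 (h 1).1) (h 2).1) (h 3).1, ?_⟩
  rw [qProd, D.cls_mul _ (mul_mem (mul_mem (h 0).1 (h 1).1) (h 2).1) _ (h 3).1,
    D.cls_mul _ (mul_mem (h 0).1 (h 1).1) _ (h 2).1, D.cls_mul _ (h 0).1 _ (h 1).1,
    (h 0).2, (h 1).2, (h 2).2, (h 3).2]

/-- What commutes with the involution and the four sign elements is a sign element. -/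
theorem centralizes_sign {x : Spor.Co1} (hz : Commute x zEl) (hq : ∀ i, Commute x (qEl i)) : x ∈ signGrp := by
  obtain ⟨g, rfl⟩ := QuotientGroup.mk'_surjective _ x
  have hcomm : ∀ (a : Co0), Commute (kap g) (kap a) → g * a * g⁻¹ * a⁻¹ ∈ Subgroup.center Co0 := by
    intro a h
    refine (QuotientGroup.eq_one_iff _).1 ?_
    show kap (g * a * g⁻¹ * a⁻¹) = 1
    rw [map_mul, map_mul, map_mul, map_inv, map_inv, h.eq]
    group
  have hg0 : g * eps = eps * g := mem_cEps.1 (mem_cEps_of_commutator (hcomm eps hz))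
  have hgi : ∀ i, g * monoCo0 1 (one_mem _) (mset (qMask i)) (qMask_code i) =
      monoCo0 1 (one_mem _) (mset (qMask i)) (qMask_code i) * g := by
    intro i
    obtain ⟨σ, hσ, e⟩ := M24_octad_transitive oSet_octad
      (mem_octads_iff.2 ⟨qMask i, (qMask_ok i).1, rfl⟩)
    set h := monoCo0 σ hσ ∅ empty_mem_codeSets
    set m := monoCo0 1 (one_mem _) (mset (qMask i)) (qMask_code i)
    have hh : h * eps = m * h := by
      rw [eps, mono_mul hσ (one_mem _) empty_mem_codeSets oSet_mem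
          (symmDiff_mem_supports empty_mem_codeSets (Cfsg.Lib.CoOne.code_smul hσ oSet_mem)),
        mono_mul (one_mem _) hσ (qMask_code i) empty_mem_codeSets
          (symmDiff_mem_supports (qMask_code i) (Cfsg.Lib.CoOne.code_smul (one_mem _) empty_mem_codeSets))]
      refine co0_ext fun j => Subtype.ext (funext fun p => ?_)
      rw [monoCo0_smul, monoCo0_smul]
      simp only [mul_one, one_mul, one_smul, e, ← Finset.bot_eq_empty, bot_symmDiff, symmDiff_bot]
    have hm : m = h * eps * h⁻¹ := by rw [hh, mul_inv_cancel_right]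
    have hc : h⁻¹ * g * h ∈ cEps := by
      refine mem_cEps_of_commutator ?_
      have hc := hcomm m (hq i)
      have e' : h⁻¹ * g * h * eps * (h⁻¹ * g * h)⁻¹ * eps⁻¹ = h⁻¹ * (g * m * g⁻¹ * m⁻¹) * h := by
        rw [hm]; group
      rw [e']
      simpa using (inferInstance : (Subgroup.center Co0).Normal).conj_mem _ hc h⁻¹
    calc g * m = h * (h⁻¹ * g * h * eps) * h⁻¹ := by rw [hm]; group
      _ = h * (eps * (h⁻¹ * g * h)) * h⁻¹ := by rw [mem_cEps.1 hc]
      _ = m * g := by rw [hm]; group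
  -- the images of the coordinate vectors off the octad
  have hpt : ∀ p : GolayPt, p ∉ oSet → ∀ r, r ≠ p → ((g • e8 p : leechLattice) : GolayPt → ℤ) r = 0 := by
    intro p hp r hr
    have key : ∀ (c : Finset GolayPt) (hc : c ∈ codeSets),
        g * monoCo0 1 (one_mem _) c hc = monoCo0 1 (one_mem _) c hc * g → ¬(r ∈ c ↔ p ∈ c) →
        ((g • e8 p : leechLattice) : GolayPt → ℤ) r = 0 := by
      intro c hc hcg hrc
      set y := g • e8 p with hy
      have e1 : monoCo0 1 (one_mem _) c hc • e8 p = if p ∈ c then -e8 p else e8 p := by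
        refine Subtype.ext (funext fun q => ?_)
        rw [monoCo0_smul, signedPerm_one]
        by_cases hqp : q = p
        · subst hqp
          by_cases h : q ∈ c <;> simp [h]
        · have h0 : ((e8 p : leechLattice) : GolayPt → ℤ) q = 0 := Pi.single_eq_of_ne hqp 8
          split_ifs <;> simp [h0]
      have e2 : monoCo0 1 (one_mem _) c hc • y = if p ∈ c then -y else y := by
        rw [hy, ← mul_smul, ← hcg, mul_smul, e1]
        split_ifs
        · rw [co0_neg]
        · rfl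
      have h := congrArg (fun w : leechLattice => (w : GolayPt → ℤ) r) e2
      simp only [monoCo0_smul, signedPerm_one] at h
      by_cases h1 : p ∈ c <;> by_cases h2 : r ∈ c
      · exact absurd (iff_of_true h2 h1) hrc
      · rw [if_pos h1, if_neg h2, AddSubgroup.coe_neg, Pi.neg_apply] at h; omega
      · rw [if_neg h1, if_pos h2] at h; omega
      · exact absurd (iff_of_false h2 h1) hrc
    rcases qMask_sep p hp r hr with h | ⟨i, h⟩
    · exact key oSet oSet_mem hg0 fun e => hp (e.1 h)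
    · exact key _ (qMask_code i) (hgi i) h
  obtain ⟨p₀, hp₀⟩ : ∃ p : GolayPt, p ∉ oSet := by
    obtain ⟨p, hp⟩ := Finset.card_pos.1 (lt_of_lt_of_le (by norm_num) outside_card)
    exact ⟨p, (Finset.mem_sdiff.1 hp).2⟩
  have hN : kap g ∈ N1 := by
    set y := g • e8 p₀ with hy
    have hcode : code (y : GolayPt → ℤ) = fcode (kap g) := by
      rw [fcode, fact_kap, hy, ← fact_kap, ← (uVec_spec p₀).2.2, fact_code]
    have hn : sqNorm (y : GolayPt → ℤ) = ((y : GolayPt → ℤ) p₀) ^ 2 := by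
      rw [sqNorm, Finset.sum_eq_single p₀ (fun r _ hr => by rw [hy, hpt p₀ hp₀ r hr]; ring)
        (fun h => absurd (Finset.mem_univ _) h)]
    rw [hy, co0_sqNorm, show sqNorm ((e8 p₀ : leechLattice) : GolayPt → ℤ) = 64 from
      (stdCross_subset (e8_mem_stdCross p₀)).2, ← hy] at hn
    have hy8 : y = e8 p₀ ∨ y = -e8 p₀ := by
      have h8 : (y : GolayPt → ℤ) p₀ = 8 ∨ (y : GolayPt → ℤ) p₀ = -8 := by
        have h : ((y : GolayPt → ℤ) p₀ - 8) * ((y : GolayPt → ℤ) p₀ + 8) = 0 := by linear_combination -hn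
        rcases mul_eq_zero.1 h with h | h
        · exact Or.inl (by omega)
        · exact Or.inr (by omega)
      rcases h8 with h | h
      · refine Or.inl (Subtype.ext (funext fun r => ?_))
        by_cases hr : r = p₀
        · subst hr
          rw [h, show ((e8 r : leechLattice) : GolayPt → ℤ) r = 8 from Pi.single_eq_same _ _]
        · rw [hy, hpt p₀ hp₀ r hr, show ((e8 p₀ : leechLattice) : GolayPt → ℤ) r = 0 from
            Pi.single_eq_of_ne hr 8]
      · refine Or.inr (Subtype.ext (funext fun r => ?_))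
        rw [AddSubgroup.coe_neg, Pi.neg_apply]
        by_cases hr : r = p₀
        · subst hr; rw [h, show ((e8 r : leechLattice) : GolayPt → ℤ) r = 8 from Pi.single_eq_same _ _]
        · rw [hy, hpt p₀ hp₀ r hr, show ((e8 p₀ : leechLattice) : GolayPt → ℤ) r = 0 from
            Pi.single_eq_of_ne hr 8, neg_zero]
    have hf : fcode (kap g) = fcode 1 := by
      rw [fcode_one, ← hcode]
      rcases hy8 with h | h
      · rw [h, (uVec_spec p₀).2.2]
      · rw [h, AddSubgroup.coe_neg, code_neg (e8 p₀).2, (uVec_spec p₀).2.2]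
    simpa using fcode_eq_iff.1 hf
  obtain ⟨σ, hσ, c, hc, e⟩ := exists_kq hN
  have hσ1 : σ = 1 := by
    refine eq_one_of_nine_fixed hσ outside_card fun p hp => ?_
    have hp' : p ∉ oSet := (Finset.mem_sdiff.1 hp).2
    by_contra hne
    have h0 := hpt p hp' (σ p) hne
    have hgg : g⁻¹ * monoCo0 σ hσ c hc ∈ Subgroup.center Co0 := QuotientGroup.eq.1 e
    have h8 : ((monoCo0 σ hσ c hc • e8 p : leechLattice) : GolayPt → ℤ) (σ p) = 0 := by
      rcases center_cases hgg with hh | hh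
      · rw [show monoCo0 σ hσ c hc • e8 p = g • e8 p by
          conv_lhs => rw [← mul_inv_cancel_left g (monoCo0 σ hσ c hc), mul_smul, hh]]
        exact h0
      · rw [show monoCo0 σ hσ c hc • e8 p = -(g • e8 p) by
          conv_lhs => rw [← mul_inv_cancel_left g (monoCo0 σ hσ c hc), mul_smul, hh, co0_neg],
          AddSubgroup.coe_neg, Pi.neg_apply, h0, neg_zero]
    rw [monoCo0_smul, show ((e8 p : leechLattice) : GolayPt → ℤ) = Pi.single p 8 from rfl, signedPerm_single,
      Pi.single_eq_same] at h8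
    split_ifs at h8 <;> omega
  exact ⟨c, hc, e.trans (kq_congr _ _ _ _ hσ1 rfl)⟩

theorem card_N1 : Nat.card crossStab ≤ 2 * Nat.card ↥N1 := by
  haveI : Finite Co0 := Nat.finite_of_card_ne_zero (by rw [card_Co0]; norm_num)
  let f : ↥crossStab →* Spor.Co1 := kap.comp crossStab.subtype
  have hr : f.range = N1 := by
    rw [MonoidHom.range_comp, Subgroup.range_subtype]
    rfl
  rw [Subgroup.card_eq_card_quotient_mul_card_subgroup f.ker,
    Nat.card_congr (QuotientGroup.quotientKerEquivRange f).toEquiv, hr, mul_comm]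
  refine Nat.mul_le_mul_right _ ?_
  classical
  refine (Nat.card_le_card_of_injective (fun x : f.ker => decide (((x : ↥crossStab) : Co0) = 1))
    fun x y h => ?_).trans (by simp)
  have hc : ∀ x : f.ker, ((x : ↥crossStab) : Co0) ∈ Subgroup.center Co0 := fun x =>
    (QuotientGroup.eq_one_iff _).1 x.2
  refine Subtype.ext (Subtype.ext ?_)
  simp only [decide_eq_decide] at h
  rcases center_cases (hc x) with hx | hx
  · have h1 : ((x : ↥crossStab) : Co0) = 1 := co0_ext fun i => by rw [hx, one_smul]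
    rw [h1, h.1 h1]
  · rcases center_cases (hc y) with hy | hy
    · have h1 : ((y : ↥crossStab) : Co0) = 1 := co0_ext fun i => by rw [hy, one_smul]
      rw [h1, h.2 h1]
    · exact co0_ext fun i => by rw [hx, hy]

/-- The data of the first Conway group with the monomial group as the normalizer. -/
theorem exists_co1_data : ∃ E : Data Spor.Co1 I8, E.qf = Cfsg.quadFormPlus 4 (ZMod 2) ∧ E.z = zEl ∧
    E.Q = qZ.map cZ.subtype ∧ AA E = signGrp ∧ (∀ g ∈ AA E, ∀ h ∈ AA E, Commute g h) ∧ NN E = N1 := by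
  classical
  haveI : Finite Co0 := Nat.finite_of_card_ne_zero (by rw [card_Co0]; norm_num)
  obtain ⟨D, hq, hz, hQ⟩ := exists_data_of_hyp zEl (orderOf_eq_prime (by rw [pow_two]; exact zEl_sq) zEl_ne)
    qZ Cfsg.Agent.S5388.fitting_eq isExtraspecial_qZ card_qZ quotEquiv Cfsg.Agent.S5388.exists_conjugate
  have hqm : ∀ i, qEl i ∈ D.Q := fun i => by
    obtain ⟨h, hh⟩ := qEl_mem i
    rw [hQ]
    exact ⟨⟨_, h⟩, hh, rfl⟩
  have hindep : LinearIndependent (ZMod 2) fun i => D.cls (qEl i) := by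
    refine Fintype.linearIndependent_iff.2 fun g hg i => ?_
    rw [Fin.sum_univ_four] at hg
    obtain ⟨hm, hc⟩ := cls_qProd D hqm g
    have h0 := (D.cls_ker _ hm).1 (hc.trans hg)
    obtain ⟨h', e⟩ := qProd_eq g
    obtain ⟨⟨-, hlt, hnone⟩, hne, hzero⟩ := qWord_ok g
    rcases h0 with h0 | h0
    · rw [e, ← diagEl_empty] at h0
      have := (kq_inj _ _ _ _ hnone (Finset.notMem_empty _) h0).2
      rw [← mset_zero] at this
      exact congrFun (hzero (mset_inj hlt (by norm_num) this)) i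
    · rw [e, hz, zEl_eq] at h0
      exact absurd (mset_inj hlt (by decide +kernel) (kq_inj _ _ _ _ hnone outMask_set.2.2 h0).2) hne
  have hsing : ∀ i, D.qf (D.cls (qEl i)) = 0 := fun i => (D.cls_sq _ (hqm i)).1 (diagEl_sq _)
  have horth : ∀ i j, D.B (D.cls (qEl i)) (D.cls (qEl j)) = 0 := fun i j =>
    (D.cls_comm _ (hqm i) _ (hqm j)).1 (diagEl_comm _ _)
  obtain ⟨h, hh, hmap⟩ := exists_iso_four D.space _ _ hindep ve_indep
    (fun i => (hsing i).trans (qf_ve hq _).symm) (fun i j => (horth i j).trans (B_ve_ve hq _ _).symm)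
  let E := twist D h hh
  have hEcls : ∀ i : Fin 4, E.cls (qEl i) = ve (2 ^ i.val) := hmap
  have hws : WS E ≤ signGrp := by
    rintro x ⟨hx, a, ha, e⟩
    obtain ⟨g, hg⟩ := ve_combo ⟨a, ha⟩
    obtain ⟨hm, hc⟩ := cls_qProd E hqm g
    rw [hEcls, hEcls, hEcls, hEcls, hg] at hc
    obtain ⟨h', e'⟩ := qProd_eq g
    have hsg : qProd g ∈ signGrp := ⟨_, h', e'⟩
    rcases E.cls_eq hm hx (hc.trans e.symm) with e1 | e1
    · rw [e1]; exact hsg
    · rw [e1, show E.z = zEl from hz]
      exact mul_mem zEl_sign hsg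
  have hAA : AA E = signGrp := by
    refine le_antisymm (fun x hx => ?_) fun x hx => mem_AA.2 fun w hw => signGrp_comm hx (hws hw)
    refine centralizes_sign ?_ fun i => mem_AA.1 hx _ ⟨hqm i, 2 ^ i.val, pow_lt_16 i, hEcls i⟩
    have := AA_comm_z hx
    rwa [show E.z = zEl from hz] at this
  have hab : ∀ g ∈ AA E, ∀ h ∈ AA E, Commute g h := fun a ha b hb =>
    signGrp_comm (hAA ▸ ha) (hAA ▸ hb)
  refine ⟨E, hq, hz, hQ, hAA, hab, ?_⟩
  have hle : N1 ≤ NN E := fun n hn => by
    refine Subgroup.mem_normalizer_iff.2 fun x => ?_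
    rw [hAA]
    refine ⟨fun hx => N1_normalizes hn hx, fun hx => ?_⟩
    have := N1_normalizes (inv_mem hn) hx
    simpa [mul_assoc] using this
  refine (Subgroup.eq_of_le_of_card_ge hle ?_).symm
  obtain ⟨M⟩ := exists_normModel (D := E) hq hab
  obtain ⟨S⟩ := exists_setup E hq hab
  have hker : M.psi.ker = (AA E).subgroupOf (NN E) := Subgroup.ext fun n => M.ker n
  have hsurj : Function.Surjective M.psi := fun σ => ⟨_, M.psi_sec σ⟩
  have hc : Nat.card ↥(NN E) = 244823040 * 2 ^ 11 := by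
    rw [Subgroup.card_eq_card_quotient_mul_card_subgroup M.psi.ker,
      Nat.card_congr (QuotientGroup.quotientKerEquivOfSurjective _ hsurj).toEquiv, card_M24, hker,
      Nat.card_congr (Subgroup.subgroupOfEquivOfLe Subgroup.le_normalizer).toEquiv, S.F.card_AA]
  have := card_N1
  rw [card_crossStab] at this
  rw [hc]
  omega

end Cfsg.Lib.CoOneUniq
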