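import Cfsg.Agent.Lib.Extra.CoOneUniq.AssembleModel

/-!
# The monomial part of the centralizer has no proper quotient of order two over the extraspecial group

A homomorphism to a group of order two killing the extraspecial subgroup kills the sign elements, by
a certificate in the letters fixing the octad, and then the permutations, as these induce the
alternating group on the octad.
-/

set_option autoImplicit false
set_option maxRecDepth 100000

namespace Cfsg.Lib.CoOneUniq

open Cfsg Cfsg.Lib.Concrete Cfsg.Lib.CoOne FrameData MulAction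
open scoped Pointwise symmDiff

/-- For each basis word, letters and basis words whose differences add up to it. -/
def perfCert : List (List (ℕ × ℕ)) := [
  [(2,0),(2,1),(2,2),(2,8),(3,0),(3,2),(3,6),(4,0)], [(2,6),(2,8),(4,0),(6,6)],
  [(2,0),(2,1),(2,2),(2,6),(2,8),(3,0),(3,6),(4,0)], [(2,6),(3,2),(4,0)],
  [(2,0),(2,2),(2,3),(3,2),(4,0),(6,6)], [(2,1),(2,3),(2,8),(6,6)], [(2,6),(3,2),(4,1),(6,6)],
  [(2,2),(2,6),(4,0),(4,1)], [(2,0),(2,2),(2,8),(3,0),(3,2)],
  [(2,0),(2,1),(2,2),(2,3),(2,6),(2,8),(3,2),(3,6),(4,0),(4,1)],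
  [(2,0),(2,2),(2,3),(2,8),(3,6),(4,1),(6,6)], [(2,1),(2,2),(2,3),(2,6),(3,0),(4,0),(6,6)]]

/-- The difference named by a letter and a basis word. -/
def certTerm (p : ℕ × ℕ) : ℕ := pimg (monAt p.1).1 (basisMasks.getD p.2 0) ^^^ basisMasks.getD p.2 0

/-- The sum of differences. -/
def certSum (l : List (ℕ × ℕ)) : ℕ := l.foldr (fun p r => certTerm p ^^^ r) 0

theorem perfCert_ok :
    perfCert.map certSum = basisMasks ∧ perfCert.all (fun l => l.all fun p => decide (p.1 < mons.length) &&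
      (pimg (monAt p.1).1 m24BaseOctad == m24BaseOctad) && isCode (basisMasks.getD p.2 0) &&
        decide (basisMasks.getD p.2 0 < 16777216)) = true := by
  decide +kernel

theorem octad_card : oSet.card = 8 ∧ (Finset.univ ∆ oSet).card = 16 := by decide +kernel

theorem kq_split {σ : Equiv.Perm GolayPt} (hσ : σ ∈ M24) {c : Finset GolayPt} (hc : c ∈ codeSets) :
    kq σ hσ c hc = diagEl c hc * kq σ hσ ∅ empty_mem_codeSets := by
  rw [diagEl, kq_mul]
  exact kq_congr _ _ _ _ (one_mul σ).symm (by rw [one_smul, ← Finset.bot_eq_empty, symmDiff_bot])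

theorem diagEl_mem_cZ {S : Finset GolayPt} (hS : S ∈ codeSets) : diagEl S hS ∈ cZ :=
  Subgroup.mem_centralizer_singleton_iff.2 (by rw [zEl_diag]; exact (diagEl_comm hS oSet_mem).eq)

theorem kq_mem_cZ {σ : Equiv.Perm GolayPt} (hσ : σ ∈ M24) {c : Finset GolayPt} (hc : c ∈ codeSets)
    (h : σ • oSet = oSet) : kq σ hσ c hc ∈ cZ := by
  refine Subgroup.mem_centralizer_singleton_iff.2 (mul_inv_eq_iff_eq_mul.1 ?_)
  show _ = zEl
  rw [zEl_diag, conj_diagEl hσ hc oSet_mem]
  exact diagEl_congr _ _ h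

theorem stab_of_cZ {σ : Equiv.Perm GolayPt} (hσ : σ ∈ M24) {c : Finset GolayPt} (hc : c ∈ codeSets)
    (h : kq σ hσ c hc ∈ cZ) : σ • oSet = oSet := by
  have e : diagEl (σ • oSet) (Cfsg.Lib.CoOne.code_smul hσ oSet_mem) = diagEl oSet oSet_mem := by
    rw [← conj_diagEl hσ hc oSet_mem]
    exact mul_inv_eq_iff_eq_mul.2 (Subgroup.mem_centralizer_singleton_iff.1 h)
  have hcard : (σ • oSet).card = 8 := by rw [Finset.card_smul_finset]; exact octad_card.1
  have ho : (none : GolayPt) ∉ Finset.univ ∆ oSet := fun hn =>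
    ((Finset.mem_symmDiff.1 hn).elim (fun a => a.2 none_mem) fun a => a.2 (Finset.mem_univ _))
  rw [show diagEl oSet oSet_mem = kq 1 (one_mem _) (Finset.univ ∆ oSet)
    (symmDiff_mem_supports univ_mem oSet_mem) from kq_univ_compl _ _] at e
  by_cases hn : (none : GolayPt) ∈ σ • oSet
  · have e' : kq 1 (one_mem _) (Finset.univ ∆ (σ • oSet))
        (symmDiff_mem_supports univ_mem (Cfsg.Lib.CoOne.code_smul hσ oSet_mem)) =
        kq 1 (one_mem _) (Finset.univ ∆ oSet) (symmDiff_mem_supports univ_mem oSet_mem) :=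
      (kq_univ_compl _ _).symm.trans e
    have := (kq_inj _ _ _ _ (fun h' => ((Finset.mem_symmDiff.1 h').elim (fun a => a.2 hn)
      fun a => a.2 (Finset.mem_univ _))) ho e').2
    exact symmDiff_right_injective _ this
  · have := (kq_inj _ _ _ _ hn ho e).2
    rw [this, octad_card.2] at hcard
    exact absurd hcard (by norm_num)

/-- The sign element, in the monomial part of the centralizer. -/
noncomputable def dPart {S : Finset GolayPt} (hS : S ∈ codeSets) : ↥(N1 ⊓ cZ) :=
  ⟨diagEl S hS, kq_mem _ _, diagEl_mem_cZ hS⟩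

/-- The permutations fixing the octad, in the monomial part of the centralizer. -/
noncomputable def pPart : ↥(stabilizer (↥M24) oSet) →* ↥(N1 ⊓ cZ) :=
  MonoidHom.mk' (fun σ => ⟨kq σ.1.1 σ.1.2 ∅ empty_mem_codeSets, kq_mem _ _, kq_mem_cZ _ _ σ.2⟩) fun σ τ => by
    refine Subtype.ext ?_
    show kq (σ.1.1 * τ.1.1) _ ∅ _ = kq σ.1.1 _ ∅ _ * kq τ.1.1 _ ∅ _
    rw [kq_mul]
    exact kq_congr _ _ _ _ rfl (by rw [Finset.smul_finset_empty, symmDiff_self, Finset.bot_eq_empty])

/-- A homomorphism to a group of order two killing the extraspecial subgroup is trivial. -/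
theorem cN1_perfect (l : ↥(N1 ⊓ cZ) →* Multiplicative (ZMod 2))
    (hl : ∀ x : ↥(N1 ⊓ cZ), (x : Spor.Co1) ∈ qZ.map cZ.subtype → l x = 1) : l = 1 := by
  classical
  have hsq : ∀ a : Multiplicative (ZMod 2), a * a = 1 := by decide
  let K : ℕ → Prop := fun m => ∃ h : mset m ∈ codeSets, l (dPart h) = 1
  have hK0 : K 0 := ⟨mset_zero ▸ empty_mem_codeSets, by
    rw [show dPart (mset_zero ▸ empty_mem_codeSets : mset 0 ∈ codeSets) = 1 from
      Subtype.ext ((diagEl_congr _ _ mset_zero).trans diagEl_empty), map_one]⟩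
  have hKx : ∀ {a b : ℕ}, K a → K b → K (a ^^^ b) := by
    rintro a b ⟨ha, ea⟩ ⟨hb, eb⟩
    have h : mset (a ^^^ b) ∈ codeSets := mset_xor a b ▸ symmDiff_mem_supports ha hb
    refine ⟨h, ?_⟩
    rw [show dPart h = dPart ha * dPart hb from
      Subtype.ext ((diagEl_congr _ _ (mset_xor a b)).trans (diagEl_mul ha hb).symm), map_mul, ea, eb, one_mul]
  have hterm : ∀ p : ℕ × ℕ, p.1 < mons.length → pimg (monAt p.1).1 m24BaseOctad = m24BaseOctad →
      isCode (basisMasks.getD p.2 0) = true → basisMasks.getD p.2 0 < 16777216 → K (certTerm p) := by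
    intro p hk hf hcode hlt
    have hm : mset (basisMasks.getD p.2 0) ∈ codeSets := (mset_mem_supports_iff hlt).2 hcode
    obtain ⟨hm', e⟩ := mel_conj_diag hk hm
    have h : mset (certTerm p) ∈ codeSets := (mset_xor _ _).symm ▸ symmDiff_mem_supports hm' hm
    refine ⟨h, ?_⟩
    let x : ↥(N1 ⊓ cZ) := ⟨(mel p.1 : Spor.Co1), (mel p.1).2, mel_mem_cZ hk hf⟩
    have h1 : dPart hm' = x * dPart hm * x⁻¹ := Subtype.ext e.symm
    rw [show dPart h = dPart hm' * dPart hm from
      Subtype.ext ((diagEl_congr _ _ (mset_xor _ _)).trans (diagEl_mul hm' hm).symm), h1, map_mul, map_mul,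
      map_mul, map_inv, mul_comm (l x), mul_inv_cancel_right]
    exact hsq _
  have hcert : ∀ b ∈ basisMasks, K b := by
    obtain ⟨hmap, hall⟩ := perfCert_ok
    intro b hb
    rw [← hmap] at hb
    obtain ⟨ps, hps, rfl⟩ := List.mem_map.1 hb
    have hall' := List.all_eq_true.1 hall ps hps
    clear hb hps
    induction ps with
    | nil => exact hK0
    | cons p ps ih =>
      rw [List.all_cons, Bool.and_eq_true] at hall'
      obtain ⟨hp, hrest⟩ := hall'
      simp only [Bool.and_eq_true, decide_eq_true_eq, beq_iff_eq] at hp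
      exact hKx (hterm p hp.1.1.1 hp.1.1.2 hp.1.2 hp.2) (ih hrest)
  have hcombo : ∀ (L : List ℕ), (∀ b ∈ L, K b) → ∀ c, K (comboAux L c) := by
    intro L
    induction L with
    | nil => exact fun _ _ => hK0
    | cons b bs ih =>
      intro h c
      refine hKx ?_ (ih (fun a ha => h a (List.mem_cons_of_mem _ ha)) _)
      cases c % 2 == 1
      · exact hK0
      · exact h b List.mem_cons_self
  have hdiag : ∀ {S : Finset GolayPt} (hS : S ∈ codeSets), l (dPart hS) = 1 := by
    intro S hS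
    obtain ⟨m, hm, rfl⟩ := mem_supports_iff.1 hS
    obtain ⟨c, -, rfl⟩ := List.mem_map.1 (codeList_eq ▸ hm)
    exact (hcombo basisMasks hcert c).2
  set f := toOctadPerm oSet
  set L := l.comp pPart with hL
  have hker : ∀ σ, f σ = 1 → L σ = 1 := by
    intro σ hσ
    obtain ⟨i, hi⟩ := exists_fx (σ := σ.1.1) (mem_fixSet.2 ⟨σ.1.2, (toOctadPerm_eq_one σ).1 hσ⟩)
    obtain ⟨j, hj⟩ := exists_oW empty_mem_codeSets fun p _ => Finset.notMem_empty p
    obtain ⟨h, hq⟩ := kE_mem i j
    exact hl _ ⟨⟨_, h⟩, hq, kq_congr _ _ _ _ hi hj⟩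
  have hrange : f.range = alternatingGroup ↥oSet := range_toOctadPerm oSet_octad
  have hT : alternatingGroup ↥oSet ≤ L.ker.map f := by
    rw [← Equiv.Perm.closure_three_cycles_eq_alternating, Subgroup.closure_le]
    intro c hc
    have hmem : c ∈ f.range := by rw [hrange]; exact hc.mem_alternatingGroup
    obtain ⟨σ, rfl⟩ := hmem
    refine ⟨σ, MonoidHom.mem_ker.2 ?_, rfl⟩
    have h3 : L (σ ^ 3) = 1 := hker _ (by rw [map_pow, ← hc.orderOf, pow_orderOf_eq_one])
    rw [map_pow, pow_succ, pow_two, hsq, one_mul] at h3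
    exact h3
  refine MonoidHom.ext fun x => ?_
  obtain ⟨σ, hσ, c, hc, e⟩ := exists_kq x.2.1
  have hst : σ • oSet = oSet := stab_of_cZ hσ hc (e ▸ x.2.2)
  let s : ↥(stabilizer (↥M24) oSet) := ⟨⟨σ, hσ⟩, hst⟩
  rw [show x = dPart hc * pPart s from Subtype.ext (e.trans (kq_split hσ hc)), map_mul, hdiag hc, one_mul,
    MonoidHom.one_apply]
  have hfs : f s ∈ f.range := ⟨s, rfl⟩
  rw [hrange] at hfs
  obtain ⟨t, ht, et⟩ := hT hfs
  have : L (t⁻¹ * s) = 1 := hker _ (by rw [map_mul, map_inv, et, inv_mul_cancel])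
  rw [map_mul, map_inv, MonoidHom.mem_ker.1 ht, inv_one, one_mul] at this
  exact this

end Cfsg.Lib.CoOneUniq
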