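import Cfsg.Agent.Lib.Extra.CoOneUniq.Dihedral

/-!
# Descent to a subgroup of Conway type

A subgroup containing the centralizer of its central involutions, with the fusion of the first Conway
group, is the whole group: an involution of the second class fixes one point of the cosets, as a pure
elementary group with a pair at two points would grow without bound, and then an involution of the
second class and a central one at different points have nowhere to commute.
-/

set_option autoImplicit false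

namespace Cfsg.Lib.CoOneUniq

variable {G : Type*} [Group G]

/-- What the descent needs of the subgroup. -/
structure DescentData (M : Subgroup G) where
  /-- The central class. -/
  Z : G → Prop
  /-- The second class. -/
  W : G → Prop
  /-- The third class. -/
  X : G → Prop
  Z_conj : ∀ g a, Z a → Z (g * a * g⁻¹)
  W_conj : ∀ g a, W a → W (g * a * g⁻¹)
  X_conj : ∀ g a, X a → X (g * a * g⁻¹)
  invol : ∀ a, Z a ∨ W a → a * a = 1 ∧ a ≠ 1
  cases : ∀ a, a * a = 1 → a ≠ 1 → Z a ∨ W a ∨ X a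
  disj : ∀ a, Z a → ¬ W a
  z_point : ∀ g a, a ∈ M → Z a → g * a * g⁻¹ ∈ M → g ∈ M
  exists_z : ∃ a ∈ M, Z a
  exists_w : ∃ a ∈ M, W a
  zz_no_x : ∀ a b, a ∈ M → b ∈ M → Z a → Z b → Commute a b → ¬ X (a * b)
  zx_no_w : ∀ a b, a ∈ M → b ∈ M → Z a → X b → Commute a b → ¬ W (a * b)
  w_start : ∀ e, e ∈ M → W e → ∃ z₁ z₂, z₁ ∈ M ∧ z₂ ∈ M ∧ Z z₁ ∧ Z z₂ ∧ Commute e z₁ ∧ Commute e z₂ ∧
    Z (z₁ * e) ∧ ¬ Z (z₂ * e)
  step : ∀ F : Subgroup G, F ≤ M → (∀ a ∈ F, a * a = 1) → (∀ a ∈ F, ¬ Z a) →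
    ∀ s ∈ F, W s → ∀ z', z' ∈ M → Z z' → (∀ f ∈ F, Commute f z') → Z (z' * s) →
      ∃ z'', z'' ∈ M ∧ Z z'' ∧ (∀ f ∈ F, Commute f z'') ∧ ∀ f ∈ F, f ≠ 1 → ¬ Z (z'' * f)

variable {M : Subgroup G} (D : DescentData M)

/-- `a` fixes the coset of `g`. -/
def AtPt (M : Subgroup G) (a g : G) : Prop := g⁻¹ * a * g ∈ M

theorem conj_comm {a b : G} (g : G) (h : Commute a b) : Commute (g * a * g⁻¹) (g * b * g⁻¹) :=
  (Commute.conj_iff g).2 h

theorem comm_inv {a b : G} (g : G) (h : Commute a b) : Commute (g⁻¹ * a * g) (g⁻¹ * b * g) := by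
  simpa using conj_comm g⁻¹ h

theorem DescentData.Z_inv {a : G} (g : G) (h : D.Z a) : D.Z (g⁻¹ * a * g) := by
  simpa using D.Z_conj g⁻¹ a h

theorem DescentData.W_inv {a : G} (g : G) (h : D.W a) : D.W (g⁻¹ * a * g) := by
  simpa using D.W_conj g⁻¹ a h

theorem DescentData.z_unique {a g h : G} (hz : D.Z a) (hg : AtPt M a g) (hh : AtPt M a h) :
    g⁻¹ * h ∈ M := by
  have e : h⁻¹ * g * (g⁻¹ * a * g) * (h⁻¹ * g)⁻¹ = h⁻¹ * a * h := by group
  have hm : h⁻¹ * g ∈ M := D.z_point _ _ hg (D.Z_inv g hz) (by rw [e]; exact hh)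
  rw [show g⁻¹ * h = (h⁻¹ * g)⁻¹ by group]
  exact inv_mem hm

theorem DescentData.z_commute {a c g : G} (hz : D.Z a) (hg : AtPt M a g) (hc : Commute c a) :
    AtPt M c g := by
  refine D.z_point _ _ hg (D.Z_inv g hz) ?_
  have h := (comm_inv g hc).eq
  rw [h, mul_inv_cancel_right]
  exact hg

/-- A product of two commuting central involutions fixing two points is of the second class. -/
theorem DescentData.W_of_pair {a s g h : G} (hne : g⁻¹ * h ∉ M) (ha : D.Z a) (hag : AtPt M a g)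
    (has : D.Z (a * s)) (hcs : Commute a s) (hs : s * s = 1) (hs1 : s ≠ 1) (hsg : AtPt M s g)
    (hsh : AtPt M s h) : D.W s := by
  rcases D.cases s hs hs1 with hz | hw | hx
  · exact absurd (D.z_unique hz hsg hsh) hne
  · exact hw
  · exfalso
    have hb : g⁻¹ * (a * s) * g ∈ M := by
      rw [show g⁻¹ * (a * s) * g = (g⁻¹ * a * g) * (g⁻¹ * s * g) by group]
      exact mul_mem hag hsg
    have hc : Commute a (a * s) := (Commute.refl a).mul_right hcs
    refine D.zz_no_x _ _ hag hb (D.Z_inv g ha) (D.Z_inv g has) (comm_inv g hc) ?_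
    have e : g⁻¹ * a * g * (g⁻¹ * (a * s) * g) = g⁻¹ * s * g := by
      rw [show g⁻¹ * a * g * (g⁻¹ * (a * s) * g) = g⁻¹ * (a * a * s) * g by group,
        (D.invol a (Or.inl ha)).1, one_mul]
    rw [e]
    simpa using D.X_conj g⁻¹ s hx

/-- The subgroup with one more involution. -/
def addInvol (F : Subgroup G) (s : G) (hs : s * s = 1) (hc : ∀ a ∈ F, Commute a s) : Subgroup G where
  carrier := {a | a ∈ F ∨ s * a ∈ F}
  one_mem' := Or.inl (one_mem F)
  mul_mem' := by
    rintro a b (ha | ha) (hb | hb)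
    · exact Or.inl (mul_mem ha hb)
    · refine Or.inr ?_
      rw [show s * (a * b) = a * (s * b) by rw [← mul_assoc, ← (hc a ha).eq, mul_assoc]]
      exact mul_mem ha hb
    · exact Or.inr (by rw [← mul_assoc]; exact mul_mem ha hb)
    · refine Or.inl ?_
      have h := mul_mem ha hb
      have e : s * (s * a) = s * a * s := (hc _ ha).eq.symm
      rwa [← mul_assoc (s * a) s b, ← e, ← mul_assoc s s a, hs, one_mul] at h
  inv_mem' := by
    rintro a (ha | ha)
    · exact Or.inl (inv_mem ha)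
    · refine Or.inr ?_
      have h := inv_mem ha
      have e : Commute (s * a)⁻¹ s := (hc _ ha).inv_left
      have ha' : a = s * (s * a) := by rw [← mul_assoc, hs, one_mul]
      rw [show s * a⁻¹ = (s * a)⁻¹ by
        conv_lhs => rw [ha', mul_inv_rev, inv_eq_of_mul_eq_one_right hs]
        rw [e.eq, ← mul_assoc, hs, one_mul]]
      exact h

theorem mem_addInvol {F : Subgroup G} {s : G} {hs : s * s = 1} {hc : ∀ a ∈ F, Commute a s} {a : G}
    (h : a ∈ addInvol F s hs hc) : a ∈ F ∨ ∃ b ∈ F, a = s * b := by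
  rcases h with h | h
  · exact Or.inl h
  · exact Or.inr ⟨_, h, by rw [← mul_assoc, hs, one_mul]⟩

/-- `F` has a pair at the coset of `g`. -/
def DescentData.PairAt (g : G) (F : Subgroup G) : Prop :=
  ∃ f ∈ F, D.W f ∧ ∃ a, D.Z a ∧ AtPt M a g ∧ (∀ c ∈ F, Commute c a) ∧ D.Z (a * f)

variable [Finite G]

/-- An elementary group with pairs at two points does not exist. -/
theorem DescentData.no_pairs : ∀ (n : ℕ) (g h : G) (F : Subgroup G), Nat.card G < Nat.card F + n →
    g⁻¹ * h ∉ M → (∀ a ∈ F, a * a = 1) → D.PairAt g F → D.PairAt h F → False := by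
  intro n
  induction n with
  | zero =>
    intro g h F hn _ _ _ _
    exact absurd F.card_le_card_group (by omega)
  | succ n ih =>
    intro g h F hn hne hF hg hh
    obtain ⟨f, hf, hfW, z₁, hz₁, hz₁g, hz₁c, hz₁f⟩ := hg
    obtain ⟨f', hf', hf'W, z', hz', hz'h, hz'c, hz'f⟩ := hh
    have hFg : ∀ a ∈ F, AtPt M a g := fun a ha => D.z_commute hz₁ hz₁g (hz₁c a ha)
    have hFh : ∀ a ∈ F, AtPt M a h := fun a ha => D.z_commute hz' hz'h (hz'c a ha)
    let F' := F.map (MulAut.conj h⁻¹).toMonoidHom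
    have hmap : ∀ a ∈ F, h⁻¹ * a * h ∈ F' := fun a ha =>
      ⟨a, ha, by simp⟩
    obtain ⟨w, hwM, hwZ, hwc, hwiso⟩ := D.step F' (by
        rintro _ ⟨a, ha, rfl⟩
        simpa [AtPt] using hFh a ha)
      (by
        rintro _ ⟨a, ha, rfl⟩
        rw [← map_mul, hF a ha, map_one])
      (by
        rintro _ ⟨a, ha, rfl⟩ hz
        have ha' : D.Z a := by simpa [mul_assoc] using D.Z_conj h _ hz
        exact hne (D.z_unique ha' (hFg a ha) (hFh a ha)))
      (h⁻¹ * f' * h) (hmap f' hf') (D.W_inv h hf'W) (h⁻¹ * z' * h) hz'h (D.Z_inv h hz')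
      (by
        rintro _ ⟨a, ha, rfl⟩
        simpa using comm_inv h (hz'c a ha))
      (by
        rw [show h⁻¹ * z' * h * (h⁻¹ * f' * h) = h⁻¹ * (z' * f') * h by group]
        exact D.Z_inv h hz'f)
    set v := h * w * h⁻¹ with hvdef
    have hv : D.Z v := D.Z_conj h w hwZ
    have hvh : AtPt M v h := by
      show h⁻¹ * v * h ∈ M
      rw [hvdef, show h⁻¹ * (h * w * h⁻¹) * h = w by group]
      exact hwM
    have hvc : ∀ a ∈ F, Commute a v := fun a ha => by
      have := conj_comm h (hwc _ (hmap a ha))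
      rwa [show h * (h⁻¹ * a * h) * h⁻¹ = a by group] at this
    have hviso : ∀ a ∈ F, a ≠ 1 → ¬ D.Z (v * a) := fun a ha ha1 hz => by
      refine hwiso _ (hmap a ha) (fun e => ha1 ?_) ?_
      · calc a = h * (h⁻¹ * a * h) * h⁻¹ := by group
          _ = 1 := by rw [e]; simp
      · have := D.Z_inv h hz
        rwa [hvdef, show h⁻¹ * (h * w * h⁻¹ * a) * h = w * (h⁻¹ * a * h) by group] at this
    have hu2 := (D.invol z₁ (Or.inl hz₁)).1
    have hv2 := (D.invol v (Or.inl hv)).1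
    have hZmove : ∀ {a b c : G}, ConjUnder z₁ v a b → D.Z (a * c) → Commute c z₁ → Commute c v →
        D.Z (b * c) := by
      rintro a b c ⟨k, hk, hkc⟩ hz h1 h2
      have hck : Commute c k := hkc c h1 h2
      have := D.Z_conj k _ hz
      rwa [show k * (a * c) * k⁻¹ = k * a * k⁻¹ * (k * c * k⁻¹) by group, hk, ← hck.eq,
        mul_inv_cancel_right] at this
    have hZ' : ∀ {a b : G}, ConjUnder z₁ v a b → D.Z a → D.Z b := by
      rintro a b ⟨k, rfl, -⟩ hz
      exact D.Z_conj k _ hz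
    rcases pair_cases hu2 hv2 with hodd | ⟨s, hs1, hss, hsu, hsv, hsc, hcases⟩
    · exact hviso f hf (D.invol f (Or.inr hfW)).2 (hZmove hodd hz₁f (hz₁c f hf) (hvc f hf))
    have hpair : D.Z (z₁ * s) ∧ D.Z (v * s) := by
      rcases hcases with ⟨h1, h2⟩ | ⟨h1, h2⟩
      · exact ⟨hZ' h2 hv, hZ' h1 hz₁⟩
      · exact ⟨hZ' h1 hz₁, hZ' h2 hv⟩
    have hsg : AtPt M s g := D.z_commute hz₁ hz₁g hsu
    have hsh : AtPt M s h := D.z_commute hv hvh hsv
    have hsW : D.W s := D.W_of_pair hne hz₁ hz₁g hpair.1 hsu.symm hss hs1 hsg hsh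
    have hsF : s ∉ F := fun h' => hviso s h' hs1 hpair.2
    have hFs : ∀ a ∈ F, Commute a s := fun a ha => hsc a (hz₁c a ha) (hvc a ha)
    set F₁ := addInvol F s hss hFs with hF₁
    have hsF₁ : s ∈ F₁ := Or.inr (by rw [hss]; exact one_mem F)
    have hlt : Nat.card F < Nat.card F₁ := by
      refine Set.ncard_lt_ncard (s := (F : Set G)) (t := (F₁ : Set G)) ?_ (Set.toFinite _)
      exact Set.ssubset_iff_of_subset (fun a ha => Or.inl ha) |>.2 ⟨s, hsF₁, hsF⟩
    have hcomm : ∀ {x : G}, Commute s x → (∀ a ∈ F, Commute a x) → ∀ c ∈ F₁, Commute c x := by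
      intro x hx hxF c hc
      rcases mem_addInvol hc with hc | ⟨b, hb, rfl⟩
      · exact hxF c hc
      · exact hx.mul_left (hxF b hb)
    refine ih g h F₁ (by omega) hne (fun a ha => ?_)
      ⟨s, hsF₁, hsW, z₁, hz₁, hz₁g, hcomm hsu hz₁c, hpair.1⟩
      ⟨s, hsF₁, hsW, v, hv, hvh, hcomm hsv hvc, hpair.2⟩
    rcases mem_addInvol ha with ha | ⟨b, hb, rfl⟩
    · exact hF a ha
    · rw [mul_assoc s b, ← mul_assoc b s b, (hFs b hb).eq, mul_assoc s b b, hF b hb, mul_one, hss]

/-- An involution of the second class fixes one point. -/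
theorem DescentData.w_unique {e g h : G} (he : D.W e) (hg : AtPt M e g) (hh : AtPt M e h) :
    g⁻¹ * h ∈ M := by
  by_contra hne
  have hee := (D.invol e (Or.inr he)).1
  let F := addInvol (⊥ : Subgroup G) e hee fun a ha => by
    rw [Subgroup.mem_bot.1 ha]; exact Commute.one_left e
  have hpair : ∀ p, AtPt M e p → D.PairAt p F := fun p hp => by
    obtain ⟨z₁, -, hz₁M, -, hz₁, -, hc₁, -, hz₁e, -⟩ := D.w_start _ hp (D.W_inv p he)
    refine ⟨e, Or.inr (by rw [hee]; exact one_mem _), he, p * z₁ * p⁻¹, D.Z_conj p _ hz₁, ?_, ?_, ?_⟩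
    · show p⁻¹ * (p * z₁ * p⁻¹) * p ∈ M
      rwa [show p⁻¹ * (p * z₁ * p⁻¹) * p = z₁ by group]
    · have hc : Commute e (p * z₁ * p⁻¹) := by
        have := conj_comm p hc₁
        rwa [show p * (p⁻¹ * e * p) * p⁻¹ = e by group] at this
      intro c hc'
      rcases mem_addInvol hc' with h1 | ⟨b, hb, rfl⟩
      · rw [Subgroup.mem_bot.1 h1]; exact Commute.one_left _
      · rw [Subgroup.mem_bot.1 hb, mul_one]; exact hc
    · have := D.Z_conj p _ hz₁e
      rwa [show p * (z₁ * (p⁻¹ * e * p)) * p⁻¹ = p * z₁ * p⁻¹ * e by group] at this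
  refine D.no_pairs (Nat.card G) g h F ?_ hne (fun a ha => ?_) (hpair g hg) (hpair h hh)
  · have := Nat.card_pos (α := F)
    omega
  · rcases mem_addInvol ha with h1 | ⟨b, hb, rfl⟩
    · rw [Subgroup.mem_bot.1 h1, one_mul]
    · rw [Subgroup.mem_bot.1 hb, mul_one, hee]

include D in
/-- The subgroup is everything. -/
theorem DescentData.eq_top : M = ⊤ := by
  refine eq_top_iff.2 fun h _ => ?_
  by_contra hh
  obtain ⟨z, hzM, hz⟩ := D.exists_z
  obtain ⟨w, hwM, hw⟩ := D.exists_w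
  set u := h * w * h⁻¹ with hudef
  have hu : D.W u := D.W_conj h w hw
  have huh : AtPt M u h := by
    show h⁻¹ * u * h ∈ M
    rwa [hudef, show h⁻¹ * (h * w * h⁻¹) * h = w by group]
  have hz1 : AtPt M z 1 := by simpa [AtPt] using hzM
  have hne : (1 : G)⁻¹ * h ∉ M := by simpa using hh
  rcases pair_cases (D.invol u (Or.inr hu)).1 (D.invol z (Or.inl hz)).1 with
    ⟨k, hk, -⟩ | ⟨s, hs1, hss, hsu, hsz, -, hcases⟩
  · exact D.disj z hz (hk ▸ D.W_conj k u hu)
  have hs1g : AtPt M s 1 := D.z_commute hz hz1 hsz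
  have hsM : s ∈ M := by simpa [AtPt] using hs1g
  have hsh : AtPt M s h := by
    have hat : AtPt M u (s * h) := by
      show (s * h)⁻¹ * u * (s * h) ∈ M
      rw [show (s * h)⁻¹ * u * (s * h) = h⁻¹ * (s⁻¹ * (u * s)) * h by group, ← hsu.eq, inv_mul_cancel_left]
      exact huh
    have := D.w_unique hu huh hat
    rwa [← mul_assoc] at this
  rcases D.cases s hss hs1 with hz' | hw' | hx'
  · exact hne (D.z_unique hz' hs1g hsh)
  · exact hne (D.w_unique hw' hs1g hsh)
  · rcases hcases with ⟨⟨k, hk, -⟩, -⟩ | ⟨-, ⟨k, hk, -⟩⟩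
    · exact D.zx_no_w z s hzM hsM hz hx' hsz.symm (hk ▸ D.W_conj k u hu)
    · have hzs : D.Z (z * s) := hk ▸ D.Z_conj k z hz
      refine D.zz_no_x z (z * s) hzM (mul_mem hzM hsM) hz hzs ((Commute.refl z).mul_right hsz.symm) ?_
      rw [← mul_assoc, (D.invol z (Or.inl hz)).1, one_mul]
      exact hx'

end Cfsg.Lib.CoOneUniq
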