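import Mathlib

/-!
# Two involutions

Either they are conjugate by an element commuting with everything that commutes with both, or their
product has a central involution in the group they generate.
-/

set_option autoImplicit false

namespace Cfsg.Lib.CoOneUniq

variable {G : Type*} [Group G]

/-- `a` is carried to `b` by an element commuting with everything commuting with `u` and `v`. -/
def ConjUnder (u v a b : G) : Prop :=
  ∃ g : G, g * a * g⁻¹ = b ∧ ∀ f : G, Commute f u → Commute f v → Commute f g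

theorem conj_pow {u v : G} (hu : u * u = 1) (hv : v * v = 1) (j : ℕ) :
    (u * v) ^ j * u * ((u * v) ^ j)⁻¹ = (u * v) ^ (2 * j) * u ∧
      (u * v) ^ j * v * ((u * v) ^ j)⁻¹ = (u * v) ^ (2 * j) * v := by
  have hinv : ((u * v) ^ j)⁻¹ = (v * u) ^ j := by
    rw [← inv_pow, mul_inv_rev, inv_eq_of_mul_eq_one_right hu, inv_eq_of_mul_eq_one_right hv]
  have hsu : SemiconjBy u ((v * u) ^ j) ((u * v) ^ j) :=
    SemiconjBy.pow_right (by show u * (v * u) = u * v * u; group) j
  have hsv : SemiconjBy v ((v * u) ^ j) ((u * v) ^ j) := by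
    refine SemiconjBy.pow_right ?_ j
    show v * (v * u) = u * v * v
    rw [← mul_assoc, hv, one_mul, mul_assoc, hv, mul_one]
  rw [hinv, two_mul, pow_add]
  exact ⟨by rw [mul_assoc, hsu.eq, ← mul_assoc], by rw [mul_assoc, hsv.eq, ← mul_assoc]⟩

theorem commute_prod_pow {u v : G} (j : ℕ) (f : G) (hfu : Commute f u) (hfv : Commute f v) :
    Commute f ((u * v) ^ j) := (hfu.mul_right hfv).pow_right j

/-- The two possibilities for a pair of involutions. -/
theorem pair_cases [Finite G] {u v : G} (hu : u * u = 1) (hv : v * v = 1) :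
    ConjUnder u v u v ∨
      ∃ s : G, s ≠ 1 ∧ s * s = 1 ∧ Commute s u ∧ Commute s v ∧
        (∀ f : G, Commute f u → Commute f v → Commute f s) ∧
        ((ConjUnder u v u (v * s) ∧ ConjUnder u v v (u * s)) ∨
          (ConjUnder u v u (u * s) ∧ ConjUnder u v v (v * s))) := by
  set k := orderOf (u * v) with hk
  have hk0 : 0 < k := orderOf_pos _
  have hone : (u * v) ^ k = 1 := pow_orderOf_eq_one _
  rcases Nat.even_or_odd k with ⟨m, hm⟩ | ⟨m, hm⟩
  · right
    set s := (u * v) ^ m with hs
    have hss : s * s = 1 := by rw [hs, ← pow_add, ← hm, hone]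
    have hs1 : s ≠ 1 := fun h => by
      have := Nat.le_of_dvd (by omega) (orderOf_dvd_of_pow_eq_one h)
      omega
    have hsu : Commute s u := by
      have h := (conj_pow hu hv m).1
      rw [two_mul, ← hm, hone, one_mul] at h
      calc s * u = s * u * s⁻¹ * s := by group
        _ = u * s := by rw [h]
    have hsv : Commute s v := by
      have h := (conj_pow hu hv m).2
      rw [two_mul, ← hm, hone, one_mul] at h
      calc s * v = s * v * s⁻¹ * s := by group
        _ = v * s := by rw [h]
    refine ⟨s, hs1, hss, hsu, hsv, commute_prod_pow m, ?_⟩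
    rcases Nat.even_or_odd m with ⟨j, hj⟩ | ⟨j, hj⟩
    · refine Or.inr ⟨⟨_, ?_, commute_prod_pow j⟩, ⟨_, ?_, commute_prod_pow j⟩⟩
      · rw [(conj_pow hu hv j).1, two_mul, ← hj, ← hsu.eq]
      · rw [(conj_pow hu hv j).2, two_mul, ← hj, ← hsv.eq]
    · refine Or.inl ⟨⟨_, ?_, commute_prod_pow j⟩, ⟨_, ?_, commute_prod_pow (j + 1)⟩⟩
      · rw [(conj_pow hu hv j).1, ← hsv.eq, hs, hj, pow_succ, mul_assoc, mul_assoc, hv, mul_one]
      · rw [(conj_pow hu hv (j + 1)).2, ← hsu.eq, hs, hj,
          show 2 * (j + 1) = 2 * j + 1 + 1 by omega, pow_succ, mul_assoc, mul_assoc, hv, mul_one]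
  · refine Or.inl ⟨_, ?_, commute_prod_pow m⟩
    rw [(conj_pow hu hv m).1]
    have h : (u * v) ^ (2 * m) * (u * v) = 1 := by rw [← pow_succ, ← hm, hone]
    calc (u * v) ^ (2 * m) * u = (u * v) ^ (2 * m) * (u * v) * v := by
          rw [mul_assoc _ (u * v) v, mul_assoc u v v, hv, mul_one]
      _ = v := by rw [h, one_mul]

end Cfsg.Lib.CoOneUniq
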