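import Cfsg.Agent.Lib.Extra.CoOneUniq.FrameTables

/-!
# The checks of the data of the frame graph
-/

set_option autoImplicit false
set_option maxRecDepth 100000

namespace Cfsg.Lib.CoOneUniq

open Cfsg Cfsg.Lib.Concrete Cfsg.Lib.CoOne FrameData

theorem tree_ok1 : (List.range 3542).all (treeOK 1) = true := by decide +kernel

theorem tree_ok2 : (List.range 3542).all (treeOK 2) = true := by decide +kernel

theorem tree_ok3 : (List.range 3542).all (treeOK 3) = true := by decide +kernel

theorem tree_ok4 : (List.range 3542).all (treeOK 4) = true := by decide +kernel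

theorem tree_ok5 : (List.range 3542).all (treeOK 5) = true := by decide +kernel

theorem tree_ok : ∀ i ∈ [1, 2, 3, 4, 5], (List.range 3542).all (treeOK i) = true := by
  intro i hi
  fin_cases hi
  exacts [tree_ok1, tree_ok2, tree_ok3, tree_ok4, tree_ok5]

end Cfsg.Lib.CoOneUniq
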