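import Cfsg.Agent.Lib.Extra.CoOneUniq.FrameChecksMon
import Cfsg.Agent.Lib.Extra.CoOneUniq.FrameChecksTree
import Cfsg.Agent.Lib.Extra.CoOneUniq.FrameChecksSig

/-!
# The checks of the data of the frame graph
-/

set_option autoImplicit false
set_option maxRecDepth 100000

namespace Cfsg.Lib.CoOneUniq

open Cfsg Cfsg.Lib.Concrete Cfsg.Lib.CoOne FrameData

theorem mons_len : mons.length = 80 := by decide +kernel

theorem xi_tab : xiImgs = xiTab := by decide +kernel

theorem cert_ok : ∀ i ∈ [1, 2, 3, 4, 5],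
    chainsOK i = true ∧ samesOK i = true ∧ upsOK i = true ∧ rootsOK i = true ∧ stabsOK i = true := by
  decide +kernel

theorem tri_ok : triTab.all (fun p => decide (p.1 < mons.length) && decide (p.2 < mons.length) &&
    pimg (monAt p.1).1 m24BaseOctad == m24BaseOctad && pimg (monAt p.2).1 m24BaseOctad == m24BaseOctad &&
    evW [none, some p.1, none] topCode == evW [some p.2, none] topCode) = true := by decide +kernel

theorem rep_kinds : (List.range 6).map (fun i => kindC (repCode i)) = [0, 0, 8, 8, 25, 12] ∧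
    repCode 1 ≠ topCode ∧ nodeAt 1 0 = topCode := by decide +kernel

theorem word_tab : ∀ i < 6, ∀ j < 24, evW (wordOf i) (2 ^ j) = comboAux (wordTab.getD i []) (2 ^ j) := by
  decide +kernel

theorem word_ok : (List.range 6).all (fun i => (wordOf i).all fun l => Nat.blt (l.getD 0) mons.length) = true ∧
    wordOf 0 = [] ∧ wordOf 1 = [none] := by decide +kernel

theorem par_ok : ∀ i ∈ [2, 3, 4, 5], ∃ p < 6, ∃ a < mons.length, levN p + 1 = levN i ∧
    wordOf i = wordOf p ++ [some a, none] ∧ evW (wordOf p) topCode = nodeAt i 0 := by decide +kernel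

theorem high_same : nSame.getD 4 0 = 3542 ∧ nSame.getD 5 0 = 3542 ∧ nLow.getD 1 0 = 1 ∧
    ∀ i ∈ [1, 2, 3, 4, 5], 0 < nLow.getD i 0 ∧ nLow.getD i 0 ≤ nSame.getD i 0 ∧ nSame.getD i 0 ≤ 3542 := by
  decide +kernel

theorem low_roots : ∀ i ∈ [2, 3, 4, 5], (rootTab.getD i []).all (fun k => Nat.ble (nLow.getD i 0) k || k == 0 ||
    (chainTab.getD i []).any (fun (n, _, t) => n == 0 && t == k)) = true := by decide +kernel

theorem low_distinct : ((List.range 35).map (nodeAt 2)).Nodup ∧ nLow.getD 2 0 = 35 ∧ nLow.getD 3 0 = 7 := by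
  decide +kernel

end Cfsg.Lib.CoOneUniq
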