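import Cfsg.Agent.Lib.Extra.CoOneUniq.FrameTables

/-!
# The checks of the data of the frame graph
-/

set_option autoImplicit false
set_option maxRecDepth 100000

namespace Cfsg.Lib.CoOneUniq

open Cfsg Cfsg.Lib.Concrete Cfsg.Lib.CoOne FrameData

theorem mons_ok0 : (List.range' 0 10).all monOK = true := by decide +kernel

theorem mons_ok1 : (List.range' 10 10).all monOK = true := by decide +kernel

theorem mons_ok2 : (List.range' 20 10).all monOK = true := by decide +kernel

theorem mons_ok3 : (List.range' 30 10).all monOK = true := by decide +kernel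

theorem mons_ok4 : (List.range' 40 10).all monOK = true := by decide +kernel

theorem mons_ok5 : (List.range' 50 10).all monOK = true := by decide +kernel

theorem mons_ok6 : (List.range' 60 10).all monOK = true := by decide +kernel

theorem mons_ok7 : (List.range' 70 10).all monOK = true := by decide +kernel

theorem mons_ok : ∀ k < 80, monOK k = true := by
  intro k hk
  have h : ∃ i < 8, 10 * i ≤ k ∧ k < 10 * i + 10 := ⟨k / 10, by omega, by omega, by omega⟩
  obtain ⟨i, hi, h1, h2⟩ := h
  have hm : k ∈ List.range' (10 * i) 10 := List.mem_range'_1.2 ⟨h1, h2⟩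
  interval_cases i
  exacts [List.all_eq_true.1 mons_ok0 k hm, List.all_eq_true.1 mons_ok1 k hm, List.all_eq_true.1 mons_ok2 k hm,
    List.all_eq_true.1 mons_ok3 k hm, List.all_eq_true.1 mons_ok4 k hm, List.all_eq_true.1 mons_ok5 k hm,
    List.all_eq_true.1 mons_ok6 k hm, List.all_eq_true.1 mons_ok7 k hm]

end Cfsg.Lib.CoOneUniq
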