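import Cfsg.Agent.Lib.Concrete.LeechMod2
import Cfsg.Agent.Lib.Concrete.LeechXi
import Cfsg.Agent.Lib.CoOneLocal.Code

/-!
# Classes of the lattice modulo twice itself as numbers below `2 ^ 24`

A fixed basis and the dual matrix (scaled by eight) give the coordinates of a class as bits; an
automorphism acts on these numbers by the exclusive-or of the images of the basis.
-/

set_option autoImplicit false
set_option maxRecDepth 100000

namespace Cfsg.Lib.CoOneUniq

open Cfsg Cfsg.Lib.Concrete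

def codeMat : List (List ℤ) := [
  [8, 0, 0, 0, 0, 0, 0, 0, 0, 0, 0, 0, 0, 0, 0, 0, 0, 0, 0, 0, 0, 0, 0, 0],
  [-4, 4, 0, 0, 0, 0, 0, 0, 0, 0, 0, 0, 0, 0, 0, 0, 0, 0, 0, 0, 0, 0, 0, 0],
  [-4, 0, 4, 0, 0, 0, 0, 0, 0, 0, 0, 0, 0, 0, 0, 0, 0, 0, 0, 0, 0, 0, 0, 0],
  [-4, 0, 0, 4, 0, 0, 0, 0, 0, 0, 0, 0, 0, 0, 0, 0, 0, 0, 0, 0, 0, 0, 0, 0],
  [-4, 0, 0, 0, 4, 0, 0, 0, 0, 0, 0, 0, 0, 0, 0, 0, 0, 0, 0, 0, 0, 0, 0, 0],
  [-4, 0, 0, 0, 0, 4, 0, 0, 0, 0, 0, 0, 0, 0, 0, 0, 0, 0, 0, 0, 0, 0, 0, 0],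
  [-4, 0, 0, 0, 0, 0, 4, 0, 0, 0, 0, 0, 0, 0, 0, 0, 0, 0, 0, 0, 0, 0, 0, 0],
  [-4, 0, 0, 0, 0, 0, 0, 4, 0, 0, 0, 0, 0, 0, 0, 0, 0, 0, 0, 0, 0, 0, 0, 0],
  [-4, 0, 0, 0, 0, 0, 0, 0, 4, 0, 0, 0, 0, 0, 0, 0, 0, 0, 0, 0, 0, 0, 0, 0],
  [-4, 0, 0, 0, 0, 0, 0, 0, 0, 4, 0, 0, 0, 0, 0, 0, 0, 0, 0, 0, 0, 0, 0, 0],
  [-4, 0, 0, 0, 0, 0, 0, 0, 0, 0, 4, 0, 0, 0, 0, 0, 0, 0, 0, 0, 0, 0, 0, 0],
  [-4, 0, 0, 0, 0, 0, 0, 0, 0, 0, 0, 4, 0, 0, 0, 0, 0, 0, 0, 0, 0, 0, 0, 0],
  [10, -2, -2, -2, -2, 0, 0, -2, 0, 0, -2, 0, 2, 0, 0, 0, 0, 0, 0, 0, 0, 0, 0, 0],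
  [12, -2, -2, -2, -2, -2, 0, 0, -2, 0, 0, -2, 0, 2, 0, 0, 0, 0, 0, 0, 0, 0, 0, 0],
  [10, -2, 0, 0, 0, -2, -2, -2, 0, -2, -2, 0, 0, 0, 2, 0, 0, 0, 0, 0, 0, 0, 0, 0],
  [12, -2, -2, 0, 0, 0, -2, -2, -2, 0, -2, -2, 0, 0, 0, 2, 0, 0, 0, 0, 0, 0, 0, 0],
  [10, -2, 0, 0, -2, 0, 0, 0, -2, -2, -2, -2, 0, 0, 0, 0, 2, 0, 0, 0, 0, 0, 0, 0],
  [10, 0, 0, -2, -2, -2, 0, -2, 0, -2, 0, -2, 0, 0, 0, 0, 0, 2, 0, 0, 0, 0, 0, 0],
  [10, 0, -2, -2, 0, -2, -2, -2, -2, 0, 0, 0, 0, 0, 0, 0, 0, 0, 2, 0, 0, 0, 0, 0],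
  [12, -2, 0, -2, -2, 0, -2, -2, -2, -2, 0, 0, 0, 0, 0, 0, 0, 0, 0, 2, 0, 0, 0, 0],
  [12, 0, -2, 0, -2, -2, 0, -2, -2, -2, -2, 0, 0, 0, 0, 0, 0, 0, 0, 0, 2, 0, 0, 0],
  [12, 0, 0, -2, 0, -2, -2, 0, -2, -2, -2, -2, 0, 0, 0, 0, 0, 0, 0, 0, 0, 2, 0, 0],
  [10, -2, -2, -2, 0, 0, -2, 0, 0, -2, 0, -2, 0, 0, 0, 0, 0, 0, 0, 0, 0, 0, 2, 0],
  [-51, 7, 5, 7, 5, 5, 5, 7, 7, 7, 5, 5, -1, -1, -1, -1, -1, -1, -1, -1, -1, -1, -1, 1]]

def wordMasks : List ℕ := [0, 4845570, 2838523, 7221256, 6606831, 4825055, 1261503, 2019456, 4038912, 8077824, 5123071, 1857535, 0, 0, 0, 0, 0, 0, 0, 0, 0, 0, 0, 0]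

/-- The basis. -/
def bvec : List (GolayPt → ℤ) :=
  oddBase :: (basisMasks.tail.map twoWord) ++
    ([12, 13, 14, 15, 16, 17, 18, 19, 20, 21, 22].map fun i => fourPair (gpt (Fin.ofNat 24 i))) ++
    [fun p => if p = none then 8 else 0]

/-- Eight times a coordinate. -/
def cdot (j : ℕ) (x : GolayPt → ℤ) : ℤ :=
  bits24.foldr (fun i a => (codeMat.getD j []).getD i 0 * x (gpt (Fin.ofNat 24 i)) + a) 0

/-- The class of a lattice vector as a number. -/
def code (x : GolayPt → ℤ) : ℕ := orMask bits24 (fun j => cdot j x % 16 == 8) id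

/-- The combination of basis vectors. -/
def bcombo (f : ℕ → ℤ) (p : GolayPt) : ℤ := bits24.foldr (fun j a => f j * (bvec.getD j 0) p + a) 0

theorem cdot_add (j : ℕ) (x y : GolayPt → ℤ) : cdot j (x + y) = cdot j x + cdot j y := by
  simp only [cdot, bits24, List.foldr_cons, List.foldr_nil, Pi.add_apply]
  ring

theorem cdot_neg (j : ℕ) (x : GolayPt → ℤ) : cdot j (-x) = -cdot j x := by
  simp only [cdot, bits24, List.foldr_cons, List.foldr_nil, Pi.neg_apply]
  ring

theorem cdot_zero (j : ℕ) : cdot j 0 = 0 := by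
  simp [cdot, bits24]

theorem bcombo_add (f g : ℕ → ℤ) (p : GolayPt) : bcombo (fun j => f j + g j) p = bcombo f p + bcombo g p := by
  simp only [bcombo, bits24, List.foldr_cons, List.foldr_nil]
  ring

theorem bcombo_neg (f : ℕ → ℤ) (p : GolayPt) : bcombo (fun j => -f j) p = -bcombo f p := by
  simp only [bcombo, bits24, List.foldr_cons, List.foldr_nil]
  ring

theorem bcombo_two (f : ℕ → ℤ) (p : GolayPt) : bcombo (fun j => 2 * f j) p = 2 * bcombo f p := by
  simp only [bcombo, bits24, List.foldr_cons, List.foldr_nil]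
  ring

/-- The checks on a generator. -/
def genOK (x : GolayPt → ℤ) : Bool :=
  bits24.all (fun j => cdot j x % 8 == 0) &&
    bits24.all fun i => bcombo (fun j => cdot j x / 8) (gpt (Fin.ofNat 24 i)) == x (gpt (Fin.ofNat 24 i))

theorem gens_ok : genOK oddBase = true ∧ basisMasks.all (fun b => genOK (twoWord b)) = true ∧
    bits24.all (fun i => genOK (fourPair (gpt (Fin.ofNat 24 i)))) = true := by decide +kernel

theorem bvec_ok : bvec.length = 24 ∧ bits24.all (fun j => inLeech (bvec.getD j 0) &&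
    (code (bvec.getD j 0) == 2 ^ j)) = true := by decide +kernel

theorem gpt_ofNat (p : GolayPt) : gpt (Fin.ofNat 24 (gidx p).val) = p := by
  simp [Fin.ofNat, Nat.mod_eq_of_lt (gidx p).isLt, gpt_gidx]

theorem genOK_spec {x : GolayPt → ℤ} (h : genOK x = true) :
    (∀ j ∈ bits24, (8 : ℤ) ∣ cdot j x) ∧ ∀ p, bcombo (fun j => cdot j x / 8) p = x p := by
  simp only [genOK, Bool.and_eq_true, List.all_eq_true, beq_iff_eq] at h
  refine ⟨fun j hj => Int.dvd_of_emod_eq_zero (h.1 j hj), fun p => ?_⟩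
  have := h.2 _ (mem_bits24.2 (gidx p).isLt)
  rwa [gpt_ofNat] at this

theorem bcombo_congr {f g : ℕ → ℤ} (h : ∀ j ∈ bits24, f j = g j) (p : GolayPt) :
    bcombo f p = bcombo g p := by
  simp only [bcombo, bits24, List.foldr_cons, List.foldr_nil]
  simp only [bits24, List.mem_cons, List.not_mem_nil, or_false, forall_eq_or_imp, forall_eq] at h
  simp only [h]

theorem cdot_spec {x : GolayPt → ℤ} (hx : x ∈ leechLattice) :
    (∀ j ∈ bits24, (8 : ℤ) ∣ cdot j x) ∧ ∀ p, bcombo (fun j => cdot j x / 8) p = x p := by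
  refine AddSubgroup.closure_induction
    (p := fun a _ => (∀ j ∈ bits24, (8 : ℤ) ∣ cdot j a) ∧ ∀ p, bcombo (fun j => cdot j a / 8) p = a p)
    (fun y hy => ?_) ?_ (fun a b _ _ ha hb => ?_) (fun a _ ha => ?_) (leech_le_gens hx)
  · rcases hy with (hy | hy) | hy
    · rw [Set.mem_singleton_iff.1 hy]; exact genOK_spec gens_ok.1
    · obtain ⟨b, hb, rfl⟩ := hy
      exact genOK_spec (List.all_eq_true.1 gens_ok.2.1 b hb)
    · obtain ⟨q, rfl⟩ := hy
      have := List.all_eq_true.1 gens_ok.2.2 _ (mem_bits24.2 (gidx q).isLt)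
      rw [gpt_ofNat] at this
      exact genOK_spec this
  · exact ⟨fun j _ => by rw [cdot_zero]; exact dvd_zero _, fun p => by simp [bcombo, cdot_zero, bits24]⟩
  · refine ⟨fun j hj => by rw [cdot_add]; exact dvd_add (ha.1 j hj) (hb.1 j hj), fun p => ?_⟩
    rw [bcombo_congr (g := fun j => cdot j a / 8 + cdot j b / 8) fun j hj => by
      rw [cdot_add, Int.add_ediv_of_dvd_left (ha.1 j hj)], bcombo_add, ha.2, hb.2]
    rfl
  · refine ⟨fun j hj => by rw [cdot_neg]; exact dvd_neg.2 (ha.1 j hj), fun p => ?_⟩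
    rw [bcombo_congr (g := fun j => -(cdot j a / 8)) fun j hj => by
      rw [cdot_neg, Int.neg_ediv_of_dvd (ha.1 j hj)], bcombo_neg, ha.2]
    rfl

theorem code_lt (x : GolayPt → ℤ) : code x < 2 ^ 24 := orMask_lt _ _ _ fun _ hi _ => mem_bits24.1 hi

theorem testBit_code (x : GolayPt → ℤ) {j : ℕ} (hj : j < 24) :
    (code x).testBit j = true ↔ cdot j x % 16 = 8 := by
  rw [code, testBit_orMask]
  constructor
  · rintro ⟨i, -, h, rfl⟩
    simpa using h
  · intro h
    exact ⟨j, mem_bits24.2 hj, by simpa using h, rfl⟩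

/-- Membership of the doubled lattice. -/
def Twice (x y : GolayPt → ℤ) : Prop := ∃ z ∈ leechLattice, y - x = 2 • z

theorem code_eq_iff {x y : GolayPt → ℤ} (hx : x ∈ leechLattice) (hy : y ∈ leechLattice) :
    code x = code y ↔ Twice x y := by
  constructor
  · intro h
    have hd : ∀ j ∈ bits24, (2 : ℤ) ∣ cdot j y / 8 - cdot j x / 8 := by
      intro j hj
      have h1 := testBit_code x (mem_bits24.1 hj)
      rw [h, testBit_code y (mem_bits24.1 hj)] at h1
      have := (cdot_spec hx).1 j hj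
      have := (cdot_spec hy).1 j hj
      omega
    refine ⟨fun p => bcombo (fun j => (cdot j y / 8 - cdot j x / 8) / 2) p, ?_, funext fun p => ?_⟩
    · have hb : ∀ j ∈ bits24, bvec.getD j 0 ∈ leechLattice := fun j hj => by
        have := List.all_eq_true.1 bvec_ok.2 j hj
        simp only [Bool.and_eq_true] at this
        exact mem_leech_of_inLeech this.1
      have key : ∀ (L : List ℕ), (∀ j ∈ L, j ∈ bits24) → ∀ c : ℕ → ℤ,
          (fun p => L.foldr (fun j a => c j * (bvec.getD j 0) p + a) 0) ∈ leechLattice := by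
        intro L
        induction L with
        | nil => exact fun _ _ => zero_mem _
        | cons a L ih =>
          intro hL c
          exact add_mem (zsmul_mem (hb a (hL a List.mem_cons_self)) (c a))
            (ih (fun j hj => hL j (List.mem_cons_of_mem _ hj)) c)
      exact key bits24 (fun _ h => h) _
    · rw [Pi.sub_apply, Pi.smul_apply, ← (cdot_spec hx).2 p, ← (cdot_spec hy).2 p, nsmul_eq_mul,
        Nat.cast_ofNat, ← bcombo_two, sub_eq_iff_eq_add, ← bcombo_add]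
      exact bcombo_congr (fun j hj => by have := hd j hj; omega) p
  · rintro ⟨z, hz, e⟩
    refine Nat.eq_of_testBit_eq fun j => ?_
    by_cases hj : j < 24
    · have hy' : y = x + (z + z) := by rw [← two_nsmul, ← e, add_sub_cancel]
      rw [Bool.eq_iff_iff, testBit_code x hj, testBit_code y hj, hy', cdot_add, cdot_add]
      have := (cdot_spec hz).1 j (mem_bits24.2 hj)
      have := (cdot_spec hx).1 j (mem_bits24.2 hj)
      omega
    · have hp : 2 ^ 24 ≤ 2 ^ j := Nat.pow_le_pow_right (by norm_num) (not_lt.1 hj)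
      rw [Nat.testBit_lt_two_pow (lt_of_lt_of_le (code_lt _) hp),
        Nat.testBit_lt_two_pow (lt_of_lt_of_le (code_lt _) hp)]

theorem code_add {x y : GolayPt → ℤ} (hx : x ∈ leechLattice) (hy : y ∈ leechLattice) :
    code (x + y) = code x ^^^ code y := by
  refine Nat.eq_of_testBit_eq fun j => ?_
  rw [Nat.testBit_xor]
  by_cases hj : j < 24
  · have := (cdot_spec hx).1 j (mem_bits24.2 hj)
    have := (cdot_spec hy).1 j (mem_bits24.2 hj)
    have h1 := testBit_code x hj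
    have h2 := testBit_code y hj
    have h3 := testBit_code (x + y) hj
    rw [cdot_add] at h3
    cases ha : (code x).testBit j <;> cases hb : (code y).testBit j <;>
      cases hc : (code (x + y)).testBit j <;> simp [ha, hb, hc] at h1 h2 h3 ⊢ <;> omega
  · have hp : 2 ^ 24 ≤ 2 ^ j := Nat.pow_le_pow_right (by norm_num) (not_lt.1 hj)
    rw [Nat.testBit_lt_two_pow (lt_of_lt_of_le (code_lt _) hp),
      Nat.testBit_lt_two_pow (lt_of_lt_of_le (code_lt _) hp),
      Nat.testBit_lt_two_pow (lt_of_lt_of_le (code_lt _) hp)]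
    rfl

theorem code_zero : code 0 = 0 := by
  refine Nat.eq_of_testBit_eq fun j => ?_
  by_cases hj : j < 24
  · rw [Nat.zero_testBit, Bool.eq_false_iff, Ne, testBit_code 0 hj, cdot_zero]
    norm_num
  · rw [Nat.zero_testBit, Nat.testBit_lt_two_pow (lt_of_lt_of_le (code_lt _)
      (Nat.pow_le_pow_right (by norm_num) (not_lt.1 hj)))]

theorem code_neg {x : GolayPt → ℤ} (hx : x ∈ leechLattice) : code (-x) = code x :=
  (code_eq_iff (neg_mem hx) hx).2 ⟨x, hx, by rw [sub_neg_eq_add, two_nsmul]⟩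

/-- The sum of the vectors selected by the bits. -/
def vsum : List leechLattice → ℕ → leechLattice
  | [], _ => 0
  | b :: bs, c => (bif c % 2 == 1 then b else 0) + vsum bs (c / 2)

theorem code_vsum (L : List leechLattice) (c : ℕ) :
    code (vsum L c : GolayPt → ℤ) = comboAux (L.map fun v : leechLattice => code (v : GolayPt → ℤ)) c := by
  induction L generalizing c with
  | nil => exact code_zero
  | cons b bs ih =>
    rw [vsum, AddSubgroup.coe_add, code_add (Subtype.prop _) (Subtype.prop _), ih, List.map_cons, comboAux]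
    cases c % 2 == 1
    · show code ((0 : leechLattice) : GolayPt → ℤ) ^^^ _ = _
      rw [AddSubgroup.coe_zero, code_zero]
      rfl
    · rfl

theorem powers_combo : ∀ m < 2 ^ 24, comboAux (bits24.map (2 ^ ·)) m = m :=
  Cfsg.Lib.CoOneLocal.xor_all 24 (by decide +kernel)
    (fun a b _ _ ha hb => by rw [comboAux_xor, ha, hb]) (by decide +kernel)

theorem bvec_mem {j : ℕ} (hj : j < 24) : bvec.getD j 0 ∈ leechLattice := by
  have := List.all_eq_true.1 bvec_ok.2 j (mem_bits24.2 hj)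
  simp only [Bool.and_eq_true] at this
  exact mem_leech_of_inLeech this.1

/-- The basis in the lattice. -/
def bLeech : List leechLattice := (List.finRange 24).map fun j => ⟨bvec.getD j.val 0, bvec_mem j.isLt⟩

theorem bLeech_codes : bLeech.map (fun v : leechLattice => code (v : GolayPt → ℤ)) = bits24.map (2 ^ ·) := by
  have h : (List.finRange 24).map (fun j => code (bvec.getD j.val 0)) = bits24.map (2 ^ ·) := by decide +kernel
  rw [bLeech, List.map_map]
  exact h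

theorem code_smul (g : Co0) (v : leechLattice) :
    code ((g • v : leechLattice) : GolayPt → ℤ) =
      comboAux (bLeech.map fun b : leechLattice => code ((g • b : leechLattice) : GolayPt → ℤ)) (code (v : GolayPt → ℤ)) := by
  set c := code (v : GolayPt → ℤ)
  have hc : code (vsum bLeech c : GolayPt → ℤ) = c := by
    rw [code_vsum, bLeech_codes, powers_combo _ (code_lt _)]
  obtain ⟨z, hz, e⟩ := (code_eq_iff (Subtype.prop _) v.2).1 hc
  have hv : v = vsum bLeech c + ((⟨z, hz⟩ : leechLattice) + ⟨z, hz⟩) := Subtype.ext (by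
    rw [AddSubgroup.coe_add, AddSubgroup.coe_add, ← two_nsmul, ← e, add_sub_cancel])
  have hvs : ∀ L : List leechLattice, ∀ c, g • vsum L c = vsum (L.map (g • ·)) c := by
    intro L
    induction L with
    | nil => exact fun _ => map_zero (co0Hom g)
    | cons b bs ih =>
      intro c
      rw [vsum, co0_add, ih, List.map_cons, vsum]
      cases c % 2 == 1
      · exact congrArg (· + _) (map_zero (co0Hom g))
      · rfl
  conv_lhs => rw [hv, co0_add, co0_add, AddSubgroup.coe_add, code_add (Subtype.prop _) (Subtype.prop _),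
    AddSubgroup.coe_add, code_add (Subtype.prop _) (Subtype.prop _), Nat.xor_self, Nat.xor_zero, hvs,
    code_vsum, List.map_map]
  rfl

end Cfsg.Lib.CoOneUniq
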