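import Cfsg.Agent.Lib.Extra.CoOneUniq.FrameGlue

/-!
# The covering of the frame graph by a glued group

The points of the covering are the classes of `x` modulo `GN`; lemmas for lifting the orbits layer by
layer.
-/

set_option autoImplicit false
set_option maxRecDepth 100000

namespace Cfsg.Lib.CoOneUniq

open Cfsg Cfsg.Lib.Concrete Cfsg.Lib.CoOne

theorem xi_eps_check : (List.finRange 24).all (fun i => (List.finRange 24).all fun j =>
    let v : GolayPt → ℤ := fun p => if p = gpt i then 8 else 0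
    let sg : (GolayPt → ℤ) → GolayPt → ℤ := fun w p => if p ∈ oSet then -w p else w p
    xiFun (sg v) (gpt j) == sg (xiFun v) (gpt j)) = true := by decide +kernel

theorem xiEl_mem : xiEl ∈ cZ := by
  refine Subgroup.mem_centralizer_singleton_iff.2 ?_
  rw [xiEl, zEl, ← map_mul, ← map_mul]
  refine congrArg kap (co0_ext fun i => Subtype.ext (funext fun p => ?_))
  rw [mul_smul, mul_smul, xiCo0_apply, eps_smul, xiCo0_apply]
  have h := List.all_eq_true.1 (List.all_eq_true.1 xi_eps_check (gidx i) (List.mem_finRange _))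
    (gidx p) (List.mem_finRange _)
  simp only [gpt_gidx, beq_iff_eq] at h
  have he : ((e8 i : leechLattice) : GolayPt → ℤ) = fun p => if p = i then 8 else 0 :=
    funext fun q => Pi.single_apply i 8 q
  have hs : ((eps • e8 i : leechLattice) : GolayPt → ℤ) =
      fun q => if q ∈ oSet then -(fun p => if p = i then (8 : ℤ) else 0) q else (fun p => if p = i then 8 else 0) q :=
    funext fun q => by rw [eps_smul, he]
  rw [hs, he]
  exact h

namespace Glue

variable {X : Type*} [Group X] (G : Glue X)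

/-- The lift of the element of the sextet. -/
noncomputable def e : X := (G.surjC xiEl xiEl_mem).choose

theorem e_mem : G.e ∈ G.GC := (G.surjC xiEl xiEl_mem).choose_spec.1

theorem pr_e : G.pr G.e = xiEl := (G.surjC xiEl xiEl_mem).choose_spec.2

theorem e_sq : G.e * G.e = 1 :=
  G.injC _ (mul_mem G.e_mem G.e_mem) (by rw [map_mul, G.pr_e, xiEl_sq])

/-- The lift of a monomial element. -/
noncomputable def lN (n : ↥N1) : X := (G.surjN n n.2).choose

theorem lN_mem (n : ↥N1) : G.lN n ∈ G.GN := (G.surjN n n.2).choose_spec.1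

theorem pr_lN (n : ↥N1) : G.pr (G.lN n) = n := (G.surjN n n.2).choose_spec.2

theorem eq_lN {a : X} (ha : a ∈ G.GN) {n : ↥N1} (h : G.pr a = n) : a = G.lN n :=
  inv_mul_eq_one.1 (G.injN _ (mul_mem (inv_mem ha) (G.lN_mem n))
    (by rw [map_mul, map_inv, h, G.pr_lN, inv_mul_cancel]))

theorem mem_GN_of_GC {x : X} (hx : x ∈ G.GC) (h : G.pr x ∈ N1) : x ∈ G.GN := by
  obtain ⟨a, ha, e⟩ := G.surjN _ h
  have haC := G.inter a ha (by rw [e]; exact G.mapC x hx)
  rw [← show a = x from inv_mul_eq_one.1 (G.injC _ (mul_mem (inv_mem haC) hx)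
    (by rw [map_mul, map_inv, e, inv_mul_cancel]))]
  exact ha

/-- The same point of the covering. -/
def EqV (x y : X) : Prop := x⁻¹ * y ∈ G.GN

/-- The frame of a point. -/
noncomputable def pos (x : X) : ℕ := fcode (G.pr x)

/-- The adjacency of two points. -/
def Adj (x y : X) : Prop := ∃ a ∈ G.GN, ∃ b ∈ G.GN, y = x * a * G.e * b

variable {G}

theorem EqV.refl (x : X) : G.EqV x x := by
  show x⁻¹ * x ∈ G.GN
  rw [inv_mul_cancel]
  exact one_mem _

theorem EqV.symm {x y : X} (h : G.EqV x y) : G.EqV y x := by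
  have := inv_mem h
  rwa [mul_inv_rev, inv_inv] at this

theorem EqV.trans {x y z : X} (h : G.EqV x y) (h' : G.EqV y z) : G.EqV x z := by
  have := mul_mem h h'
  rwa [show x⁻¹ * y * (y⁻¹ * z) = x⁻¹ * z by group] at this

theorem EqV.smul {x y : X} (g : X) (h : G.EqV x y) : G.EqV (g * x) (g * y) := by
  show (g * x)⁻¹ * (g * y) ∈ G.GN
  rwa [show (g * x)⁻¹ * (g * y) = x⁻¹ * y by group]

theorem EqV.mul_right (x : X) {a : X} (ha : a ∈ G.GN) : G.EqV x (x * a) := by
  show x⁻¹ * (x * a) ∈ G.GN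
  rwa [inv_mul_cancel_left]

theorem pos_eq_iff {x y : X} : G.pos x = G.pos y ↔ G.pr (x⁻¹ * y) ∈ N1 := by
  rw [pos, pos, fcode_eq_iff, map_mul, map_inv]

theorem EqV.pos {x y : X} (h : G.EqV x y) : G.pos x = G.pos y := pos_eq_iff.2 (G.mapN _ h)

theorem pos_mul (x y : X) : G.pos (x * y) = fact (G.pr x) (G.pos y) := by
  rw [pos, pos, map_mul, fcode_mul]

theorem pos_one : G.pos 1 = topCode := by rw [pos, map_one, fcode_one]

theorem Adj.congr {x x' y y' : X} (h : G.Adj x y) (hx : G.EqV x x') (hy : G.EqV y y') : G.Adj x' y' := by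
  obtain ⟨a, ha, b, hb, rfl⟩ := h
  refine ⟨(x⁻¹ * x')⁻¹ * a, mul_mem (inv_mem hx) ha, b * ((x * a * G.e * b)⁻¹ * y'), mul_mem hb hy, ?_⟩
  group

theorem Adj.smul {x y : X} (g : X) (h : G.Adj x y) : G.Adj (g * x) (g * y) := by
  obtain ⟨a, ha, b, hb, rfl⟩ := h
  exact ⟨a, ha, b, hb, by group⟩

theorem Adj.symm {x y : X} (h : G.Adj x y) : G.Adj y x := by
  obtain ⟨a, ha, b, hb, rfl⟩ := h
  refine ⟨b⁻¹, inv_mem hb, a⁻¹, inv_mem ha, ?_⟩
  rw [show x * a * G.e * b * b⁻¹ * G.e * a⁻¹ = x * a * (G.e * G.e) * a⁻¹ by group, G.e_sq]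
  group

/-- A neighbour over a neighbouring frame of any point over the same frame. -/
theorem Adj.exists_over {x y x' : X} (h : G.Adj x y) (hx : G.pos x = G.pos x') :
    ∃ y', G.Adj x' y' ∧ G.pos y' = G.pos y := by
  obtain ⟨a, ha, b, hb, rfl⟩ := h
  obtain ⟨n, hn, hn'⟩ := G.surjN _ (pos_eq_iff.1 hx.symm)
  refine ⟨x' * (n * a) * G.e * 1, ⟨n * a, mul_mem hn ha, 1, one_mem _, rfl⟩, ?_⟩
  refine Eq.trans ?_ (EqV.mul_right (x * a * G.e) hb).pos
  show fcode (G.pr _) = fcode (G.pr _)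
  rw [mul_one, map_mul, map_mul, map_mul, hn', map_mul, map_inv, map_mul, map_mul]
  refine congrArg fcode ?_
  group

variable (G)

/-- The stabiliser of an edge lifts. -/
def EdgeOK : Prop := ∀ n ∈ G.GN, G.pos (n * G.e) = G.pos G.e → G.EqV G.e (n * G.e)

/-- A point lies over one of the orbits of bounded level. -/
def InS (lev : Fin 6 → ℕ) (w : Fin 6 → X) (d : ℕ) (x : X) : Prop :=
  ∃ i, lev i ≤ d ∧ ∃ a ∈ G.GN, G.EqV x (a * w i)

/-- A frame is the frame of a known neighbour of a representative. -/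
def Near (lev : Fin 6 → ℕ) (w : Fin 6 → X) (i : Fin 6) (c d : ℕ) : Prop :=
  ∃ y, G.InS lev w d y ∧ G.Adj y (w i) ∧ G.pos y = c

/-- The points of bounded level are determined by their frames. -/
def InjS (lev : Fin 6 → ℕ) (w : Fin 6 → X) (d : ℕ) : Prop :=
  ∀ x y, G.InS lev w d x → G.InS lev w d y → G.pos x = G.pos y → G.EqV x y

variable {G} {lev : Fin 6 → ℕ} {w : Fin 6 → X}

theorem InS.mono {x : X} {d d' : ℕ} (h : G.InS lev w d x) (hd : d ≤ d') : G.InS lev w d' x := by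
  obtain ⟨i, hi, h⟩ := h
  exact ⟨i, hi.trans hd, h⟩

theorem InS.congr {x y : X} {d : ℕ} (h : G.InS lev w d x) (he : G.EqV x y) : G.InS lev w d y := by
  obtain ⟨i, hi, a, ha, h⟩ := h
  exact ⟨i, hi, a, ha, he.symm.trans h⟩

theorem InS.smul {x g : X} {d : ℕ} (hg : g ∈ G.GN) (h : G.InS lev w d x) : G.InS lev w d (g * x) := by
  obtain ⟨i, hi, a, ha, h⟩ := h
  exact ⟨i, hi, g * a, mul_mem hg ha, by rw [mul_assoc]; exact h.smul g⟩

theorem InS.self (i : Fin 6) {d : ℕ} (h : lev i ≤ d) {a : X} (ha : a ∈ G.GN) :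
    G.InS lev w d (a * w i) := ⟨i, h, a, ha, EqV.refl _⟩

/-- Two neighbours of a point over the same frame coincide. -/
theorem nbr_unique (hE : G.EdgeOK) {x y y' : X} (h : G.Adj x y) (h' : G.Adj x y')
    (hp : G.pos y = G.pos y') : G.EqV y y' := by
  obtain ⟨a, ha, b, hb, rfl⟩ := h
  obtain ⟨a', ha', b', hb', rfl⟩ := h'
  refine (EqV.mul_right (x * a * G.e) hb).symm.trans (EqV.trans ?_ (EqV.mul_right _ hb'))
  rw [← (EqV.mul_right (x * a * G.e) hb).pos, ← (EqV.mul_right (x * a' * G.e) hb').pos] at hp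
  have hn : G.EqV G.e (a⁻¹ * a' * G.e) := hE _ (mul_mem (inv_mem ha) ha') (by
    have hp' := pos_eq_iff.1 hp
    refine (pos_eq_iff.2 ?_).symm
    rwa [show G.e⁻¹ * (a⁻¹ * a' * G.e) = (x * a * G.e)⁻¹ * (x * a' * G.e) by group])
  have := hn.smul (x * a)
  rwa [show x * a * (a⁻¹ * a' * G.e) = x * a' * G.e by group] at this

/-- A triangle in a line: relation `xi m xi` in `m' xi N`. -/
theorem triangle {m m' : ↥N1} (hm : (m : Spor.Co1) ∈ cZ) (hm' : (m' : Spor.Co1) ∈ cZ)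
    (h : fcode (xiEl * m * xiEl) = fcode ((m' : Spor.Co1) * xiEl)) (g : X) :
    G.Adj g (g * G.e) ∧ G.Adj g (g * G.lN m * G.e) ∧ G.Adj (g * G.e) (g * G.lN m * G.e) := by
  refine ⟨⟨1, one_mem _, 1, one_mem _, by group⟩, ⟨G.lN m, G.lN_mem _, 1, one_mem _, by group⟩, ?_⟩
  have hmC : G.lN m ∈ G.GC := G.inter _ (G.lN_mem _) (by rw [G.pr_lN]; exact hm)
  have hmC' : G.lN m' ∈ G.GC := G.inter _ (G.lN_mem _) (by rw [G.pr_lN]; exact hm')
  have hb : (G.lN m' * G.e)⁻¹ * (G.e * G.lN m * G.e) ∈ G.GN := by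
    refine G.mem_GN_of_GC (mul_mem (inv_mem (mul_mem hmC' G.e_mem))
      (mul_mem (mul_mem G.e_mem hmC) G.e_mem)) ?_
    rw [map_mul, map_inv, map_mul, map_mul, map_mul, G.pr_lN, G.pr_lN, G.pr_e]
    exact fcode_eq_iff.1 h.symm
  refine ⟨G.lN m', G.lN_mem _, _, hb, ?_⟩
  have e2 : G.e * G.e = 1 := G.e_sq
  calc g * G.lN m * G.e = g * (G.e * G.e) * G.lN m * G.e := by rw [e2, mul_one]
    _ = _ := by group

/-- A stabilising element moves the known neighbours to known neighbours. -/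
theorem Near.smul {i : Fin 6} {c d : ℕ} {g : X} (hg : g ∈ G.GN) (hfix : G.EqV (g * w i) (w i))
    (h : G.Near lev w i c d) : G.Near lev w i (fact (G.pr g) c) d := by
  obtain ⟨y, hy, ha, rfl⟩ := h
  exact ⟨g * y, hy.smul hg, (ha.smul g).congr (EqV.refl _) hfix, pos_mul g y⟩

/-- A step along a triangle. -/
theorem Near.step (hE : G.EdgeOK) {i : Fin 6} {c d d' : ℕ} (hI : G.InjS lev w d) {y : X}
    (hy : G.InS lev w d y) (hN : G.Near lev w i c d) (hc : G.pos y = c) {a : X} (ha : a ∈ G.GN)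
    {m m' : ↥N1} (hm : (m : Spor.Co1) ∈ cZ) (hm' : (m' : Spor.Co1) ∈ cZ)
    (h : fcode (xiEl * m * xiEl) = fcode ((m' : Spor.Co1) * xiEl))
    (hx : G.pos (y * a * G.lN m * G.e) = G.pos (w i)) (hin : G.InS lev w d' (y * a * G.e)) :
    G.Near lev w i (G.pos (y * a * G.e)) d' := by
  obtain ⟨y0, hy0, hadj, hc0⟩ := hN
  obtain ⟨h1, h2, h3⟩ := G.triangle hm hm' h (y * a)
  have hy' : G.Adj y (w i) := hadj.congr (hI _ _ hy0 hy (hc0.trans hc.symm)) (EqV.refl _)
  have hx' : G.EqV (y * a * G.lN m * G.e) (w i) :=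
    nbr_unique hE (h2.congr (EqV.mul_right y ha).symm (EqV.refl _)) hy' hx
  exact ⟨_, hin, h3.congr (EqV.refl _) hx', rfl⟩

/-- The stabiliser of a representative lifts. -/
theorem inj_of_low (hE : G.EdgeOK) {i : Fin 6} {d κ : ℕ} (hI : G.InjS lev w d) {c₀ : ℕ}
    (h₀ : G.Near lev w i c₀ d) (hκ : kindC c₀ = κ)
    (hall : ∀ y, G.Adj (w i) y → kindC (G.pos y) = κ → G.Near lev w i (G.pos y) d)
    {a : X} (ha : a ∈ G.GN) (h : G.pos (a * w i) = G.pos (w i)) : G.EqV (a * w i) (w i) := by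
  obtain ⟨y0, hy0, hadj, rfl⟩ := h₀
  obtain ⟨y', hy', hp⟩ := (hadj.symm.smul a).exists_over h
  have hkind : kindC (G.pos y') = κ := by
    rw [hp, pos_mul, pos, kind_N1 (G.mapN a ha)]
    exact hκ
  obtain ⟨z, hz, hza, hzp⟩ := hall y' hy' hkind
  have hzy : G.EqV z (a * y0) := hI _ _ hz (hy0.smul ha) (hzp.trans hp)
  exact nbr_unique hE ((hadj.smul a).congr hzy.symm (EqV.refl _)) hza h

/-- An upward representative. -/
theorem Near.up {i j : Fin 6} {c d e' : ℕ} (hI : G.InjS lev w d) (hjd : lev i ≤ d)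
    (hje : lev j ≤ e') {b : X} (hb : b ∈ G.GN) (hN : G.Near lev w j c d)
    (hbc : fact (G.pr b) c = G.pos (w i)) : G.Near lev w i (G.pos (b * w j)) e' := by
  obtain ⟨y, hy, hadj, rfl⟩ := hN
  have hself : G.InS lev w d (w i) := ⟨i, hjd, 1, one_mem _, by rw [one_mul]; exact EqV.refl _⟩
  have he : G.EqV (b * y) (w i) := hI _ _ (hy.smul hb) hself (by rw [pos_mul, hbc])
  exact ⟨b * w j, InS.self j hje hb, ((hadj.smul b).congr he (EqV.refl _)).symm, rfl⟩

/-- The neighbours of the points of an orbit stay in known orbits. -/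
theorem closure_orbit (hE : G.EdgeOK) {i : Fin 6} {d' : ℕ}
    (hall : ∀ y, G.Adj (w i) y → G.Near lev w i (G.pos y) d') {x y a : X} (ha : a ∈ G.GN)
    (hx : G.EqV x (a * w i)) (h : G.Adj x y) : G.InS lev w d' y := by
  have h' : G.Adj (w i) (a⁻¹ * y) := by
    have := (h.congr hx (EqV.refl y)).smul a⁻¹
    rwa [inv_mul_cancel_left] at this
  obtain ⟨z, hz, hza, hzp⟩ := hall _ h'
  have := ((nbr_unique hE hza.symm h' hzp).smul a)
  rw [mul_inv_cancel_left] at this
  exact (hz.smul ha).congr this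

end Glue

end Cfsg.Lib.CoOneUniq
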