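import Cfsg.Agent.Lib.Extra.CoOneUniq.FrameTables

/-!
# The neighbours of the standard frame

The images of the first neighbour under the monomial group are carried by a set of four points with
entries four in absolute value; all of them are listed.
-/

set_option autoImplicit false
set_option maxRecDepth 100000

namespace Cfsg.Lib.CoOneUniq

open Cfsg Cfsg.Lib.Concrete Cfsg.Lib.CoOne FrameData
open scoped Pointwise

/-- The classes of the pairs through the last point. -/
def qTab : List ℕ :=
  [13062144, 4845568, 13938688, 7221248, 10170368, 11952128, 15515648, 2019328, 4038656, 8077312, 11653120,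
    14917632, 4096, 8192, 16384, 32768, 65536, 131072, 262144, 524288, 1048576, 2097152, 4194304, 8388608]

/-- A pair through the last point. -/
def uVec (p : GolayPt) : GolayPt → ℤ := fun r => (if r = p then 4 else 0) + (if r = none then 4 else 0)

/-- Binary search in the list of neighbours. -/
def nbFind (c : ℕ) : ℕ → ℕ → ℕ → Bool
  | 0, lo, _ => Nat.blt lo 3542 && nbAt lo == c
  | f + 1, lo, hi =>
    bif Nat.ble (nbAt ((lo + hi) / 2)) c then nbFind c f ((lo + hi) / 2) hi else nbFind c f lo ((lo + hi) / 2)

theorem nbFind_sound {c : ℕ} : ∀ {f lo hi : ℕ}, nbFind c f lo hi = true → ∃ k < 3542, nbAt k = c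
  | 0, lo, _, h => by
    rw [nbFind, Bool.and_eq_true, beq_iff_eq] at h
    exact ⟨lo, by simpa [Nat.blt_eq] using h.1, h.2⟩
  | f + 1, lo, hi, h => by
    rw [nbFind] at h
    cases hb : Nat.ble (nbAt ((lo + hi) / 2)) c <;> rw [hb] at h <;> exact nbFind_sound h

theorem four_check : (List.range 24).all (fun a => (List.range a).all fun b => (List.range b).all fun c =>
    (List.range c).all fun d =>
      nbFind (qTab.getD a 0 ^^^ qTab.getD b 0 ^^^ qTab.getD c 0 ^^^ qTab.getD d 0) 12 0 3542 &&
      nbFind (qTab.getD a 0 ^^^ qTab.getD b 0 ^^^ qTab.getD c 0 ^^^ qTab.getD d 0 ^^^ topCode) 12 0 3542) = true := by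
  decide +kernel

theorem uVec_check : (List.finRange 24).all (fun i => inLeech (uVec (gpt i)) &&
    code (uVec (gpt i)) == qTab.getD i.val 0 && code (fun r => if r = gpt i then 8 else 0) == topCode) = true := by
  decide +kernel

theorem uVec_spec (p : GolayPt) : uVec p ∈ leechLattice ∧ code (uVec p) = qTab.getD (gidx p).val 0 ∧
    code ((e8 p : leechLattice) : GolayPt → ℤ) = topCode := by
  have h := List.all_eq_true.1 uVec_check (gidx p) (List.mem_finRange _)
  simp only [gpt_gidx, Bool.and_eq_true, beq_iff_eq] at h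
  refine ⟨mem_leech_of_inLeech h.1.1, h.1.2, ?_⟩
  rw [show ((e8 p : leechLattice) : GolayPt → ℤ) = fun r => if r = p then 8 else 0 from
    funext fun q => Pi.single_apply p 8 q]
  exact h.2

theorem code_eight (D : leechLattice) (h : ∀ p, (8 : ℤ) ∣ (D : GolayPt → ℤ) p) :
    code (D : GolayPt → ℤ) = 0 ∨ code (D : GolayPt → ℤ) = topCode := by
  let A : AddSubgroup leechLattice :=
    { carrier := {v | code (v : GolayPt → ℤ) = 0 ∨ code (v : GolayPt → ℤ) = topCode}
      zero_mem' := Or.inl code_zero
      add_mem' := by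
        intro v w hv hw
        simp only [Set.mem_ofPred_eq, AddSubgroup.coe_add, code_add v.2 w.2] at hv hw ⊢
        rcases hv with e | e <;> rcases hw with e' | e' <;> simp [e, e']
      neg_mem' := by
        intro v hv
        simpa only [Set.mem_ofPred_eq, AddSubgroup.coe_neg, code_neg v.2] using hv }
  have hD : D = ∑ p, ((D : GolayPt → ℤ) p / 8) • e8 p := by
    refine Subtype.ext (funext fun q => ?_)
    rw [AddSubgroup.val_finsetSum, Finset.sum_apply, Finset.sum_eq_single q]
    · rw [AddSubgroup.coe_zsmul, Pi.smul_apply, show ((e8 q : leechLattice) : GolayPt → ℤ) q = 8 from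
        Pi.single_eq_same _ _, smul_eq_mul, Int.ediv_mul_cancel (h q)]
    · intro p _ hpq
      rw [AddSubgroup.coe_zsmul, Pi.smul_apply, show ((e8 p : leechLattice) : GolayPt → ℤ) q = 0 from
        Pi.single_eq_of_ne hpq.symm _, smul_zero]
    · exact fun hq => absurd (Finset.mem_univ q) hq
  rw [hD]
  exact A.sum_mem fun p _ => A.zsmul_mem (Or.inr (uVec_spec p).2.2) _

/-- The class of a vector carried by four points with entries four in absolute value is listed. -/
theorem nb_of_four {x : leechLattice} {T : Finset GolayPt} (hT : T.card = 4)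
    (hin : ∀ p ∈ T, (x : GolayPt → ℤ) p = 4 ∨ (x : GolayPt → ℤ) p = -4)
    (hout : ∀ p ∉ T, (x : GolayPt → ℤ) p = 0) : ∃ k < 3542, nbAt k = code (x : GolayPt → ℤ) := by
  have hc : (T.image gidx).card = 4 := by rw [Finset.card_image_of_injective _ gidx_injective, hT]
  set e := (T.image gidx).orderEmbOfFin hc
  have hmem : ∀ p, p ∈ T ↔ gidx p = e 0 ∨ gidx p = e 1 ∨ gidx p = e 2 ∨ gidx p = e 3 := by
    intro p
    have h1 : gidx p ∈ T.image gidx ↔ p ∈ T := gidx_injective.mem_finset_image
    have h2 : gidx p ∈ Set.range e ↔ gidx p ∈ T.image gidx := by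
      rw [Finset.range_orderEmbOfFin]
      exact Finset.mem_coe
    rw [← h1, ← h2]
    constructor
    · rintro ⟨i, hi⟩
      fin_cases i <;> simp [← hi]
    · rintro (h | h | h | h) <;> exact ⟨_, h.symm⟩
  let u : Fin 4 → leechLattice := fun i => ⟨uVec (gpt (e i)), (uVec_spec _).1⟩
  set S : leechLattice := u 3 + u 2 + u 1 + u 0
  have hS : code (S : GolayPt → ℤ) =
      qTab.getD (e 3).val 0 ^^^ qTab.getD (e 2).val 0 ^^^ qTab.getD (e 1).val 0 ^^^ qTab.getD (e 0).val 0 := by
    have hu : ∀ i, code (u i : GolayPt → ℤ) = qTab.getD (e i).val 0 := fun i =>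
      (uVec_spec _).2.1.trans (by rw [gidx_gpt])
    rw [← hu 3, ← hu 2, ← hu 1, ← hu 0]
    simp only [S, AddSubgroup.coe_add]
    rw [code_add (add_mem (add_mem (u 3).2 (u 2).2) (u 1).2) (u 0).2,
      code_add (add_mem (u 3).2 (u 2).2) (u 1).2, code_add (u 3).2 (u 2).2]
  have hD : ∀ p, (8 : ℤ) ∣ ((x - S : leechLattice) : GolayPt → ℤ) p := by
    intro p
    have hne : ∀ i j : Fin 4, i ≠ j → gpt (e i) ≠ gpt (e j) := fun i j hij h =>
      hij (e.injective (by rw [← gidx_gpt (e i), h, gidx_gpt]))
    have hin' : ∀ i : Fin 4, gpt (e i) ∈ T := fun i => (hmem _).2 (by rw [gidx_gpt]; fin_cases i <;> simp)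
    simp only [S, u, AddSubgroup.coe_sub, AddSubgroup.coe_add, Pi.sub_apply, Pi.add_apply, uVec]
    by_cases hp : p ∈ T
    · obtain ⟨i, hi⟩ : ∃ i : Fin 4, p = gpt (e i) := by
        rcases (hmem p).1 hp with h | h | h | h <;> exact ⟨_, by rw [← h, gpt_gidx]⟩
      subst hi
      fin_cases i <;> simp [hne] <;> rcases hin _ hp with h | h <;> simp at h <;> rw [h] <;> split_ifs <;> norm_num
    · rw [hout p hp]
      have : ∀ i : Fin 4, p ≠ gpt (e i) := fun i h => hp (h ▸ hin' i)
      simp [this]
      split_ifs <;> norm_num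
  have hx : code (x : GolayPt → ℤ) = code (S : GolayPt → ℤ) ^^^ code ((x - S : leechLattice) : GolayPt → ℤ) := by
    rw [← code_add S.2 (x - S).2, ← AddSubgroup.coe_add, add_sub_cancel]
  have hf := four_check
  simp only [List.all_eq_true, List.mem_range, Bool.and_eq_true] at hf
  have hlt : ∀ i j : Fin 4, i < j → (e i).val < (e j).val := fun i j h => e.strictMono h
  have hf' := hf _ (e 3).isLt _ (hlt 2 3 (by decide)) _ (hlt 1 2 (by decide)) _ (hlt 0 1 (by decide))
  rw [hx, hS]
  rcases code_eight _ hD with h | h <;> rw [h]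
  · rw [Nat.xor_zero]
    exact nbFind_sound hf'.1
  · exact nbFind_sound hf'.2

theorem xi_top_check : (List.finRange 24).all (fun i =>
    let v := xiFun (fun p => if p = none then 8 else 0) (gpt i)
    bif (gidx (blk (0, 0))).val == i.val || (gidx (blk (0, 1))).val == i.val ||
      (gidx (blk (0, 2))).val == i.val || (gidx (blk (0, 3))).val == i.val then v == 4 || v == -4
    else v == 0) = true := by decide +kernel

/-- The frames next to the standard one are listed. -/
theorem nb_cover {n : Spor.Co1} (hn : n ∈ N1) : ∃ k < 3542, fcode (n * xiEl) = nbAt k := by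
  obtain ⟨g, hg, rfl⟩ := hn
  obtain ⟨c, hc, hgc⟩ := crossPerm_spec ⟨g, hg⟩
  set σ := (crossPerm ⟨g, hg⟩).1
  rw [show kap g * xiEl = kap (g * xiCo0) from (map_mul _ _ _).symm, fcode_kap]
  have hv : ∀ p, let v := xiFun ((top : leechLattice) : GolayPt → ℤ)
      if p ∈ Finset.univ.image (fun k : Fin 4 => blk ((0 : Fin 6), k)) then v p = 4 ∨ v p = -4 else v p = 0 := by
    intro p
    have h := List.all_eq_true.1 xi_top_check (gidx p) (List.mem_finRange _)
    have ht : ((top : leechLattice) : GolayPt → ℤ) = fun p => if p = none then 8 else 0 :=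
      funext fun q => Pi.single_apply none 8 q
    simp only [gpt_gidx] at h
    rw [ht]
    have hiff : p ∈ Finset.univ.image (fun k : Fin 4 => blk ((0 : Fin 6), k)) ↔
        (((gidx (blk (0, 0))).val == (gidx p).val || (gidx (blk (0, 1))).val == (gidx p).val ||
          (gidx (blk (0, 2))).val == (gidx p).val || (gidx (blk (0, 3))).val == (gidx p).val) = true) := by
      simp only [Finset.mem_image, Finset.mem_univ, true_and, Bool.or_eq_true, beq_iff_eq, Fin.val_inj,
        gidx_injective.eq_iff]
      constructor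
      · rintro ⟨k, rfl⟩
        fin_cases k <;> simp
      · rintro (((h | h) | h) | h) <;> exact ⟨_, h⟩
    split_ifs with hp
    · rw [hiff.1 hp] at h
      simpa using h
    · rw [Bool.eq_false_iff.2 (mt hiff.2 hp)] at h
      simpa using h
  have hx : ∀ p, (((g * xiCo0) • top : leechLattice) : GolayPt → ℤ) p =
      signedPerm σ c (xiFun ((top : leechLattice) : GolayPt → ℤ)) p := fun p => by
    rw [mul_smul, hgc, xiCo0_apply]
  obtain ⟨k, hk, e⟩ := nb_of_four (x := (g * xiCo0) • top)
    (T := σ • Finset.univ.image (fun k : Fin 4 => blk ((0 : Fin 6), k))) (by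
      rw [Finset.card_smul_finset, Finset.card_image_of_injective _ fun a b h => congrArg Prod.snd (blk.injective h)]
      rfl)
    (fun p hp => by
      have h := hv (σ.symm p)
      rw [← Finset.inv_smul_mem_iff] at hp
      simp only [if_pos (show σ.symm p ∈ _ from hp)] at h
      rw [hx, signedPerm]
      split_ifs <;> rcases h with h | h <;> simp [h])
    (fun p hp => by
      have h := hv (σ.symm p)
      rw [← Finset.inv_smul_mem_iff] at hp
      simp only [if_neg (show σ.symm p ∉ _ from hp)] at h
      rw [hx, signedPerm]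
      split_ifs <;> simp [h])
  exact ⟨k, hk, e.symm⟩

end Cfsg.Lib.CoOneUniq
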