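import Cfsg.Agent.Lib.Extra.CoOneUniq.FrameLetters

/-!
# The stabiliser of an edge lifts, and the neighbours of the standard frame

The lines through the edge are the fifteen pairs of tetrads; the exchange relation moves one to a
disjoint one.
-/

set_option autoImplicit false
set_option maxRecDepth 100000

namespace Cfsg.Lib.CoOneUniq

open Cfsg Cfsg.Lib.Concrete Cfsg.Lib.CoOne FrameData
open scoped Pointwise symmDiff

/-- The mask of a tetrad. -/
def tetMask (t : ℕ) : ℕ := orMask ((List.range 4).map fun k => xiPts.getD (4 * t + k) 0) (fun _ => true) id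

/-- A mask is a union of tetrads. -/
def tetUnion (m : ℕ) : Bool :=
  (List.range 6).all fun t => m &&& tetMask t == 0 || m &&& tetMask t == tetMask t

theorem pair_check : octList.all (fun m => !tetUnion m || pairWords.any (fun p => p.1 == m)) = true := by
  decide +kernel

theorem pair_words : pairWords.all (fun p => p.2.all (fun k => decide (k < mons.length) &&
      (k == swapId || fixIds.contains k)) &&
    p.2.foldr (fun k m => pimg (monAt k).1 m) m24BaseOctad == p.1) = true := by decide +kernel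

theorem fixIds_check : fixIds.all (fun k => decide (k < mons.length) &&
    pimg (monAt k).1 m24BaseOctad == m24BaseOctad && evW [some k, none] topCode == evW [none] topCode) = true := by
  decide +kernel

/-- The second line of the exchange. -/
def swapMask : ℕ := pimg (monAt swapId).1 m24BaseOctad

theorem swap_check : swapId < mons.length ∧ isCode swapMask = true ∧ swapMask < 16777216 ∧
    swapMask &&& m24BaseOctad = 0 ∧ pimg (monAt swapId).1 swapMask = m24BaseOctad ∧ tetUnion swapMask = true ∧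
    swapMask ≠ outMask ∧ evW [some swapId, none] topCode = evW [none] topCode ∧
    (none : GolayPt) ∉ mset swapMask := by decide +kernel

theorem tet_const {m : ℕ} (h : ∀ t : Fin 6, ∀ k : Fin 4,
    (blk (t, k) ∈ mset m ↔ blk (t, 0) ∈ mset m)) : tetUnion m = true := by
  have hb : ∀ t : Fin 6, ∀ k : Fin 4, (gidx (blk (t, k))).val = xiPts.getD (4 * t.val + k.val) 0 := by
    decide +kernel
  rw [tetUnion, List.all_eq_true]
  intro t ht
  rw [List.mem_range] at ht
  have hbit : ∀ i, (m &&& tetMask t).testBit i = (m.testBit i && (tetMask t).testBit i) := Nat.testBit_and m _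
  have hmask : ∀ i, (tetMask t).testBit i = true → ∃ k : Fin 4, i = xiPts.getD (4 * t + k.val) 0 := by
    intro i hi
    rw [tetMask, testBit_orMask] at hi
    obtain ⟨a, ha, -, e⟩ := hi
    obtain ⟨k, hk, rfl⟩ := List.mem_map.1 ha
    exact ⟨⟨k, List.mem_range.1 hk⟩, e.symm⟩
  simp only [Bool.or_eq_true, beq_iff_eq]
  by_cases h0 : blk ((⟨t, ht⟩ : Fin 6), (0 : Fin 4)) ∈ mset m
  · refine Or.inr (Nat.eq_of_testBit_eq fun i => ?_)
    rw [hbit]
    cases hi : (tetMask t).testBit i
    · rw [Bool.and_false]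
    · obtain ⟨k, rfl⟩ := hmask i hi
      have := (h ⟨t, ht⟩ k).2 h0
      rw [mem_mset, hb] at this
      rw [this]
      rfl
  · refine Or.inl (Nat.eq_of_testBit_eq fun i => ?_)
    rw [hbit, Nat.zero_testBit]
    cases hi : (tetMask t).testBit i
    · rw [Bool.and_false]
    · obtain ⟨k, rfl⟩ := hmask i hi
      have := mt (h ⟨t, ht⟩ k).1 h0
      rw [mem_mset, hb] at this
      rw [Bool.eq_false_iff.2 this]
      rfl

theorem xi_sign_check : (List.range 6).all (fun t => (List.range 4).all fun k => (List.range 4).all fun l =>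
    let x : GolayPt → ℤ := xiFun fun p => if p = gpt (Fin.ofNat 24 (xiPts.getD (4 * t) 0)) then 8 else 0
    (x (gpt (Fin.ofNat 24 (xiPts.getD (4 * t + k) 0))) == 4 || x (gpt (Fin.ofNat 24 (xiPts.getD (4 * t + k) 0))) == -4)
      && (k == l || x (gpt (Fin.ofNat 24 (xiPts.getD (4 * t + k) 0))) == x (gpt (Fin.ofNat 24 (xiPts.getD (4 * t + l) 0)))
        || k == 0 || l == 0)) = true := by decide +kernel

/-- A sign element taken to a sign element by the sextet element is constant on the tetrads. -/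
theorem tet_of_conj {S S' : Finset GolayPt} (hS : S ∈ codeSets) (hS' : S' ∈ codeSets)
    (h : xiEl * diagEl S hS * xiEl = diagEl S' hS') :
    ∀ t : Fin 6, ∀ k : Fin 4, (blk (t, k) ∈ S ↔ blk (t, 0) ∈ S) := by
  intro t
  rw [xiEl, diagEl, diagEl, kq, kq, ← map_mul, ← map_mul] at h
  have hc := QuotientGroup.eq.1 h
  set a := blk (t, (0 : Fin 4))
  have hzero : ∀ k : Fin 4, k ≠ 0 →
      xiFun (signedPerm 1 S (xiFun (Pi.single a 8))) (blk (t, k)) = 0 := by
    intro k hk
    have hne : blk (t, k) ≠ a := fun e => hk (congrArg Prod.snd (blk.injective e))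
    have hg : ∀ g g' : Co0, g⁻¹ * g' ∈ Subgroup.center Co0 →
        ((g' • e8 a : leechLattice) : GolayPt → ℤ) (blk (t, k)) = 0 →
        ((g • e8 a : leechLattice) : GolayPt → ℤ) (blk (t, k)) = 0 := by
      intro g g' hgg h0
      rcases center_cases hgg with hh | hh
      · rw [show g' • e8 a = g • e8 a by rw [← mul_inv_cancel_left g g', mul_smul, hh]] at h0
        exact h0
      · rw [show g' • e8 a = g • -e8 a by rw [← mul_inv_cancel_left g g', mul_smul, hh], co0_neg,
          AddSubgroup.coe_neg, Pi.neg_apply, neg_eq_zero] at h0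
        exact h0
    have := hg _ _ hc (by
      rw [monoCo0_smul, show ((e8 a : leechLattice) : GolayPt → ℤ) = Pi.single a 8 from rfl,
        signedPerm_single, Equiv.Perm.one_apply, Pi.single_eq_of_ne hne])
    rw [mul_smul, mul_smul, xiCo0_apply, monoCo0_smul, xiCo0_apply] at this
    exact this
  have hv : ∀ l : Fin 4, signedPerm 1 S (xiFun (Pi.single a 8)) (blk (t, l)) =
      (if blk (t, l) ∈ S then -1 else 1) * (xiSign t * if l = 0 then 4 else -4) := by
    intro l
    have hs : blkSum (Pi.single a 8) t = 8 := by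
      have : ∀ k : Fin 4, (Pi.single a 8 : GolayPt → ℤ) (blk (t, k)) = if k = 0 then 8 else 0 := fun k => by
        rw [Pi.single_apply]
        exact if_congr ⟨fun e => congrArg Prod.snd (blk.injective e), fun e => by rw [e]⟩ rfl rfl
      simp [blkSum, this]
    have hval : (Pi.single a 8 : GolayPt → ℤ) (blk (t, l)) = if l = 0 then 8 else 0 := by
      rw [Pi.single_apply]
      exact if_congr ⟨fun e => congrArg Prod.snd (blk.injective e), fun e => by rw [e]⟩ rfl rfl
    simp only [signedPerm, Equiv.Perm.one_def, Equiv.refl_symm, Equiv.refl_apply, xiFun_blk, hs, hval]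
    split_ifs <;> ring
  have h1 := hzero 1 (by decide)
  have h2 := hzero 2 (by decide)
  have h3 := hzero 3 (by decide)
  simp only [xiFun_blk, blkSum, hv, xiSign] at h1 h2 h3
  intro k
  have key : (blk (t, (1 : Fin 4)) ∈ S ↔ blk (t, (0 : Fin 4)) ∈ S) ∧
      (blk (t, (2 : Fin 4)) ∈ S ↔ blk (t, (0 : Fin 4)) ∈ S) ∧
      (blk (t, (3 : Fin 4)) ∈ S ↔ blk (t, (0 : Fin 4)) ∈ S) := by
    by_cases b0 : blk (t, (0 : Fin 4)) ∈ S <;> by_cases b1 : blk (t, (1 : Fin 4)) ∈ S <;>
      by_cases b2 : blk (t, (2 : Fin 4)) ∈ S <;> by_cases b3 : blk (t, (3 : Fin 4)) ∈ S <;>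
      (try simp [b0, b1, b2, b3] at h1 h2 h3 ⊢) <;> by_cases ht : t = 0 <;> simp_all
  fin_cases k
  exacts [Iff.rfl, key.1, key.2.1, key.2.2]

namespace Glue

variable {X : Type*} [Group X] {G : Glue X}

theorem fix_of_cZ {n : X} (hn : n ∈ G.GN) (hz : G.pr n ∈ cZ) (h : G.pos (n * G.e) = G.pos G.e) :
    G.EqV G.e (n * G.e) := by
  refine G.mem_GN_of_GC (mul_mem (inv_mem G.e_mem) (mul_mem (G.inter n hn hz) G.e_mem)) ?_
  exact pos_eq_iff.1 h.symm

theorem fix_mul {a b : X} (ha : G.EqV G.e (a * G.e)) (hb : G.EqV G.e (b * G.e)) :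
    G.EqV G.e (a * b * G.e) := by
  have := ha.trans (hb.smul a)
  rwa [← mul_assoc] at this

theorem fix_inv {a : X} (ha : G.EqV G.e (a * G.e)) : G.EqV G.e (a⁻¹ * G.e) := by
  have := (ha.smul a⁻¹).symm
  rwa [inv_mul_cancel_left] at this

theorem swapMask_qZ : ∃ t : ↥cZ, ∃ hm : mset swapMask ∈ codeSets,
    (t : Spor.Co1) = diagEl (mset swapMask) hm ∧ t ∈ qZ := by
  obtain ⟨-, hc, hlt, hdis, -, -, -, -, -⟩ := swap_check
  have hm : mset swapMask ∈ codeSets := (mset_mem_supports_iff hlt).2 hc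
  obtain ⟨i, hi⟩ := exists_fx (σ := 1) (one_mem _)
  obtain ⟨j, hj⟩ := exists_oW hm fun p hp h => by
    rw [mem_mset] at h hp
    have h1 : (swapMask &&& m24BaseOctad).testBit (gidx p).val = true := by rw [Nat.testBit_and, h, hp]; rfl
    rw [hdis, Nat.zero_testBit] at h1
    exact Bool.false_ne_true h1
  obtain ⟨hk, hq⟩ := kE_mem i j
  exact ⟨⟨_, hk⟩, hm, kq_congr _ _ _ _ hi hj, hq⟩

theorem fix_swap : G.EqV G.e (G.lN (mel swapId) * G.e) := by
  obtain ⟨hlt, hc, hlt', hdis, hback, htu, hne, hfix, hnone⟩ := swap_check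
  obtain ⟨t, hm, et, htQ⟩ := swapMask_qZ
  set a := G.lN (mel swapId)
  have hz : G.pr a * zEl * (G.pr a)⁻¹ = t := by
    obtain ⟨hm', e⟩ := mel_conj_diag hlt (m := m24BaseOctad) oSet_mem
    rw [G.pr_lN, et]
    exact e
  have ht2 : G.pr a * t * (G.pr a)⁻¹ = zEl := by
    obtain ⟨hm', e⟩ := mel_conj_diag hlt hm
    rw [G.pr_lN, et, e]
    exact diagEl_congr _ _ (by rw [hback])
  have htne : (t : Spor.Co1) ≠ zEl := by
    rw [et, zEl_eq]
    intro h
    exact hne (mset_inj hlt' (by decide +kernel) (kq_inj _ _ _ _ hnone outMask_set.2.2 h).2)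
  have hcomm : Commute (G.pr G.e) (t : Spor.Co1) := by
    rw [G.pr_e, et]
    show xiEl * _ = _ * xiEl
    rw [xiEl, diagEl, kq, ← map_mul, ← map_mul]
    refine congrArg kap (co0_ext fun i => Subtype.ext (funext fun p => ?_))
    rw [mul_smul, mul_smul, monoCo0_smul, xiCo0_apply, xiCo0_apply, monoCo0_smul]
    have key : (List.finRange 24).all (fun i => (List.finRange 24).all fun j =>
        let v : GolayPt → ℤ := fun p => if p = gpt i then 8 else 0
        let sg : (GolayPt → ℤ) → GolayPt → ℤ := fun w p => if swapMask.testBit (gidx p).val then -w p else w p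
        xiFun (sg v) (gpt j) == sg (xiFun v) (gpt j)) = true := by decide +kernel
    have h := List.all_eq_true.1 (List.all_eq_true.1 key (gidx i) (List.mem_finRange _))
      (gidx p) (List.mem_finRange _)
    simp only [gpt_gidx, beq_iff_eq] at h
    have he : ((e8 i : leechLattice) : GolayPt → ℤ) = fun p => if p = i then 8 else 0 :=
      funext fun q => Pi.single_apply i 8 q
    have hs : ∀ w : GolayPt → ℤ, signedPerm 1 (mset swapMask) w =
        fun q => if swapMask.testBit (gidx q).val then -w q else w q := fun w => funext fun q => by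
      simp only [signedPerm, mem_mset]
      rfl
    rw [he, hs, hs]
    exact h
  have hg : G.e⁻¹ * (a * G.e * a⁻¹) ∈ G.GN := by
    refine G.mem_GN_of_GC (mul_mem (inv_mem G.e_mem)
      (G.swap a (G.lN_mem _) t hz htQ htne ht2 G.e G.e_mem hcomm)) ?_
    refine pos_eq_iff.1 ?_
    rw [← (EqV.mul_right (a * G.e) (inv_mem (G.lN_mem (mel swapId)))).pos]
    have h1 := G.pos_wordX (w := [none]) rfl
    have h2 := G.pos_wordX (w := [some swapId, none]) (by decide +kernel)
    simp only [wordX_cons, wordX_nil, letX, mul_one] at h1 h2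
    rw [h1, h2, hfix]
  show G.e⁻¹ * (a * G.e) ∈ G.GN
  rw [show G.e⁻¹ * (a * G.e) = G.e⁻¹ * (a * G.e * a⁻¹) * a by group]
  exact mul_mem hg (G.lN_mem _)

theorem fix_word : ∀ w : List ℕ, (∀ k ∈ w, k < mons.length ∧ (k = swapId ∨ k ∈ fixIds)) →
    ∀ {m : ℕ} (hm : mset m ∈ codeSets), ∃ a ∈ G.GN, G.EqV G.e (a * G.e) ∧
      ∃ hm' : mset (w.foldr (fun k m => pimg (monAt k).1 m) m) ∈ codeSets,
        G.pr a * diagEl (mset m) hm * (G.pr a)⁻¹ = diagEl _ hm'
  | [], _, m, hm => ⟨1, one_mem _, by rw [one_mul]; exact EqV.refl _, hm, by rw [map_one]; group; rfl⟩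
  | k :: w, h, m, hm => by
    obtain ⟨a, ha, hfa, hm', e⟩ := fix_word w (fun x hx => h x (List.mem_cons_of_mem _ hx)) hm
    obtain ⟨hk, hk'⟩ := h k List.mem_cons_self
    obtain ⟨hm'', e'⟩ := mel_conj_diag hk hm'
    refine ⟨G.lN (mel k) * a, mul_mem (G.lN_mem _) ha, fix_mul ?_ hfa, hm'', ?_⟩
    · rcases hk' with rfl | hk'
      · exact fix_swap
      · have hc := List.all_eq_true.1 fixIds_check k hk'
        simp only [Bool.and_eq_true, decide_eq_true_eq, beq_iff_eq] at hc
        refine fix_of_cZ (G.lN_mem _) (by rw [G.pr_lN]; exact mel_mem_cZ hk hc.1.2) ?_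
        have h1 := G.pos_wordX (w := [none]) rfl
        have h2 := G.pos_wordX (w := [some k, none]) (by simp [wordOK, mons_len]; exact mons_len ▸ hk)
        simp only [wordX_cons, wordX_nil, letX, mul_one] at h1 h2
        rw [h1, h2, hc.2]
    · rw [map_mul, G.pr_lN]
      refine Eq.trans ?_ e'
      rw [← e]
      group

/-- The stabiliser of an edge lifts. -/
theorem edgeOK : G.EdgeOK := by
  intro n hn h
  set ν := G.pr n with hν
  have hνN : ν ∈ N1 := G.mapN n hn
  obtain ⟨g, hg, eg⟩ := hνN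
  have hν' : xiEl⁻¹ * (ν * xiEl) ∈ N1 := by
    have := pos_eq_iff.1 h.symm
    rwa [map_mul, map_inv, map_mul, G.pr_e] at this
  obtain ⟨g', hg', eg'⟩ := hν'
  obtain ⟨c, hc, hgc⟩ := crossPerm_spec ⟨g, hg⟩
  obtain ⟨c', hc', hgc'⟩ := crossPerm_spec ⟨g', hg'⟩
  have hk : ν = kq (crossPerm ⟨g, hg⟩).1 (crossPerm ⟨g, hg⟩).2 c hc := by
    rw [← eg]
    exact congrArg kap (co0_ext fun i => Subtype.ext (by rw [hgc, monoCo0_smul]))
  have hk' : xiEl⁻¹ * (ν * xiEl) = kq (crossPerm ⟨g', hg'⟩).1 (crossPerm ⟨g', hg'⟩).2 c' hc' := by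
    rw [← eg']
    exact congrArg kap (co0_ext fun i => Subtype.ext (by rw [hgc', monoCo0_smul]))
  set σ := (crossPerm ⟨g, hg⟩).1
  have hσ : σ ∈ M24 := (crossPerm ⟨g, hg⟩).2
  have hS : σ • oSet ∈ codeSets := Cfsg.Lib.CoOne.code_smul hσ oSet_mem
  have hzx : xiEl * zEl = zEl * xiEl := Subgroup.mem_centralizer_singleton_iff.1 xiEl_mem
  have hνz : ν * zEl * ν⁻¹ = diagEl (σ • oSet) hS := by rw [hk, zEl_diag, conj_diagEl]
  have hconj : xiEl * diagEl (σ • oSet) hS * xiEl =
      diagEl ((crossPerm ⟨g', hg'⟩).1 • oSet) (Cfsg.Lib.CoOne.code_smul (crossPerm ⟨g', hg'⟩).2 oSet_mem) := by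
    rw [← conj_diagEl (crossPerm ⟨g', hg'⟩).2 hc' oSet_mem, ← hk', ← hνz, ← zEl_diag]
    have hxi : xiEl⁻¹ = xiEl := inv_eq_of_mul_eq_one_right xiEl_sq
    calc xiEl * (ν * zEl * ν⁻¹) * xiEl = xiEl * ν * (zEl * (xiEl * xiEl)) * ν⁻¹ * xiEl := by
          rw [xiEl_sq]; group
      _ = xiEl * ν * (xiEl * zEl * xiEl) * ν⁻¹ * xiEl := by rw [← mul_assoc zEl, ← hzx]
      _ = _ := by rw [mul_inv_rev, mul_inv_rev, inv_inv]; simp only [hxi]; group
  have hoct : σ • oSet ∈ octads := ⟨hS, (Finset.card_smul_finset σ oSet).trans oSet_octad.2⟩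
  obtain ⟨m, hm, em⟩ := mem_octads_iff.1 hoct
  have hu : tetUnion m = true := tet_const (em ▸ tet_of_conj hS _ hconj)
  have hp := List.all_eq_true.1 pair_check m hm
  rw [hu, Bool.not_true, Bool.false_or, List.any_eq_true] at hp
  obtain ⟨⟨m', w⟩, hw, e⟩ := hp
  have e' : m' = m := by simpa using e
  subst e'
  have hw' := List.all_eq_true.1 pair_words _ hw
  simp only [Bool.and_eq_true, List.all_eq_true, beq_iff_eq, decide_eq_true_eq, Bool.or_eq_true,
    List.contains_iff_mem] at hw'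
  obtain ⟨a, ha, hfa, hm', ea⟩ := fix_word (G := G) w hw'.1 (m := m24BaseOctad) oSet_mem
  have hd : G.pr (a⁻¹ * n) ∈ cZ := by
    refine Subgroup.mem_centralizer_singleton_iff.2 (mul_inv_eq_iff_eq_mul.1 ?_)
    rw [map_mul, map_inv, ← hν, mul_inv_rev, inv_inv,
      show (G.pr a)⁻¹ * ν * zEl * (ν⁻¹ * G.pr a) = (G.pr a)⁻¹ * (ν * zEl * ν⁻¹) * G.pr a by group, hνz]
    rw [show diagEl (σ • oSet) hS = G.pr a * zEl * (G.pr a)⁻¹ by
      rw [zEl_diag]
      exact (diagEl_congr hS hm' (by rw [← em, hw'.2])).trans ea.symm]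
    group
  have hpos : G.pos (a⁻¹ * n * G.e) = G.pos G.e := by
    rw [mul_assoc, pos_mul, h, ← pos_mul]
    exact (fix_inv hfa).pos.symm
  have := fix_mul hfa (fix_of_cZ (mul_mem (inv_mem ha) hn) hd hpos)
  rwa [mul_inv_cancel_left] at this

end Glue

end Cfsg.Lib.CoOneUniq
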