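import Cfsg.Agent.Lib.Extra.CoOneUniq.FrameModel

/-!
# The interface of the completion bound

A group glued from copies of the monomial subgroup and of the centralizer of the involution of the
first Conway group, with the exchange relation.
-/

set_option autoImplicit false

namespace Cfsg.Lib.CoOneUniq

open Cfsg Cfsg.Lib.Concrete Cfsg.Lib.CoOne

/-- Copies of the two subgroups inside a group over the Conway group. -/
structure Glue (X : Type*) [Group X] where
  /-- The projection. -/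
  pr : X →* Spor.Co1
  /-- The copy of the monomial subgroup. -/
  GN : Subgroup X
  /-- The copy of the centralizer. -/
  GC : Subgroup X
  mapN : ∀ a ∈ GN, pr a ∈ N1
  surjN : ∀ n ∈ N1, ∃ a ∈ GN, pr a = n
  injN : ∀ a ∈ GN, pr a = 1 → a = 1
  mapC : ∀ c ∈ GC, pr c ∈ cZ
  surjC : ∀ h ∈ cZ, ∃ c ∈ GC, pr c = h
  injC : ∀ c ∈ GC, pr c = 1 → c = 1
  inter : ∀ a ∈ GN, pr a ∈ cZ → a ∈ GC
  gen : GN ⊔ GC = ⊤
  swap : ∀ a ∈ GN, ∀ t : ↥cZ, pr a * zEl * (pr a)⁻¹ = t → t ∈ qZ → (t : Spor.Co1) ≠ zEl →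
    pr a * t * (pr a)⁻¹ = zEl → ∀ c ∈ GC, Commute (pr c) t → a * c * a⁻¹ ∈ GC

end Cfsg.Lib.CoOneUniq
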