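import Cfsg.Agent.Lib.Extra.CoOneUniq.FrameChecks
import Cfsg.Agent.Lib.Extra.CoOneUniq.FrameCover

/-!
# The letters of the certificate and their lifts
-/

set_option autoImplicit false
set_option maxRecDepth 100000

namespace Cfsg.Lib.CoOneUniq

open Cfsg Cfsg.Lib.Concrete Cfsg.Lib.CoOne FrameData
open scoped Pointwise symmDiff

theorem mel_ok {k : ℕ} (hk : k < mons.length) :
    okMono (monAt k).1 (monAt k).2.1 (monAt k).2.2 = true ∧
      monoImgs (monAt k).2.1 (monAt k).2.2 = monTab.getD k [] := by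
  have hm : monOK k = true := mons_ok k (by rwa [mons_len] at hk)
  simpa only [monOK, Bool.and_eq_true, beq_iff_eq] using hm

/-- A word in valid letters. -/
def wordOK (w : List (Option ℕ)) : Bool := w.all fun l => Nat.blt (l.getD 0) mons.length

/-- The product of a word. -/
noncomputable def wordEl (w : List (Option ℕ)) : Spor.Co1 := (w.map letEl).prod

theorem fact_letEl (l : Option ℕ) (h : Nat.blt (l.getD 0) mons.length = true) (c : ℕ) :
    fact (letEl l) c = comboAux (letImgs l) c := by
  cases l with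
  | none => exact (fact_xiEl c).trans (by rw [xi_tab]; rfl)
  | some k =>
    obtain ⟨h1, h2⟩ := mel_ok (by simpa [Nat.blt_eq] using h : k < mons.length)
    exact (fact_monoEl h1 c).trans (by rw [h2]; rfl)

theorem fcode_wordEl_mul : ∀ (w : List (Option ℕ)), wordOK w = true → ∀ r : Spor.Co1,
    fcode (wordEl w * r) = evW w (fcode r)
  | [], _, r => by rw [wordEl, List.map_nil, List.prod_nil, one_mul]; rfl
  | l :: w, h, r => by
    rw [wordOK, List.all_cons, Bool.and_eq_true] at h
    rw [wordEl, List.map_cons, List.prod_cons, mul_assoc, fcode_mul, ← wordEl, fcode_wordEl_mul w h.2 r,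
      fact_letEl l h.1]
    rfl

theorem fcode_wordEl (w : List (Option ℕ)) (h : wordOK w = true) : fcode (wordEl w) = evW w topCode := by
  rw [← fcode_one, ← fcode_wordEl_mul w h, mul_one]

/-- The monomial sign element of a set of points. -/
noncomputable def diagEl (S : Finset GolayPt) (hS : S ∈ codeSets) : Spor.Co1 := kq 1 (one_mem _) S hS

theorem diagEl_congr {S S' : Finset GolayPt} (hS : S ∈ codeSets) (hS' : S' ∈ codeSets) (h : S = S') :
    diagEl S hS = diagEl S' hS' := kq_congr _ _ _ _ rfl h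

theorem zEl_diag : zEl = diagEl oSet oSet_mem := rfl

theorem conj_diagEl {σ : Equiv.Perm GolayPt} (hσ : σ ∈ M24) {c S : Finset GolayPt} (hc : c ∈ codeSets)
    (hS : S ∈ codeSets) :
    kq σ hσ c hc * diagEl S hS * (kq σ hσ c hc)⁻¹ = diagEl (σ • S) (Cfsg.Lib.CoOne.code_smul hσ hS) := by
  rw [mul_inv_eq_iff_eq_mul, diagEl, diagEl, kq_mul, kq_mul]
  exact kq_congr _ _ _ _ (by rw [mul_one, one_mul]) (by rw [one_smul, symmDiff_comm])

theorem mel_kq {k : ℕ} (hk : k < mons.length) :
    ∃ (σ : Equiv.Perm GolayPt) (hσ : σ ∈ M24) (hc : mset (monAt k).2.2 ∈ codeSets),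
      Rep σ (monAt k).1 ∧ (mel k : Spor.Co1) = kq σ hσ (mset (monAt k).2.2) hc := by
  obtain ⟨h, -⟩ := mel_ok hk
  refine ⟨(okMono_spec h).choose, (okMono_spec h).choose_spec.choose,
    (okMono_spec h).choose_spec.choose_spec.choose, fun x => ?_, ?_⟩
  · rw [(okMono_spec h).choose_spec.choose_spec.choose_spec.2.1 x, pFn, gidx_gpt]
    have hlt : pget (monAt k).1 (gidx x).val < 24 := by
      simp only [okMono, Bool.and_eq_true] at h
      have := List.all_eq_true.1 h.1.2 _ (mem_bits24.2 (gidx x).isLt)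
      simp only [Bool.and_eq_true, decide_eq_true_eq] at this
      exact this.1.1.1
    simp [Fin.ofNat, Nat.mod_eq_of_lt hlt]
  · show monoEl _ _ _ = _
    rw [monoEl, dif_pos h]
    rfl

theorem mel_conj_diag {k : ℕ} (hk : k < mons.length) {m : ℕ} (hm : mset m ∈ codeSets) :
    ∃ hm' : mset (pimg (monAt k).1 m) ∈ codeSets,
      (mel k : Spor.Co1) * diagEl (mset m) hm * (mel k : Spor.Co1)⁻¹ = diagEl _ hm' := by
  obtain ⟨σ, hσ, hc, hrep, e⟩ := mel_kq hk
  refine ⟨hrep.smul_mset m ▸ Cfsg.Lib.CoOne.code_smul hσ hm, ?_⟩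
  rw [e, conj_diagEl hσ hc hm]
  exact diagEl_congr _ _ (hrep.smul_mset m)

theorem mel_mem_cZ {k : ℕ} (hk : k < mons.length) (h : pimg (monAt k).1 m24BaseOctad = m24BaseOctad) :
    (mel k : Spor.Co1) ∈ cZ := by
  obtain ⟨hm', e⟩ := mel_conj_diag hk (m := m24BaseOctad) oSet_mem
  refine Subgroup.mem_centralizer_singleton_iff.2 (mul_inv_eq_iff_eq_mul.1 ?_)
  show _ = zEl
  rw [zEl_diag]
  refine (e.trans ?_)
  exact diagEl_congr _ _ (by rw [h])

namespace Glue

variable {X : Type*} [Group X] (G : Glue X)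

/-- The lift of a letter. -/
noncomputable def letX : Option ℕ → X
  | none => G.e
  | some k => G.lN (mel k)

/-- The lift of a word. -/
noncomputable def wordX (w : List (Option ℕ)) : X := (w.map G.letX).prod

theorem pr_wordX : ∀ w : List (Option ℕ), G.pr (G.wordX w) = wordEl w
  | [] => by rw [wordX, wordEl, List.map_nil, List.map_nil, List.prod_nil, List.prod_nil, map_one]
  | l :: w => by
    rw [wordX, List.map_cons, List.prod_cons, map_mul, ← wordX, pr_wordX w, wordEl, wordEl, List.map_cons,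
      List.prod_cons]
    cases l
    · rw [letX, G.pr_e]; rfl
    · rw [letX, G.pr_lN]; rfl

theorem pos_wordX {w : List (Option ℕ)} (h : wordOK w = true) : G.pos (G.wordX w) = evW w topCode := by
  rw [pos, G.pr_wordX, fcode_wordEl w h]

theorem wordX_append (v w : List (Option ℕ)) : G.wordX (v ++ w) = G.wordX v * G.wordX w := by
  rw [wordX, wordX, wordX, List.map_append, List.prod_append]

theorem wordX_cons (l : Option ℕ) (w : List (Option ℕ)) : G.wordX (l :: w) = G.letX l * G.wordX w := by
  rw [wordX, List.map_cons, List.prod_cons]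
  rfl

theorem wordX_nil : G.wordX [] = 1 := rfl

theorem fact_lN {k : ℕ} (hk : k < mons.length) (c : ℕ) :
    fact (G.pr (G.lN (mel k))) c = evW [some k] c := by
  rw [G.pr_lN]
  exact fact_letEl (some k) (by simpa [Nat.blt_eq] using hk) c

end Glue

end Cfsg.Lib.CoOneUniq
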