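import Cfsg.Agent.Lib.Extra.CoOneUniq.FrameCode
import Cfsg.Agent.Lib.CoOne.OctadFitting
import Cfsg.Agent.Lib.Concrete.GolayPerm

/-!
# The frames as numbers, and the action of the first Conway group on them

A frame is the class of a norm-64 vector modulo twice the lattice; the stabiliser of the standard one
is the image of the monomial group.
-/

set_option autoImplicit false
set_option maxRecDepth 100000

namespace Cfsg.Lib.CoOneUniq

open Cfsg Cfsg.Lib.Concrete Cfsg.Lib.CoOne
open scoped Pointwise

/-- The class of the top vector. -/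
def topCode : ℕ := 8388608

theorem code_top : code ((top : leechLattice) : GolayPt → ℤ) = topCode := by
  show code (Pi.single none 8) = topCode
  decide +kernel

/-- The image of the monomial group. -/
noncomputable def N1 : Subgroup Spor.Co1 := crossStab.map kap

/-- The images of the basis classes. -/
noncomputable def gimgs (g : Co0) : List ℕ :=
  bLeech.map fun b : leechLattice => code ((g • b : leechLattice) : GolayPt → ℤ)

theorem code_kap_eq {g h : Co0} (e : kap g = kap h) (v : leechLattice) :
    code ((g • v : leechLattice) : GolayPt → ℤ) = code ((h • v : leechLattice) : GolayPt → ℤ) := by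
  have hc : g⁻¹ * h ∈ Subgroup.center Co0 := (QuotientGroup.eq).1 e
  rcases center_cases hc with he | he
  · rw [show h • v = g • v by conv_lhs => rw [← mul_inv_cancel_left g h, mul_smul, he]]
  · rw [show h • v = g • (-v) by conv_lhs => rw [← mul_inv_cancel_left g h, mul_smul, he],
      co0_neg, AddSubgroup.coe_neg, code_neg (g • v).2]

theorem gimgs_congr {g h : Co0} (e : kap g = kap h) : gimgs g = gimgs h :=
  List.map_congr_left fun b _ => code_kap_eq e b

/-- The action on classes. -/
noncomputable def fact (q : Spor.Co1) (c : ℕ) : ℕ := comboAux (gimgs q.out) c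

theorem fact_kap (g : Co0) (c : ℕ) : fact (kap g) c = comboAux (gimgs g) c := by
  rw [fact, gimgs_congr (show kap (kap g : Spor.Co1).out = kap g from QuotientGroup.out_eq' _)]

theorem fact_code (g : Co0) (v : leechLattice) :
    fact (kap g) (code (v : GolayPt → ℤ)) = code ((g • v : leechLattice) : GolayPt → ℤ) := by
  rw [fact_kap]
  exact (code_smul g v).symm

/-- The frame of an element. -/
noncomputable def fcode (q : Spor.Co1) : ℕ := fact q topCode

theorem fcode_kap (g : Co0) : fcode (kap g) = code ((g • top : leechLattice) : GolayPt → ℤ) := by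
  rw [fcode, ← code_top, fact_code]

theorem fcode_mul (q r : Spor.Co1) : fcode (q * r) = fact q (fcode r) := by
  obtain ⟨g, rfl⟩ := QuotientGroup.mk'_surjective _ q
  obtain ⟨h, rfl⟩ := QuotientGroup.mk'_surjective _ r
  rw [← map_mul, fcode_kap, fcode_kap, fact_code, mul_smul]

theorem fcode_one : fcode 1 = topCode := by
  rw [← map_one kap, fcode_kap, one_smul, code_top]

theorem fcode_eq_iff {q r : Spor.Co1} : fcode q = fcode r ↔ q⁻¹ * r ∈ N1 := by
  obtain ⟨g, rfl⟩ := QuotientGroup.mk'_surjective _ q
  obtain ⟨h, rfl⟩ := QuotientGroup.mk'_surjective _ r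
  have key : code ((((g⁻¹ * h) • top : leechLattice)) : GolayPt → ℤ) = topCode ↔ g⁻¹ * h ∈ crossStab := by
    rw [← code_top, code_eq_iff (Subtype.prop _) top.2, mem_crossStab_iff_top, ← cross_top]
    constructor
    · intro h'
      exact ⟨((g⁻¹ * h) • top : leechLattice).2, co0_sqNorm _ _, h'⟩
    · rintro ⟨-, -, h'⟩
      exact h'
  constructor
  · intro e
    refine ⟨g⁻¹ * h, key.1 ?_, by rw [map_mul, map_inv]⟩
    rw [← fcode_kap, map_mul, fcode_mul, ← e, ← fcode_mul, ← map_mul, inv_mul_cancel, map_one, fcode_one]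
  · intro hm
    obtain ⟨k, hk, e⟩ := hm
    have hkc : code ((k • top : leechLattice) : GolayPt → ℤ) = topCode := by
      have := (mem_crossStab_iff_top.1 hk)
      rw [← cross_top] at this
      rw [← code_top]
      exact (code_eq_iff (Subtype.prop _) top.2).2 this.2.2
    have e' : (QuotientGroup.mk' (Subgroup.center Co0)) h =
        (QuotientGroup.mk' (Subgroup.center Co0)) g * kap k := by
      rw [e]; group
    rw [e', fcode_mul, fcode_kap, fcode_kap, hkc, ← fcode_kap]
    rfl

theorem fact_inv_fact (q : Spor.Co1) {r : Spor.Co1} : fact q⁻¹ (fact q (fcode r)) = fcode r := by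
  rw [← fcode_mul, ← fcode_mul, inv_mul_cancel_left]

/-- A packed monomial element is admissible. -/
def okMono (p q c : ℕ) : Bool :=
  basisMasks.all (fun b => isCode (pimg p b) && decide (pimg p b < 16777216)) &&
    (bits24.all (fun i => decide (pget p i < 24) && decide (pget q i < 24) &&
      (pget q (pget p i) == i) && (pget p (pget q i) == i))) &&
    (decide (c < 16777216) && isCode c)

/-- A packed permutation as a function. -/
def pFn (p : ℕ) (x : GolayPt) : GolayPt := gpt (Fin.ofNat 24 (pget p (gidx x).val))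

theorem okMono_spec {p q c : ℕ} (h : okMono p q c = true) :
    ∃ (σ : Equiv.Perm GolayPt) (hσ : σ ∈ M24) (hc : mset c ∈ codeSets),
      (∀ x, σ.symm x = pFn q x) ∧ (∀ x, σ x = pFn p x) ∧
      ∀ (v : leechLattice) (x : GolayPt),
        ((monoCo0 σ hσ (mset c) hc • v : leechLattice) : GolayPt → ℤ) x =
          if c.testBit (gidx x).val then -(v : GolayPt → ℤ) (pFn q x) else (v : GolayPt → ℤ) (pFn q x) := by
  simp only [okMono, Bool.and_eq_true] at h
  obtain ⟨⟨h1, h2⟩, h3, h4⟩ := h
  have hb : ∀ i < 24, pget p i < 24 ∧ pget q i < 24 ∧ pget q (pget p i) = i ∧ pget p (pget q i) = i :=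
    fun i hi => by
      have := List.all_eq_true.1 h2 i (mem_bits24.2 hi)
      simp only [Bool.and_eq_true, decide_eq_true_eq, beq_iff_eq] at this
      exact ⟨this.1.1.1, this.1.1.2, this.1.2, this.2⟩
  have hg : ∀ (i : ℕ), i < 24 → (gidx (gpt (Fin.ofNat 24 i))).val = i := fun i hi => by
    rw [gidx_gpt]; simp [Fin.ofNat, Nat.mod_eq_of_lt hi]
  let σ : Equiv.Perm GolayPt :=
    ⟨pFn p, pFn q, fun x => by
      obtain ⟨a, -, b, -⟩ := hb _ (gidx x).isLt
      simp only [pFn, hg _ a, b, gpt_ofNat], fun x => by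
      obtain ⟨-, a, -, b⟩ := hb _ (gidx x).isLt
      simp only [pFn, hg _ a, b, gpt_ofNat]⟩
  have hrep : Rep σ p := fun x => hg _ (hb _ (gidx x).isLt).1
  have hσ : σ ∈ M24 := rep_mem_M24 hrep h1
  have hc : mset c ∈ codeSets := (mset_mem_supports_iff (by simpa using h3)).2 h4
  refine ⟨σ, hσ, hc, fun x => rfl, fun x => rfl, fun v x => ?_⟩
  rw [monoCo0_smul, signedPerm]
  simp only [mem_mset]
  rfl

/-- The images of the basis classes under a packed monomial element. -/
def monoImgs (q c : ℕ) : List ℕ :=
  (List.finRange 24).map fun j => code fun x =>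
    if c.testBit (gidx x).val then -(bvec.getD j.val 0) (pFn q x) else (bvec.getD j.val 0) (pFn q x)

/-- The element of the Conway group of a packed monomial element. -/
noncomputable def monoEl (p q c : ℕ) : Spor.Co1 :=
  if h : okMono p q c = true then
    kap (monoCo0 (okMono_spec h).choose (okMono_spec h).choose_spec.choose (mset c)
      (okMono_spec h).choose_spec.choose_spec.choose)
  else 1

theorem monoEl_mem (p q c : ℕ) : monoEl p q c ∈ N1 := by
  rw [monoEl]
  split
  · exact ⟨_, mono_mem_crossStab _ _ _ _, rfl⟩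
  · exact one_mem _

theorem fact_monoEl {p q c : ℕ} (h : okMono p q c = true) (x : ℕ) :
    fact (monoEl p q c) x = comboAux (monoImgs q c) x := by
  rw [monoEl, dif_pos h, fact_kap, gimgs, monoImgs, bLeech, List.map_map]
  refine congrArg (comboAux · x) (List.map_congr_left fun j _ => congrArg code (funext fun y => ?_))
  exact (okMono_spec h).choose_spec.choose_spec.choose_spec.2.2 _ y

/-- The element of the sextet. -/
noncomputable def xiEl : Spor.Co1 := kap xiCo0

/-- The images of the basis classes under the element of the sextet. -/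
def xiImgs : List ℕ := (List.finRange 24).map fun j => code (xiFun (bvec.getD j.val 0))

theorem fact_xiEl (x : ℕ) : fact xiEl x = comboAux xiImgs x := by
  rw [xiEl, fact_kap, gimgs, xiImgs, bLeech, List.map_map]
  rfl

theorem xiEl_sq : xiEl * xiEl = 1 := by
  rw [xiEl, ← map_mul, show xiCo0 * xiCo0 = 1 from co0_ext fun i => ?_, map_one]
  rw [mul_smul, one_smul]
  exact Subtype.ext (xiFun_xiFun (e8 i).2)

/-- The kind of a class: the weight of its word up to complement, or odd. -/
def kindC (c : ℕ) : ℕ :=
  bif c % 2 == 1 then 25 else min (pcnt (comboAux wordMasks c)) (24 - pcnt (comboAux wordMasks c))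

/-- The word of a vector. -/
def vword (x : GolayPt → ℤ) : ℕ :=
  orMask bits24 (fun i => ((x (gpt (Fin.ofNat 24 i)) - x none) / 2) % 2 == 1) id

theorem testBit_vword (x : GolayPt → ℤ) (p : GolayPt) :
    (vword x).testBit (gidx p).val = true ↔ (x p - x none) / 2 % 2 = 1 := by
  rw [vword, testBit_orMask]
  constructor
  · rintro ⟨i, -, h, e⟩
    have e' : i = (gidx p).val := e
    rw [e', gpt_ofNat] at h
    simpa using h
  · intro h
    exact ⟨_, mem_bits24.2 (gidx p).isLt, by rw [gpt_ofNat]; simpa using h, rfl⟩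

theorem vword_lt (x : GolayPt → ℤ) : vword x < 2 ^ 24 := orMask_lt _ _ _ fun _ hi _ => mem_bits24.1 hi

theorem parity_leech {x : GolayPt → ℤ} (hx : x ∈ leechLattice) (p : GolayPt) : (2 : ℤ) ∣ x p - x none := by
  obtain ⟨m, hm, -, -⟩ := mem_leechLattice_iff.1 hx
  have h1 := hm p
  have h2 := hm none
  unfold Int.ModEq at h1 h2
  omega

theorem vword_add {x y : GolayPt → ℤ} (hx : x ∈ leechLattice) (hy : y ∈ leechLattice) :
    vword (x + y) = vword x ^^^ vword y := by
  refine Nat.eq_of_testBit_eq fun j => ?_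
  rw [Nat.testBit_xor]
  by_cases hj : j < 24
  · have e : (gidx (gpt ⟨j, hj⟩)).val = j := by rw [gidx_gpt]
    have h1 := testBit_vword x (gpt ⟨j, hj⟩)
    have h2 := testBit_vword y (gpt ⟨j, hj⟩)
    have h3 := testBit_vword (x + y) (gpt ⟨j, hj⟩)
    rw [e] at h1 h2 h3
    have := parity_leech hx (gpt ⟨j, hj⟩)
    have := parity_leech hy (gpt ⟨j, hj⟩)
    simp only [Pi.add_apply] at h3
    cases ha : (vword x).testBit j <;> cases hb : (vword y).testBit j <;>
      cases hc : (vword (x + y)).testBit j <;> simp [ha, hb, hc] at h1 h2 h3 ⊢ <;> omega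
  · have hp : 2 ^ 24 ≤ 2 ^ j := Nat.pow_le_pow_right (by norm_num) (not_lt.1 hj)
    rw [Nat.testBit_lt_two_pow (lt_of_lt_of_le (vword_lt _) hp),
      Nat.testBit_lt_two_pow (lt_of_lt_of_le (vword_lt _) hp),
      Nat.testBit_lt_two_pow (lt_of_lt_of_le (vword_lt _) hp)]
    rfl

theorem vword_vsum (L : List leechLattice) (c : ℕ) :
    vword (vsum L c : GolayPt → ℤ) = comboAux (L.map fun v : leechLattice => vword (v : GolayPt → ℤ)) c := by
  induction L generalizing c with
  | nil => exact (by decide +kernel : vword 0 = 0)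
  | cons b bs ih =>
    rw [vsum, AddSubgroup.coe_add, vword_add (Subtype.prop _) (Subtype.prop _), ih, List.map_cons, comboAux]
    cases c % 2 == 1
    · show vword ((0 : leechLattice) : GolayPt → ℤ) ^^^ _ = _
      rw [AddSubgroup.coe_zero, show vword 0 = 0 by decide +kernel]
      rfl
    · rfl

theorem vword_eq {x : GolayPt → ℤ} (hx : x ∈ leechLattice) :
    vword x = comboAux wordMasks (code x) ∧ ((2 : ℤ) ∣ x none ↔ code x % 2 = 0) := by
  set c := code x
  have hc : code (vsum bLeech c : GolayPt → ℤ) = c := by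
    rw [code_vsum, bLeech_codes, powers_combo _ (code_lt _)]
  obtain ⟨z, hz, e⟩ := (code_eq_iff (Subtype.prop _) hx).1 hc
  have hm : bLeech.map (fun v : leechLattice => vword (v : GolayPt → ℤ)) = wordMasks := by
    have h : (List.finRange 24).map (fun j => vword (bvec.getD j.val 0)) = wordMasks := by decide +kernel
    rw [bLeech, List.map_map]
    exact h
  refine ⟨?_, ?_⟩
  · rw [show x = (vsum bLeech c : GolayPt → ℤ) + (z + z) by rw [← two_nsmul, ← e, add_sub_cancel],
      vword_add (Subtype.prop _) (add_mem hz hz), vword_add hz hz, Nat.xor_self, Nat.xor_zero,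
      vword_vsum, hm]
  · have h1 := (cdot_spec hx).2 none
    have hb : ∀ j ∈ bits24, j ≠ 0 → (2 : ℤ) ∣ bvec.getD j 0 none := by decide +kernel
    have h0 : bvec.getD 0 0 none = -3 := by decide +kernel
    have hkey : (2 : ℤ) ∣ x none + cdot 0 x / 8 := by
      rw [← h1]
      have key : ∀ (L : List ℕ), (∀ j ∈ L, j ∈ bits24 ∧ j ≠ 0) → ∀ f : ℕ → ℤ,
          (2 : ℤ) ∣ L.foldr (fun j a => f j * (bvec.getD j 0) none + a) 0 := by
        intro L
        induction L with
        | nil => exact fun _ _ => dvd_zero _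
        | cons a L ih =>
          intro hL f
          exact dvd_add (dvd_mul_of_dvd_right (hb a (hL a List.mem_cons_self).1 (hL a List.mem_cons_self).2) _)
            (ih (fun j hj => hL j (List.mem_cons_of_mem _ hj)) f)
      obtain ⟨d, hd⟩ := key (bits24.tail) (by decide) (fun j => cdot j x / 8)
      show (2 : ℤ) ∣ (cdot 0 x / 8 * (bvec.getD 0 0) none +
        bits24.tail.foldr (fun j a => cdot j x / 8 * (bvec.getD j 0) none + a) 0) + cdot 0 x / 8
      rw [h0, hd]
      omega
    have h8 := (cdot_spec hx).1 0 (by decide)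
    have ht := testBit_code x (show 0 < 24 by norm_num)
    rw [Nat.testBit_zero, decide_eq_true_eq] at ht
    by_cases h16 : cdot 0 x % 16 = 8
    · have := ht.2 h16
      omega
    · have := mt ht.1 h16
      omega

theorem kind_monoCo0 {σ : Equiv.Perm GolayPt} (hσ : σ ∈ M24) {s : Finset GolayPt} (hs : s ∈ codeSets)
    (v : leechLattice) :
    kindC (code ((monoCo0 σ hσ s hs • v : leechLattice) : GolayPt → ℤ)) = kindC (code (v : GolayPt → ℤ)) := by
  set y : GolayPt → ℤ := ((monoCo0 σ hσ s hs • v : leechLattice) : GolayPt → ℤ) with hy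
  obtain ⟨wy, py⟩ := vword_eq (monoCo0 σ hσ s hs • v).2
  obtain ⟨wx, px⟩ := vword_eq v.2
  rw [← hy] at wy py
  have hv : ∀ p, y p = (v : GolayPt → ℤ) (σ.symm p) ∨ y p = -(v : GolayPt → ℤ) (σ.symm p) := fun p => by
    rw [hy, monoCo0_smul]
    simp only [signedPerm]
    split
    exacts [Or.inr rfl, Or.inl rfl]
  have hn := parity_leech v.2 (σ.symm none)
  have hpar : (code y % 2 = 0) ↔ code (v : GolayPt → ℤ) % 2 = 0 := by
    rw [← py, ← px]
    rcases hv none with h | h <;> rw [h] <;> omega
  by_cases hodd : code (v : GolayPt → ℤ) % 2 = 0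
  swap
  · have h1 : code (v : GolayPt → ℤ) % 2 = 1 := by omega
    have h2 : code y % 2 = 1 := by have := mt hpar.1 hodd; omega
    simp [kindC, h1, h2]
  have hodd' := hpar.2 hodd
  have heven : ∀ p, (2 : ℤ) ∣ (v : GolayPt → ℤ) p := fun p => by
    have := parity_leech v.2 p
    have := px.2 hodd
    omega
  have hbit : ∀ p, (vword y).testBit (gidx p).val =
      ((vword (v : GolayPt → ℤ)).testBit (gidx (σ.symm p)).val ^^
        (vword (v : GolayPt → ℤ)).testBit (gidx (σ.symm none)).val) := by
    intro p
    have h1 := testBit_vword y p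
    have h2 := testBit_vword (v : GolayPt → ℤ) (σ.symm p)
    have h3 := testBit_vword (v : GolayPt → ℤ) (σ.symm none)
    obtain ⟨a, ha⟩ := heven (σ.symm p)
    obtain ⟨b, hb⟩ := heven (σ.symm none)
    obtain ⟨c, hc⟩ := heven none
    cases hA : (vword y).testBit (gidx p).val <;>
      cases hB : (vword (v : GolayPt → ℤ)).testBit (gidx (σ.symm p)).val <;>
      cases hC : (vword (v : GolayPt → ℤ)).testBit (gidx (σ.symm none)).val <;>
      simp [hA, hB, hC] at h1 h2 h3 ⊢ <;>
      rcases hv p with h | h <;> rcases hv none with h' | h' <;> omega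
  have hcard : (mset (vword y)).card = (mset (vword (v : GolayPt → ℤ))).card ∨
      (mset (vword y)).card = 24 - (mset (vword (v : GolayPt → ℤ))).card := by
    cases hC : (vword (v : GolayPt → ℤ)).testBit (gidx (σ.symm none)).val
    · refine Or.inl ?_
      rw [← Finset.card_smul_finset σ (mset (vword (v : GolayPt → ℤ)))]
      refine congrArg Finset.card (Finset.ext fun p => ?_)
      rw [mem_mset, hbit, hC, Bool.xor_false, ← Finset.inv_smul_mem_iff, mem_mset]
      rfl
    · refine Or.inr ?_
      rw [← Finset.card_smul_finset σ (mset (vword (v : GolayPt → ℤ))),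
        show (24 : ℕ) = Fintype.card GolayPt from rfl, ← Finset.card_compl]
      refine congrArg Finset.card (Finset.ext fun p => ?_)
      rw [Finset.mem_compl, mem_mset, hbit, hC, Bool.xor_true, Bool.not_eq_true', ← Finset.inv_smul_mem_iff,
        mem_mset, Bool.not_eq_true]
      rfl
  have hle : (mset (vword (v : GolayPt → ℤ))).card ≤ 24 := Finset.card_le_univ _
  rw [mset_card, mset_card, mcnt_eq_pcnt, mcnt_eq_pcnt, wy, wx] at hcard
  rw [mset_card, mcnt_eq_pcnt, wx] at hle
  simp only [kindC, hodd, hodd']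
  rcases hcard with h | h <;> rw [h]
  simp only [beq_iff_eq, Nat.zero_ne_one, Bool.cond_eq_ite, if_false]
  omega

theorem kind_N1 {n : Spor.Co1} (hn : n ∈ N1) (r : Spor.Co1) :
    kindC (fact n (fcode r)) = kindC (fcode r) := by
  obtain ⟨g, hg, rfl⟩ := hn
  obtain ⟨h, rfl⟩ := QuotientGroup.mk'_surjective _ r
  obtain ⟨c, hc, hgc⟩ := crossPerm_spec ⟨g, hg⟩
  have hgm : g = monoCo0 (crossPerm ⟨g, hg⟩).1 (crossPerm ⟨g, hg⟩).2 c hc := co0_ext fun i => Subtype.ext (by
    rw [hgc, monoCo0_smul])
  rw [fcode_kap, fact_code, hgm, kind_monoCo0]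

end Cfsg.Lib.CoOneUniq
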