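import Cfsg.Agent.Lib.Extra.CoOneUniq.FrameEdge
import Cfsg.Agent.Lib.Extra.CoOneUniq.FrameCoverage

/-!
# The representatives and their neighbours
-/

set_option autoImplicit false
set_option maxRecDepth 100000

namespace Cfsg.Lib.CoOneUniq

open Cfsg Cfsg.Lib.Concrete Cfsg.Lib.CoOne FrameData

theorem evW_xor : ∀ (w : List (Option ℕ)) (a b : ℕ), evW w (a ^^^ b) = evW w a ^^^ evW w b
  | [], _, _ => rfl
  | l :: w, a, b => by
    show comboAux _ (evW w (a ^^^ b)) = comboAux _ (evW w a) ^^^ comboAux _ (evW w b)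
    rw [evW_xor w, comboAux_xor]

theorem evW_table {i c : ℕ} (hi : i < 6) (hc : c < 2 ^ 24) :
    evW (wordOf i) c = comboAux (wordTab.getD i []) c := by
  refine Cfsg.Lib.CoOneLocal.xor_all (P := fun c => evW (wordOf i) c = comboAux (wordTab.getD i []) c) 24 ?_ ?_
    (word_tab i hi) c hc
  · exact (by decide +kernel : ∀ i < 6, evW (wordOf i) 0 = comboAux (wordTab.getD i []) 0) i hi
  · exact fun a b _ _ ha hb => by rw [evW_xor, comboAux_xor, ha, hb]

theorem nbAt_lt (k : ℕ) : nbAt k < 2 ^ 24 := Nat.mod_lt _ (by norm_num)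

theorem wordOK_wordOf {i : ℕ} (hi : i < 6) : wordOK (wordOf i) = true :=
  List.all_eq_true.1 word_ok.1 i (List.mem_range.2 hi)

/-- The level of an orbit. -/
def lev (i : Fin 6) : ℕ := levN i.val

theorem lev_bounds : ∀ i : Fin 6, lev i ≤ 3 ∧ (lev i = 0 ↔ i = 0) ∧ (lev i = 1 ↔ i = 1) := by decide

theorem mem_pos {i : Fin 6} (h : i ≠ 0) : i.val ∈ [1, 2, 3, 4, 5] :=
  (by decide : ∀ i : Fin 6, i ≠ 0 → i.val ∈ [1, 2, 3, 4, 5]) i h

theorem mem_two {i : Fin 6} (h : 2 ≤ lev i) : i.val ∈ [2, 3, 4, 5] :=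
  (by decide : ∀ i : Fin 6, 2 ≤ lev i → i.val ∈ [2, 3, 4, 5]) i h

namespace Glue

variable {X : Type*} [Group X] (G : Glue X)

/-- The representatives. -/
noncomputable def wRep (i : Fin 6) : X := G.wordX (wordOf i.val)

theorem wRep_zero : G.wRep 0 = 1 := by rw [wRep, show wordOf ((0 : Fin 6).val) = [] from word_ok.2.1]; rfl

theorem wRep_one : G.wRep 1 = G.e := by
  rw [wRep, show wordOf ((1 : Fin 6).val) = [none] from word_ok.2.2, wordX_cons, wordX_nil, mul_one]
  rfl

theorem pos_wRep (i : Fin 6) : G.pos (G.wRep i) = repCode i.val := G.pos_wordX (wordOK_wordOf i.isLt)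

/-- A known neighbour of a representative over a frame. -/
abbrev NearR (i : Fin 6) (c d : ℕ) : Prop := G.Near lev G.wRep i c d

/-- A point of bounded level. -/
abbrev InR (d : ℕ) (x : X) : Prop := G.InS lev G.wRep d x

/-- The points of bounded level are determined by their frames. -/
abbrev InjR (d : ℕ) : Prop := G.InjS lev G.wRep d

/-- The stabiliser of a representative lifts. -/
def Fix (i : Fin 6) : Prop :=
  ∀ a ∈ G.GN, G.pos (a * G.wRep i) = G.pos (G.wRep i) → G.EqV (a * G.wRep i) (G.wRep i)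

variable {G}

theorem near_mono {i : Fin 6} {c d d' : ℕ} (h : G.NearR i c d) (hd : d ≤ d') : G.NearR i c d' := by
  obtain ⟨y, hy, ha, hc⟩ := h
  exact ⟨y, hy.mono hd, ha, hc⟩

theorem InR.one : G.InR 0 (1 : X) := by
  refine ⟨0, le_of_eq rfl, 1, one_mem _, ?_⟩
  rw [wRep_zero, one_mul]
  exact EqV.refl _

/-- The frames of the neighbours of a representative are listed. -/
theorem nb_index {i : Fin 6} (hi : i ≠ 0) {y : X} (h : G.Adj (G.wRep i) y) :
    ∃ k < 3542, G.pos y = nodeAt i.val k := by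
  obtain ⟨a, ha, b, hb, rfl⟩ := h
  obtain ⟨k, hk, e⟩ := nb_cover (G.mapN a ha)
  have hs := List.all_eq_true.1 (sig_ok i.val (mem_pos hi)) k (List.mem_range.2 hk)
  simp only [sigOK, Bool.and_eq_true, decide_eq_true_eq, beq_iff_eq] at hs
  refine ⟨sigAt i.val k, hs.1, ?_⟩
  rw [← (EqV.mul_right (G.wRep i * a * G.e) hb).pos, pos, map_mul, map_mul, G.pr_e, mul_assoc, wRep,
    G.pr_wordX, fcode_wordEl_mul _ (wordOK_wordOf i.isLt), e, evW_table i.isLt (nbAt_lt k), ← hs.2]

theorem kind_low {i : Fin 6} (hi : 2 ≤ lev i) {k : ℕ} (hk : k < 3542) :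
    kindC (nodeAt i.val k) = kappa i.val ↔ k < nLow.getD i.val 0 := by
  have h := List.all_eq_true.1 (kind_ok i.val (mem_two hi)) k (List.mem_range.2 hk)
  simp only [kindOK, beq_iff_eq] at h
  constructor
  · intro e
    rw [e, beq_self_eq_true] at h
    simpa [Nat.blt_eq] using h.symm
  · intro e
    rw [show Nat.blt k (nLow.getD i.val 0) = true by simpa [Nat.blt_eq] using e] at h
    simpa using h

/-- A neighbour of a representative of the kind of the lower ones is one of them. -/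
theorem nb_low {i : Fin 6} (hi : 2 ≤ lev i) {y : X} (h : G.Adj (G.wRep i) y)
    (hk : kindC (G.pos y) = kappa i.val) : ∃ k < nLow.getD i.val 0, G.pos y = nodeAt i.val k := by
  have hne : i ≠ 0 := by rintro rfl; exact absurd hi (by decide)
  obtain ⟨k, hk', e⟩ := nb_index hne h
  exact ⟨k, (kind_low hi hk').1 (e ▸ hk), e⟩

/-- The parent of a representative. -/
theorem parent {i : Fin 6} (hi : 2 ≤ lev i) :
    ∃ p : Fin 6, lev p + 1 = lev i ∧ G.Adj (G.wRep p) (G.wRep i) ∧ G.pos (G.wRep p) = nodeAt i.val 0 := by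
  obtain ⟨p, hp, a, ha, hl, hw, hpos⟩ := par_ok i.val (mem_two hi)
  refine ⟨⟨p, hp⟩, hl, ⟨G.lN (mel a), G.lN_mem _, 1, one_mem _, ?_⟩, (G.pos_wRep _).trans hpos⟩
  rw [wRep, wRep, hw, wordX_append, wordX_cons, wordX_cons, wordX_nil]
  show _ * (G.lN (mel a) * (G.e * 1)) = G.wordX (wordOf p) * G.lN (mel a) * G.e * 1
  group

end Glue

end Cfsg.Lib.CoOneUniq
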