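import Cfsg.Agent.Lib.Extra.CoOneUniq.FrameNodes

/-!
# Steps, chains and trees in the neighbours of the representatives
-/

set_option autoImplicit false
set_option maxRecDepth 100000

namespace Cfsg.Lib.CoOneUniq

open Cfsg Cfsg.Lib.Concrete Cfsg.Lib.CoOne FrameData

theorem levN_lev (j : ℕ) (hj : j < 6) : lev ⟨j, hj⟩ = levN j := rfl

theorem wordOK_cons {b : ℕ} {w : List (Option ℕ)} (hb : b < mons.length) (hw : wordOK w = true) :
    wordOK (some b :: w) = true := by
  simp only [wordOK, List.all_cons, Bool.and_eq_true] at hw ⊢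
  exact ⟨by simpa [Nat.blt_eq] using hb, hw⟩

theorem wordOK_append {v w : List (Option ℕ)} (hv : wordOK v = true) (hw : wordOK w = true) :
    wordOK (v ++ w) = true := by
  simp only [wordOK, List.all_append, Bool.and_eq_true] at hv hw ⊢
  exact ⟨hv, hw⟩

theorem wordOK_none : wordOK [none] = true := by
  simp [wordOK, mons_len]

namespace Glue

variable {X : Type*} [Group X] {G : Glue X}

/-- A certified step. -/
theorem step_sound (hE : G.EdgeOK) {i : Fin 6} {d d' : ℕ} (hd : d + 1 = lev i) (hI : G.InjR d)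
    (h0 : lev i = 1 → 1 ≤ d') {bnd : ℕ → ℕ}
    (hB : ∀ j : Fin 6, lev j = d → j ≠ 0 → ∀ k < bnd j.val, G.NearR j (nodeAt j.val k) d')
    {cur : ℕ} {s : ℕ × ℕ × ℕ × ℕ × ℕ} (hs : stepOK i.val cur bnd s = true) (hN : G.NearR i cur d) :
    G.NearR i (stepTo s) d' := by
  obtain ⟨j, b, a, t, k⟩ := s
  simp only [stepOK, Bool.and_eq_true, decide_eq_true_eq, beq_iff_eq, Bool.or_eq_true] at hs
  obtain ⟨⟨⟨⟨⟨⟨⟨hj, hl⟩, hb⟩, ha⟩, ht⟩, hcur⟩, hx⟩, hin⟩ := hs
  set J : Fin 6 := ⟨j, hj⟩
  have hlJ : lev J = d := by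
    have h : levN j + 1 = levN i.val := hl
    have hd' : d + 1 = levN i.val := hd
    show levN j = d
    omega
  set T := triTab.getD t (0, 0) with hT
  have htri := List.all_eq_true.1 tri_ok T (by
    rw [hT, List.getD_eq_getElem _ _ ht]
    exact List.getElem_mem ht)
  simp only [Bool.and_eq_true, decide_eq_true_eq, beq_iff_eq] at htri
  obtain ⟨⟨⟨⟨hm1, hm2⟩, hf1⟩, hf2⟩, htr⟩ := htri
  have hrel : fcode (xiEl * (mel T.1 : Spor.Co1) * xiEl) = fcode ((mel T.2 : Spor.Co1) * xiEl) := by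
    have h1 := fcode_wordEl [none, some T.1, none] (by simp [wordOK, mons_len]; exact mons_len ▸ hm1)
    have h2 := fcode_wordEl [some T.2, none] (by simp [wordOK, mons_len]; exact mons_len ▸ hm2)
    simp only [wordEl, List.map_cons, List.map_nil, List.prod_cons, List.prod_nil, letEl, mul_one] at h1 h2
    rw [mul_assoc, h1, h2, htr]
  have hpre : wordOK (some b :: wordOf j) = true := wordOK_cons hb (wordOK_wordOf hj)
  set y := G.lN (mel b) * G.wRep J with hy
  have hyw : y = G.wordX (some b :: wordOf j) := by rw [G.wordX_cons]; rfl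
  have hyI : G.InR d y := InS.self J hlJ.le (G.lN_mem _)
  have hpy : G.pos y = cur := by rw [hyw, G.pos_wordX hpre, hcur]
  have hwX : y * G.lN (mel a) * G.lN (mel T.1) * G.e =
      G.wordX ((some b :: wordOf j) ++ [some a, some T.1, none]) := by
    rw [hyw, G.wordX_append]
    simp only [G.wordX_cons, G.wordX_nil, letX, mul_one, mul_assoc]
  have hwY : y * G.lN (mel a) * G.e = G.wordX ((some b :: wordOf j) ++ [some a, none]) := by
    rw [hyw, G.wordX_append]
    simp only [G.wordX_cons, G.wordX_nil, letX, mul_one, mul_assoc]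
  have hok : wordOK ((some b :: wordOf j) ++ [some a, none]) = true :=
    wordOK_append hpre (wordOK_cons ha wordOK_none)
  have hto : G.pos (y * G.lN (mel a) * G.e) = stepTo (j, b, a, t, k) := by
    rw [hwY, G.pos_wordX hok]
    rfl
  have hIn : G.InR d' (y * G.lN (mel a) * G.e) := by
    by_cases hj0 : j = 0
    · have hJ : J = 0 := Fin.ext hj0
      have hli : lev i = 1 := by rw [← hd, ← hlJ, hJ]; rfl
      rw [hy, hJ, wRep_zero, mul_one, ← wRep_one]
      exact InS.self 1 (le_of_eq_of_le rfl (h0 hli)) (mul_mem (G.lN_mem _) (G.lN_mem _))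
    · obtain ⟨hk, hn⟩ := hin.resolve_left hj0
      obtain ⟨z, hz, hza, hzp⟩ := hB J hlJ (fun e => hj0 (congrArg Fin.val e)) k hk
      have hadj : G.Adj (G.wRep J) (G.wRep J * G.lN (mel a) * G.e) :=
        ⟨G.lN (mel a), G.lN_mem _, 1, one_mem _, by group⟩
      have hw : G.wRep J * G.lN (mel a) * G.e = G.wordX (wordOf j ++ [some a, none]) := by
        rw [G.wordX_append]
        simp only [G.wordX_cons, G.wordX_nil, letX, mul_one, mul_assoc]
        rfl
      have he := nbr_unique hE hza.symm hadj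
        (by rw [hzp, hw, G.pos_wordX (wordOK_append (wordOK_wordOf hj) (wordOK_cons ha wordOK_none)), hn])
      rw [hy, mul_assoc, mul_assoc, ← mul_assoc (G.wRep J)]
      exact (hz.congr he).smul (G.lN_mem _)
  have hpx : G.pos (y * G.lN (mel a) * G.lN (mel T.1) * G.e) = G.pos (G.wRep i) := by
    rw [hwX, G.pos_wRep, G.pos_wordX (wordOK_append hpre (wordOK_cons ha (wordOK_cons hm1 wordOK_none))), hx]
  exact hto ▸ Near.step hE hI hyI hN hpy (G.lN_mem _) (mel_mem_cZ hm1 hf1) (mel_mem_cZ hm2 hf2) hrel hpx hIn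

/-- A certified chain. -/
theorem chain_sound (hE : G.EdgeOK) {i : Fin 6} {d : ℕ} (hd : d + 1 = lev i) (hI : G.InjR d) (h2 : 2 ≤ lev i)
    {bnd : ℕ → ℕ} (hB : ∀ j : Fin 6, lev j = d → j ≠ 0 → ∀ k < bnd j.val, G.NearR j (nodeAt j.val k) d) :
    ∀ (st : List (ℕ × ℕ × ℕ × ℕ × ℕ)) (cur tgt : ℕ), chainOK i.val bnd cur st tgt = true →
      G.NearR i cur d → G.NearR i tgt d
  | [], cur, tgt, h, hN => by
    rw [chainOK, beq_iff_eq] at h
    exact h ▸ hN
  | s :: st, cur, tgt, h, hN => by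
    rw [chainOK, Bool.and_eq_true] at h
    exact chain_sound hE hd hI h2 hB st _ tgt h.2 (step_sound hE hd hI (fun h1 => by omega) hB h.1 hN)

/-- The parent gives the first node. -/
theorem near_zero {i : Fin 6} (hi : i ≠ 0) {d : ℕ} (hd : d + 1 = lev i) :
    G.NearR i (nodeAt i.val 0) d := by
  by_cases h1 : i = 1
  · subst h1
    have : d = 0 := by simpa [lev, levN] using hd
    subst this
    refine ⟨1, InR.one, ?_, ?_⟩
    · rw [wRep_one]
      exact ⟨1, one_mem _, 1, one_mem _, by group⟩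
    · rw [G.pos_one]
      exact rep_kinds.2.2.symm
  · have h2 : 2 ≤ lev i := by
      have := (lev_bounds i).2.2
      have : lev i ≠ 1 := fun h => h1 (this.1 h)
      have : lev i ≠ 0 := fun h => hi ((lev_bounds i).2.1.1 h)
      omega
    obtain ⟨p, hp, ha, hpos⟩ := parent (G := G) h2
    exact ⟨_, ⟨p, by omega, 1, one_mem _, by rw [one_mul]; exact EqV.refl _⟩, ha, hpos⟩

/-- A node of a certified chain of a representative. -/
theorem chain_target (hE : G.EdgeOK) {i : Fin 6} {d : ℕ} (hd : d + 1 = lev i) (hI : G.InjR d) (h2 : 2 ≤ lev i)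
    (hB : ∀ j : Fin 6, lev j = d → j ≠ 0 → ∀ k < nSame.getD j.val 0, G.NearR j (nodeAt j.val k) d)
    {n t : ℕ} {st : List (ℕ × ℕ × ℕ × ℕ × ℕ)} (h : (n, st, t) ∈ chainTab.getD i.val []) :
    G.NearR i (nodeAt i.val t) d ∧
      (n = 0 ∨ nodeAt i.val t = evW [some (stabAt i.val (n - 1))] (nodeAt i.val 0)) := by
  have hne : i ≠ 0 := by rintro rfl; exact absurd h2 (by decide)
  have hc := List.all_eq_true.1 (cert_ok i.val (mem_pos hne)).1 _ h
  simp only [Bool.and_eq_true, decide_eq_true_eq, beq_iff_eq, Bool.or_eq_true] at hc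
  exact ⟨chain_sound hE hd hI h2 hB st _ _ hc.1.2 (near_zero hne hd), hc.2⟩

/-- The stabilising elements fix their representative. -/
theorem stab_fix (hE : G.EdgeOK) {i : Fin 6} (hi : i ≠ 0) {d : ℕ} (hd : d + 1 = lev i) (hI : G.InjR d)
    (hB : ∀ j : Fin 6, lev j = d → j ≠ 0 → ∀ k < nSame.getD j.val 0, G.NearR j (nodeAt j.val k) d)
    {g : ℕ} (hg : g < 2) :
    stabAt i.val g < mons.length ∧
      G.EqV (G.lN (mel (stabAt i.val g)) * G.wRep i) (G.wRep i) := by
  have hc := List.all_eq_true.1 (cert_ok i.val (mem_pos hi)).2.2.2.2 g (by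
    have : g = 0 ∨ g = 1 := by omega
    rcases this with rfl | rfl <;> simp)
  simp only [Bool.and_eq_true, decide_eq_true_eq, beq_iff_eq, Bool.or_eq_true, List.any_eq_true] at hc
  obtain ⟨⟨hs, hfix⟩, hch⟩ := hc
  refine ⟨hs, ?_⟩
  set a := G.lN (mel (stabAt i.val g))
  have hp : G.pos (a * G.wRep i) = G.pos (G.wRep i) := by
    rw [pos_mul, G.fact_lN hs, G.pos_wRep, hfix]
  by_cases h2 : 2 ≤ lev i
  · have hlt : Nat.blt i.val 2 = false := by
      have := (by decide : ∀ i : Fin 6, 2 ≤ lev i → Nat.blt i.val 2 = false) i h2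
      exact this
    obtain ⟨⟨n, st, t⟩, hmem, hn⟩ := hch.resolve_left (by rw [hlt]; exact Bool.false_ne_true)
    have hn' : n = g + 1 := by simpa using hn
    subst hn'
    obtain ⟨⟨z, hz, hza, hzp⟩, hor⟩ := chain_target hE hd hI h2 hB hmem
    obtain ⟨y, hy, hya, hyp⟩ := near_zero (G := G) hi hd
    have he : G.EqV (a * y) z := hI _ _ (hy.smul (G.lN_mem _)) hz (by
      rw [hzp, pos_mul, G.fact_lN hs, hyp, hor.resolve_left (Nat.succ_ne_zero g), Nat.add_sub_cancel])
    exact nbr_unique hE ((hya.smul a).congr he (EqV.refl _)) hza hp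
  · have h1 : i = 1 := (lev_bounds i).2.2.1 (by
      have : lev i ≠ 0 := fun h => hi ((lev_bounds i).2.1.1 h)
      omega)
    subst h1
    rw [wRep_one] at hp ⊢
    exact (hE _ (G.lN_mem _) hp).symm

/-- Growing a tree from its roots. -/
theorem tree_sound {i : Fin 6} (hi : i ≠ 0) {d N : ℕ} (hN : N ≤ 3542)
    (hfix : ∀ g < 2, stabAt i.val g < mons.length ∧
      G.EqV (G.lN (mel (stabAt i.val g)) * G.wRep i) (G.wRep i))
    (hroot : ∀ k ∈ rootTab.getD i.val [], k < N → G.NearR i (nodeAt i.val k) d) :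
    ∀ k < N, G.NearR i (nodeAt i.val k) d := by
  intro k
  induction k using Nat.strong_induction_on with
  | _ k ih =>
    intro hk
    have ht := List.all_eq_true.1 (tree_ok i.val (mem_pos hi)) k (List.mem_range.2 (lt_of_lt_of_le hk hN))
    rw [treeOK] at ht
    cases hg : genAt i.val k == 2
    · rw [hg] at ht
      simp only [cond_false, Bool.and_eq_true, decide_eq_true_eq, beq_iff_eq] at ht
      obtain ⟨⟨hg2, hpar⟩, hnode⟩ := ht
      obtain ⟨hs, hf⟩ := hfix _ hg2
      have := Near.smul (G.lN_mem _) hf (ih _ hpar (lt_trans hpar hk))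
      rwa [G.fact_lN hs, ← hnode] at this
    · rw [hg, cond_true, List.contains_iff_mem] at ht
      exact hroot k ht hk

end Glue

end Cfsg.Lib.CoOneUniq
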