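import Cfsg.Agent.Lib.Extra.CoOneUniq.FrameModel
import Cfsg.Agent.Lib.Extra.CoOneUniq.FrameData

/-!
# Reading the data of the frame graph, and the checkers
-/

set_option autoImplicit false
set_option maxRecDepth 100000

namespace Cfsg.Lib.CoOneUniq

open Cfsg Cfsg.Lib.Concrete Cfsg.Lib.CoOne FrameData

/-- An entry of a packed list. -/
def pkGet (L w k : ℕ) : ℕ := Nat.shiftRight L (w * k) % 2 ^ w

/-- A neighbour of the standard frame. -/
def nbAt (k : ℕ) : ℕ := pkGet nbPack 24 k

/-- A neighbour of a representative. -/
def nodeAt (i k : ℕ) : ℕ := pkGet (nodePack.getD i 0) 24 k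

/-- The parent of a neighbour in its tree. -/
def parentAt (i k : ℕ) : ℕ := pkGet (treePack.getD i 0) 14 k / 4

/-- The generator leading to a neighbour, or `2` at a root. -/
def genAt (i k : ℕ) : ℕ := pkGet (treePack.getD i 0) 14 k % 4

/-- The position of a neighbour. -/
def sigAt (i k : ℕ) : ℕ := pkGet (sigPack.getD i 0) 12 k

/-- A packed monomial element of the list. -/
def monAt (k : ℕ) : ℕ × ℕ × ℕ := mons.getD k (0, 0, 0)

/-- The images under a letter. -/
def letImgs : Option ℕ → List ℕ
  | none => xiTab
  | some k => monTab.getD k []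

/-- The action of a word on classes. -/
def evW (w : List (Option ℕ)) (c : ℕ) : ℕ := w.foldr (fun l c => comboAux (letImgs l) c) c

/-- The word of a representative. -/
def wordOf (i : ℕ) : List (Option ℕ) := repW.getD i []

/-- The images of the basis classes under the words of the representatives. -/
def wordTab : List (List ℕ) := [
  [1, 2, 4, 8, 16, 32, 64, 128, 256, 512, 1024, 2048, 4096, 8192, 16384, 32768, 65536, 131072, 262144, 524288, 1048576, 2097152, 4194304, 8388608],
  [1, 3407851, 7622892, 4282864, 16388089, 10366961, 12504953, 2105192, 4472528, 4302072, 10178041, 16386025, 10200824, 16396264, 10383312, 10209784, 16453608, 10235856, 10467064, 11980600, 9128440, 10407736, 12193768, 5902336],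
  [1, 16445612, 15397293, 593149, 11840990, 16569545, 8626570, 12805597, 11551776, 11603171, 13820393, 11374650, 350716, 9715873, 15913033, 8014866, 5922889, 14942281, 1156860, 8391934, 12793322, 6701846, 16281761, 16400616],
  [1, 6350899, 8354087, 4255751, 12335938, 12314244, 667225, 2273799, 3654100, 4100093, 3597506, 4619182, 563645, 7788580, 16635529, 8377553, 5257204, 6276705, 3892869, 15975361, 16704193, 8342721, 28380, 16770752],
  [1, 8919050, 12444003, 14420352, 14148451, 233754, 1692803, 8222023, 2737222, 13435426, 6931011, 15627219, 12792806, 12427555, 4358167, 7700413, 14795331, 9099974, 4365798, 524291, 9833312, 1688203, 2622595, 9083877],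
  [12695289, 16151852, 12960212, 7025895, 794279, 5554380, 15397092, 4668222, 12655343, 1066711, 7647209, 4522731, 16219284, 9958781, 1572879, 12667593, 9955892, 15695730, 16009436, 10227367, 5292700, 5549027, 2828573, 2587288]]

/-- The stabilising element of a tree. -/
def stabAt (i g : ℕ) : ℕ := (stabIds.getD i []).getD g 0

/-- The frame of a representative. -/
def repCode (i : ℕ) : ℕ := evW (wordOf i) topCode

/-- The checks on an element of the list. -/
def monOK (k : ℕ) : Bool :=
  okMono (monAt k).1 (monAt k).2.1 (monAt k).2.2 &&
    monoImgs (monAt k).2.1 (monAt k).2.2 == monTab.getD k []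

/-- A monomial element of the list. -/
noncomputable def mel (k : ℕ) : ↥N1 := ⟨monoEl (monAt k).1 (monAt k).2.1 (monAt k).2.2, monoEl_mem _ _ _⟩

/-- A letter. -/
noncomputable def letEl : Option ℕ → Spor.Co1
  | none => xiEl
  | some k => mel k

/-- The tree at a representative is correct. -/
def treeOK (i k : ℕ) : Bool :=
  bif genAt i k == 2 then (rootTab.getD i []).contains k
  else decide (genAt i k < 2) && decide (parentAt i k < k) &&
    nodeAt i k == evW [some (stabAt i (genAt i k))] (nodeAt i (parentAt i k))

/-- All neighbours of a representative are listed. -/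
def sigOK (i k : ℕ) : Bool :=
  decide (sigAt i k < 3542) && nodeAt i (sigAt i k) == comboAux (wordTab.getD i []) (nbAt k)

/-- The weight of the lower neighbours. -/
def kappa (i : ℕ) : ℕ := bif Nat.blt i 4 then 0 else 8

/-- The kinds separate the lower neighbours. -/
def kindOK (i k : ℕ) : Bool :=
  (kindC (nodeAt i k) == kappa i) == Nat.blt k (nLow.getD i 0)

/-- The level of an orbit. -/
def levN (i : ℕ) : ℕ := [0, 1, 2, 2, 3, 3].getD i 0

/-- A step at a representative: `(orbit, element, element, type, position)`. -/
def stepOK (i cur : ℕ) (bnd : ℕ → ℕ) : ℕ × ℕ × ℕ × ℕ × ℕ → Bool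
  | (j, b, a, t, k) =>
    let pre := some b :: wordOf j
    decide (j < 6) && (levN j + 1 == levN i) && decide (b < mons.length) && decide (a < mons.length) &&
      decide (t < triTab.length) && (evW pre topCode == cur) &&
      (evW (pre ++ [some a, some (triTab.getD t (0, 0)).1, none]) topCode == repCode i) &&
      ((j == 0) || (decide (k < bnd j) && evW (wordOf j ++ [some a, none]) topCode == nodeAt j k))

/-- The frame reached by a step. -/
def stepTo : ℕ × ℕ × ℕ × ℕ × ℕ → ℕ
  | (j, b, a, _, _) => evW (some b :: wordOf j ++ [some a, none]) topCode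

/-- A chain of steps. -/
def chainOK (i : ℕ) (bnd : ℕ → ℕ) : ℕ → List (ℕ × ℕ × ℕ × ℕ × ℕ) → ℕ → Bool
  | cur, [], tgt => cur == tgt
  | cur, s :: rest, tgt => stepOK i cur bnd s && chainOK i bnd (stepTo s) rest tgt

/-- The chains of a representative. -/
def chainsOK (i : ℕ) : Bool :=
  (chainTab.getD i []).all fun (n, st, t) =>
    decide (t < nLow.getD i 0) && chainOK i (fun j => nSame.getD j 0) (nodeAt i 0) st (nodeAt i t) &&
      (n == 0 || nodeAt i t == evW [some (stabAt i (n - 1))] (nodeAt i 0))

/-- The representatives on the same level. -/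
def samesOK (i : ℕ) : Bool :=
  (sameTab.getD i []).all fun (y, s, u) =>
    decide (y < nLow.getD i 0) && stepOK i (nodeAt i y) (fun _ => 3542) s && stepTo s == nodeAt i u

/-- The representatives above. -/
def upsOK (i : ℕ) : Bool :=
  (upTab.getD i []).all fun (j, b, k, u) =>
    decide (j < 6) && (levN j == levN i + 1) && decide (b < mons.length) && decide (k < nLow.getD j 0) &&
      evW (some b :: wordOf j) topCode == nodeAt i u && evW [some b] (nodeAt j k) == repCode i

/-- The roots are covered by their certificates. -/
def rootsOK (i : ℕ) : Bool :=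
  (rootTab.getD i []).all fun k =>
    k == 0 || (chainTab.getD i []).any (fun (n, _, t) => n == 0 && t == k) ||
      (sameTab.getD i []).any (fun (_, _, u) => u == k && Nat.blt k (nSame.getD i 0)) ||
      (upTab.getD i []).any (fun (_, _, _, u) => u == k && Nat.ble (nSame.getD i 0) k)

/-- The stabilising elements fix their representative and have chains. -/
def stabsOK (i : ℕ) : Bool :=
  [0, 1].all fun g => decide (stabAt i g < mons.length) && evW [some (stabAt i g)] (repCode i) == repCode i &&
    (Nat.blt i 2 || (chainTab.getD i []).any fun (n, _, _) => n == g + 1)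

end Cfsg.Lib.CoOneUniq
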