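import Cfsg.Agent.Lib.Extra.CoOneUniq.FusedPfaff
import Cfsg.Agent.Lib.ZStar.Main

/-!
# The involution is fused into its extraspecial subgroup

With both commuting parts full, the elements of the second subgroup acting trivially on the commutator
space of the other involution carry alternating forms with non-vanishing Pfaffian in too many
places. The Z*-theorem supplies a second commuting conjugate.
-/

set_option autoImplicit false
set_option linter.style.haveILetI false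
set_option linter.unusedSectionVars false
set_option maxRecDepth 100000

namespace Cfsg.Lib.CoOneFused

open Cfsg Module Cfsg.Lib.Linear.Orth Cfsg.Lib.Extra.Wide Cfsg.Lib.CoOneLocal
open scoped Matrix

variable {G : Type*} [Group G] [Finite G] {D E : Act G} (h : Duo D E)

include h

theorem Duo.whole {r : G} (hr : r ∈ E.Q) (hfix : E.n D.z (E.cls r) = 0) : Commute r D.z := by
  by_contra hc
  exact h.no_extra hr hc hfix

theorem Duo.sEl_mem {r : G} (hr : r ∈ E.Q) : Commute (sEl D r) D.z := by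
  obtain ⟨h1, h2⟩ := h.sEl_cls hr
  exact h.whole h1 (by rw [h2]; exact E.n_n h.cross.comm h.symm.sq _)

/-- The pairing on the commutator space. -/
theorem Duo.sEl_add {a b : G} (ha : a ∈ E.Q) (hb : b ∈ E.Q) :
    (E.B (E.cls a) (E.n D.z (E.cls b)) = 0 → sEl D (a * b) = sEl D a * sEl D b) ∧
    (E.B (E.cls a) (E.n D.z (E.cls b)) = 1 → sEl D (a * b) = sEl D a * (E.z * sEl D b)) := by
  obtain ⟨hQ, hc⟩ := h.sEl_cls hb
  rw [← hc, sEl_mul]
  constructor
  · intro h0
    rw [((E.cls_comm a ha _ hQ).2 h0).eq, mul_inv_cancel_right]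
  · intro h1
    rcases E.ctx.conj_cases ha hQ with e | e
    · have := (E.cls_comm a ha _ hQ).1 (mul_inv_eq_iff_eq_mul.1 e)
      rw [h1] at this
      exact absurd this one_ne_zero
    · rw [e]

theorem Duo.iso_vanish {p u : V8} (hp : E.n D.z p = 0) (hu : u ∈ LinearMap.range (E.n D.z)) : E.B p u = 0 := by
  obtain ⟨v, rfl⟩ := hu
  rw [← E.B_n h.cross.comm h.symm.sq, hp, map_zero, LinearMap.zero_apply]

theorem Duo.beta_self (p : V8) : E.B p (E.n D.z p) = 0 := by
  have hm : E.n D.z p ∈ E.fix D.z := E.mem_fix.2 (E.n_n h.cross.comm h.symm.sq p)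
  obtain ⟨a, ha, e⟩ := E.cls_surj (E.n D.z p)
  have haz : Commute a D.z := h.whole ha (by rw [e]; exact E.n_n h.cross.comm h.symm.sq p)
  have h0 : qp (E.cls a) = 0 := (E.cls_sq a ha).1 (h.symm.elem ha haz)
  rw [e, Act.n, Q_nMap E.space (E.act_iso h.cross.comm)] at h0
  rw [E.space.symm]
  exact h0

theorem Duo.beta_symm (p q : V8) : E.B p (E.n D.z q) = E.B q (E.n D.z p) := by
  rw [← E.B_n h.cross.comm h.symm.sq, E.space.symm]

/-- A common element other than the identity, as a commutator times the second involution. -/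
theorem Duo.inter_eq {d r : G} (hdQ : d ∈ D.Q) (hdR : d ∈ E.Q) (hd1 : d ≠ 1) (hr : r ∈ E.Q)
    (hcls : E.n D.z (E.cls r) = E.cls d) : d = E.z * sEl D r ∧ sEl D r ≠ 1 := by
  obtain ⟨hQ, hc⟩ := h.sEl_cls hr
  have hne : sEl D r ≠ 1 := fun e => by
    rw [e, E.cls_one, hcls] at hc
    rcases (E.cls_ker d hdR).1 hc.symm with e1 | e1
    · exact hd1 e1
    · exact h.cross.not_fst (e1 ▸ hdQ)
  refine ⟨(E.cls_eq hQ hdR (hc.trans hcls)).resolve_left fun e => ?_, hne⟩
  exact (h.sEl_four hne (h.sEl_mem hr)).1 (e ▸ hdQ)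

theorem Duo.inter_ne {d : G} (hdQ : d ∈ D.Q) (hdR : d ∈ E.Q) (hd1 : d ≠ 1) : E.cls d ≠ 0 := fun e => by
  rcases (E.cls_ker d hdR).1 e with e1 | e1
  · exact hd1 e1
  · exact h.cross.not_fst (e1 ▸ hdQ)

theorem Duo.inter_pre {d : G} (hdQ : d ∈ D.Q) (hdR : d ∈ E.Q) :
    ∃ p ∈ E.Q, E.n D.z (E.cls p) = E.cls d := by
  have hm : E.cls d ∈ LinearMap.range (E.n D.z) := by
    rw [h.symm.range_eq]
    exact E.mem_fix.2 (E.n_of_commute h.cross.comm hdR (D.ctx.central d hdQ))
  obtain ⟨v, hv⟩ := hm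
  obtain ⟨p, hp, rfl⟩ := E.cls_surj v
  exact ⟨p, hp, hv⟩

/-- Two common elements pair non-trivially. -/
theorem Duo.inter_pair {d d' p p' : G} (hdQ : d ∈ D.Q) (hdR : d ∈ E.Q) (hd1 : d ≠ 1) (hd'Q : d' ∈ D.Q)
    (hd'R : d' ∈ E.Q) (hd'1 : d' ≠ 1) (hp : p ∈ E.Q) (hp' : p' ∈ E.Q)
    (e : E.n D.z (E.cls p) = E.cls d) (e' : E.n D.z (E.cls p') = E.cls d') (hne : E.cls d ≠ E.cls d') :
    E.B (E.cls p) (E.cls d') = 1 := by
  refine (bit _).resolve_left fun h0 => ?_
  obtain ⟨e1, -⟩ := h.inter_eq hdQ hdR hd1 hp e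
  obtain ⟨e2, -⟩ := h.inter_eq hd'Q hd'R hd'1 hp' e'
  have hcls : E.n D.z (E.cls (p * p')) = E.cls (d * d') := by
    rw [E.cls_mul p hp p' hp', map_add, e, e', E.cls_mul d hdR d' hd'R]
  have hdd : d * d' ≠ 1 := fun e3 => hne (by
    rw [eq_inv_of_mul_eq_one_left e3, E.cls_inv hd'R])
  obtain ⟨e3, -⟩ := h.inter_eq (mul_mem hdQ hd'Q) (mul_mem hdR hd'R) hdd (mul_mem hp hp') hcls
  rw [← e'] at h0
  rw [(h.sEl_add hp hp').1 h0, e1, e2] at e3
  have hw : E.z * sEl D p * (E.z * sEl D p') = sEl D p * sEl D p' := by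
    calc E.z * sEl D p * (E.z * sEl D p') = sEl D p * (E.z * E.z) * sEl D p' := by
          rw [(E.ctx.central _ (h.sEl_cls hp).1).eq]; simp only [mul_assoc]
      _ = _ := by rw [E.ctx.sq_z, mul_one]
  rw [hw] at e3
  exact E.ctx.ne_one (mul_eq_right.1 e3.symm)

/-- The elements on the perpendicular of a common element centralize the first commuting part. -/
theorem Duo.centralizes {d p : G} (hdQ : d ∈ D.Q) (hdR : d ∈ E.Q) (hd1 : d ≠ 1) (hp : p ∈ E.Q)
    (hpd : E.n D.z (E.cls p) = E.cls d) {e : G} (he : e ∈ E.Q) (hez : Commute e D.z)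
    (hperp : E.B (E.cls p) (E.cls e) = 0) {a : G} (ha : a ∈ D.Q) (haw : Commute a E.z) : Commute e a := by
  obtain ⟨hkQ, hkR⟩ := h.cross_comm ha haw he hez
  have haz : Commute a D.z := (D.ctx.central a ha).symm
  have hker : ∀ d', d' ∈ D.Q → d' ∈ E.Q → E.n a (E.cls d') = 0 := fun d' h1 h2 =>
    E.n_of_commute haw h2 (h.cross.symm.inter_commute h2 h1 ha haw).symm
  have hcomm : ∀ v, E.n D.z (E.n a v) = E.n a (E.n D.z v) := by
    intro v
    have e1 := E.n_mul h.cross.comm haw v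
    have e2 := E.n_mul haw h.cross.comm v
    rw [haz.eq] at e2
    rw [e1, add_comm (E.n a v) (E.n D.z v)] at e2
    exact add_left_cancel e2
  have hsub : ∀ v, ∃ d', d' ∈ D.Q ∧ d' ∈ E.Q ∧ E.cls d' = E.n a (E.n D.z v) := by
    intro v
    obtain ⟨b, hb, e1⟩ := E.cls_surj (E.n D.z v)
    have hbz : Commute b D.z := h.whole hb (by rw [e1]; exact E.n_n h.cross.comm h.symm.sq v)
    obtain ⟨h1, h2⟩ := h.cross_comm ha haw hb hbz
    have hb' : b * a * b⁻¹ * a⁻¹ = (a * b * a⁻¹ * b⁻¹)⁻¹ := by group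
    refine ⟨b * a * b⁻¹ * a⁻¹, h1, h2, ?_⟩
    obtain ⟨h3, h4⟩ := E.n_cls haw hb
    rw [hb', E.cls_inv h3, h4, e1]
  -- the perpendiculars of all common elements are killed
  have hperp_all : ∀ u ∈ E.fix D.z, (∀ p', (∃ d', d' ∈ D.Q ∧ d' ∈ E.Q ∧ E.cls d' = E.n D.z p') → E.B p' u = 0) →
      E.n a u = 0 := by
    intro u _ hu
    refine E.space.nondeg' fun v => ?_
    rw [E.B_n haw (h.elem ha haw), E.space.symm]
    refine hu _ ?_
    obtain ⟨d', h1, h2, h3⟩ := hsub v
    exact ⟨d', h1, h2, by rw [h3, hcomm]⟩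
  have hu : E.cls e ∈ E.fix D.z := E.mem_fix.2 (E.n_of_commute h.cross.comm he hez.symm)
  have hu' : E.cls e ∈ LinearMap.range (E.n D.z) := h.symm.range_eq.ge hu
  have hzero : ∀ q, E.n D.z q = 0 → E.B q (E.cls e) = 0 := fun q hq => h.iso_vanish hq hu'
  have hwd : ∀ q q', E.n D.z q = E.n D.z q' → E.B q (E.cls e) = E.B q' (E.cls e) := fun q q' hqq => by
    have := hzero (q + q') (by rw [map_add, hqq, vadd_self])
    rw [map_add, LinearMap.add_apply] at this
    exact bit_eq_of_add this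
  have hkill : E.n a (E.cls e) = 0 := by
    by_cases hall : ∀ p', (∃ d', d' ∈ D.Q ∧ d' ∈ E.Q ∧ E.cls d' = E.n D.z p') → E.B p' (E.cls e) = 0
    · exact hperp_all _ hu hall
    push Not at hall
    obtain ⟨pb, ⟨db, hbQ, hbR, hb⟩, hpb⟩ := hall
    have hpb1 := (bit _).resolve_left hpb
    have hb0 : E.cls db ≠ 0 := fun e0 => hpb (hzero _ (hb.symm.trans e0))
    have hab : E.cls d ≠ E.cls db := fun e0 => hpb (by
      rw [← hwd (E.cls p) pb (by rw [hpd, e0, hb]), hperp])
    have hdb1 : db ≠ 1 := fun e0 => hb0 (by rw [e0, E.cls_one])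
    obtain ⟨qb, hqb, rfl⟩ := E.cls_surj pb
    have hpair : ∀ {d' p' : G}, d' ∈ D.Q → d' ∈ E.Q → p' ∈ E.Q → E.n D.z (E.cls p') = E.cls d' →
        E.cls d' ≠ 0 → E.cls d' ≠ E.cls d → E.B (E.cls p') (E.cls d) = 1 := fun {d' p'} h1 h2 h3 h4 h5 h6 =>
      h.inter_pair h1 h2 (fun e0 => h5 (by rw [e0, E.cls_one])) hdQ hdR hd1 h3 hp h4 hpd h6
    have hval : E.n a (E.cls e + E.cls d) = 0 := by
      refine hperp_all _ (add_mem hu (E.mem_fix.2 (E.n_of_commute h.cross.comm hdR (D.ctx.central d hdQ)))) ?_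
      rintro p'' ⟨d', h1, h2, h3⟩
      obtain ⟨p', hp', rfl⟩ := E.cls_surj p''
      have hdr : E.cls d ∈ LinearMap.range (E.n D.z) := ⟨_, hpd⟩
      rw [map_add]
      by_cases hd0 : E.cls d' = 0
      · rw [hzero _ (h3.symm.trans hd0), h.iso_vanish (h3.symm.trans hd0) hdr, add_zero]
      by_cases hda : E.cls d' = E.cls d
      · rw [hwd _ (E.cls p) (by rw [← h3, hda, hpd]), hperp, ← hpd,
          show E.B (E.cls p') (E.n D.z (E.cls p)) = 0 by
            rw [h.beta_symm, ← h3, hda, ← hpd]; exact h.beta_self _, add_zero]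
      rw [hpair h1 h2 hp' h3.symm hd0 hda]
      by_cases hdbb : E.cls d' = E.cls db
      · rw [hwd _ (E.cls qb) (by rw [← h3, hdbb, hb]), hpb1]; decide
      -- three of them
      have hd'1 : d' ≠ 1 := fun e0 => hd0 (by rw [e0, E.cls_one])
      have hne2 : E.cls (d' * db) ≠ 0 := by
        rw [E.cls_mul _ h2 _ hbR]
        exact fun e0 => hdbb (vadd_eq_zero e0)
      have hsum : E.cls d' + E.cls db = E.cls d := by
        by_contra hne3
        have h4 := hpair (mul_mem h1 hbQ) (mul_mem h2 hbR) (mul_mem hp' hqb)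
          (by rw [E.cls_mul _ hp' _ hqb, map_add, ← h3, ← hb, E.cls_mul _ h2 _ hbR]) hne2
          (by rwa [E.cls_mul _ h2 _ hbR])
        rw [E.cls_mul _ hp' _ hqb, map_add, LinearMap.add_apply, hpair h1 h2 hp' h3.symm hd0 hda,
          hpair hbQ hbR hqb hb.symm hb0 (Ne.symm hab)] at h4
        exact absurd h4 (by decide)
      rw [hwd (E.cls p') (E.cls p + E.cls qb) (by
        rw [map_add, hpd, ← h3, ← hb, ← hsum, add_assoc, vadd_self, add_zero]), map_add,
        LinearMap.add_apply, hperp, hpb1, zero_add]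
      decide
    rwa [map_add, hker d hdQ hdR, add_zero] at hval
  obtain ⟨h3, h4⟩ := E.n_cls haw he
  rw [hkill] at h4
  have hk : e * a * e⁻¹ * a⁻¹ = (a * e * a⁻¹ * e⁻¹)⁻¹ := by group
  have hk1 : e * a * e⁻¹ * a⁻¹ = 1 := by
    rw [hk] at hkQ hkR ⊢
    rcases (E.cls_ker _ hkR).1 (by rw [E.cls_inv h3, h4]) with e1 | e1
    · exact e1
    · exact absurd (e1 ▸ hkQ) h.cross.not_fst
  exact mul_inv_eq_iff_eq_mul.1 (mul_inv_eq_one.1 hk1)

/-- Two commuting conjugates cannot be in general position. -/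
theorem Duo.false : False := by
  classical
  obtain ⟨b⟩ : Nonempty (Basis (Fin 4) (ZMod 2) ↥(LinearMap.range (D.n E.z))) :=
    ⟨Module.finBasisOfFinrankEq _ _ (by rw [h.range_eq]; exact h.four)⟩
  have hf : ∀ i, ∃ v, D.n E.z v = (b i : V8) := fun i => (b i).2
  choose f hfb using hf
  let M : G → Fin 4 → Fin 4 → ZMod 2 := fun e i j => D.B (D.n e (f i)) (f j)
  -- the elements centralizing the first commuting part
  let InX : G → Prop := fun e => e ∈ E.Q ∧ Commute e D.z ∧ ∀ a ∈ D.Q, Commute a E.z → Commute e a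
  have hW : ∀ u ∈ D.fix E.z, ∃ a ∈ D.Q, Commute a E.z ∧ D.cls a = u := fun u hu => by
    obtain ⟨a, ha, rfl⟩ := D.cls_surj u
    exact ⟨a, ha, h.symm.whole ha (D.mem_fix.1 hu), rfl⟩
  have hkill : ∀ {e}, InX e → ∀ u ∈ D.fix E.z, D.n e u = 0 := by
    rintro e ⟨-, hez, hc⟩ u hu
    obtain ⟨a, ha, haw, rfl⟩ := hW u hu
    exact D.n_of_commute hez ha (hc a ha haw)
  have hsq : ∀ {e}, InX e → e * e = 1 := fun he => h.symm.elem he.1 he.2.1
  have hinto : ∀ {e}, InX e → ∀ v, D.n e v ∈ D.fix E.z := by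
    intro e he v
    rw [← h.range_eq]
    refine D.mem_range_of_perp h.comm h.sq fun u hu => ?_
    rw [D.B_n he.2.1 (hsq he), hkill he u hu, map_zero]
  have hmulX : ∀ {x y}, InX x → InX y → InX (x * y) := fun hx hy =>
    ⟨mul_mem hx.1 hy.1, hx.2.1.mul_left hy.2.1, fun a ha haw => (hx.2.2 a ha haw).mul_left (hy.2.2 a ha haw)⟩
  have hwX : InX E.z := ⟨E.ctx.mem, h.comm, fun a ha haw => haw.symm⟩
  have hadd : ∀ {x y}, InX x → InX y → M (x * y) = M x + M y := by
    intro x y hx hy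
    funext i j
    show D.B (D.n (x * y) (f i)) (f j) = _
    rw [D.n_mul hx.2.1 hy.2.1, hkill hx _ (hinto hy _), add_zero, map_add, LinearMap.add_apply]
    rfl
  have hsing : ∀ u ∈ D.fix E.z, qp u = 0 := fun u hu => by
    obtain ⟨a, ha, haw, rfl⟩ := hW u hu
    exact (D.cls_sq a ha).1 (h.elem ha haw)
  have hpf : ∀ {e}, InX e → finrank (ZMod 2) (D.fix e) = 4 → pf (M e) = 1 := by
    intro e he h4
    refine (bit _).resolve_left fun h0 => ?_
    have hiso := D.act_iso he.2.1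
    obtain ⟨k, hk, hrow⟩ := exists_kill (M e)
      (fun i => by
        show D.B (D.n e (f i)) (f i) = 0
        rw [Act.n, ← Q_nMap D.space hiso]
        exact hsing _ (hinto he _))
      (fun i j => by
        show D.B (D.n e (f i)) (f j) = D.B (D.n e (f j)) (f i)
        rw [D.B_n he.2.1 (hsq he), D.space.symm]) h0
    set v := ∑ j, k j • f j with hv
    have hperp : ∀ i, D.B (D.n e v) (f i) = 0 := by
      intro i
      rw [D.B_n he.2.1 (hsq he), D.space.symm, hv, map_sum]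
      simpa [map_smul, M] using hrow i
    have hnv : D.n e v = 0 := by
      refine D.space.nondeg' fun x => ?_
      have hm : D.n E.z x ∈ LinearMap.range (D.n E.z) := ⟨x, rfl⟩
      have hsum := b.sum_repr ⟨_, hm⟩
      obtain ⟨c, hc⟩ : ∃ c : Fin 4 → ZMod 2, (∑ j, c j • (b j : V8)) = D.n E.z x := by
        refine ⟨fun j => b.repr ⟨_, hm⟩ j, ?_⟩
        have e2 := congrArg Subtype.val hsum
        rw [Submodule.coe_sum] at e2
        exact e2
      have hrest : x + ∑ j, c j • f j ∈ D.fix E.z := D.mem_fix.2 (by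
        rw [map_add, map_sum]
        simp only [map_smul, hfb]
        rw [hc, vadd_self])
      have h1 : D.B (D.n e v) (x + ∑ j, c j • f j) = 0 := by
        rw [D.B_n he.2.1 (hsq he), hkill he _ hrest, map_zero]
      simpa [map_add, map_sum, map_smul, hperp] using h1
    have hfix : D.fix E.z = D.fix e := Submodule.eq_of_le_of_finrank_eq
      (fun u hu => D.mem_fix.2 (hkill he u hu)) (by rw [h4, h.four])
    have hvw : D.n E.z v = 0 := D.mem_fix.1 (hfix.ge (D.mem_fix.2 hnv))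
    refine hk (funext fun j => ?_)
    have h2 : ∑ i, k i • b i = 0 := Subtype.ext (by
      rw [Submodule.coe_sum, Submodule.coe_zero, ← hvw, hv, map_sum]
      simp only [map_smul, hfb, SetLike.val_smul])
    exact Fintype.linearIndependent_iff.1 b.linearIndependent k h2 j
  have hS : ∀ {r}, r ∈ E.Q → E.n D.z (E.cls r) ≠ 0 → InX (sEl D r) → pf (M (sEl D r)) = 1 := by
    intro r hr hne hX
    refine hpf hX (h.sEl_four (fun e => hne ?_) hX.2.1).2
    have := (h.sEl_cls hr).2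
    rw [e, E.cls_one] at this
    exact this.symm
  have hw1 : pf (M E.z) = 1 := hpf hwX h.four
  -- two perpendicular classes pairing with each other
  have hpick : ∀ {r}, r ∈ E.Q → E.n D.z (E.cls r) ≠ 0 → ∃ s ∈ E.Q, ∃ t ∈ E.Q,
      E.B (E.cls r) (E.n D.z (E.cls s)) = 0 ∧ E.B (E.cls r) (E.n D.z (E.cls t)) = 0 ∧
      E.B (E.cls s) (E.n D.z (E.cls t)) = 1 := by
    intro r hr hne
    set u := E.n D.z (E.cls r) with hu
    by_contra hcon
    push Not at hcon
    have hle : ∀ p, E.B u p = 0 → E.n D.z p ∈ Submodule.span (ZMod 2) {u} := by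
      intro p hp
      refine mem_of_perp E.space _ fun c hc => ?_
      have hc0 : E.B u c = 0 := hc u (Submodule.mem_span_singleton_self u)
      obtain ⟨s, hs, rfl⟩ := E.cls_surj c
      obtain ⟨t, ht, rfl⟩ := E.cls_surj p
      rw [E.space.symm]
      refine (bit _).resolve_right (hcon s hs t ht ?_ ?_)
      · rw [← E.B_n h.cross.comm h.symm.sq]; exact hc0
      · rw [← E.B_n h.cross.comm h.symm.sq]; exact hp
    have hbig : LinearMap.ker (E.B u) ≤ E.fix D.z ⊔ Submodule.span (ZMod 2) {E.cls r} := by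
      intro p hp
      obtain ⟨c, hc⟩ := Submodule.mem_span_singleton.1 (hle p (LinearMap.mem_ker.1 hp))
      have hm : p + c • E.cls r ∈ E.fix D.z := E.mem_fix.2 (by rw [map_add, map_smul, ← hu, hc, vadd_self])
      have e2 : p = (p + c • E.cls r) + c • E.cls r := by rw [add_assoc, vadd_self, add_zero]
      rw [e2]
      exact add_mem (Submodule.mem_sup_left hm)
        (Submodule.smul_mem _ _ (Submodule.mem_sup_right (Submodule.mem_span_singleton_self _)))
    have h1 := Submodule.finrank_mono hbig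
    have h2 := Submodule.finrank_add_le_finrank_add_finrank (E.fix D.z) (Submodule.span (ZMod 2) {E.cls r})
    have h3 : finrank (ZMod 2) ↥(Submodule.span (ZMod 2) ({E.cls r} : Set V8)) ≤ 1 :=
      (finrank_span_le_card ({E.cls r} : Set V8)).trans (by simp)
    have h4 := (E.B u).finrank_range_add_finrank_ker
    have h5 : finrank (ZMod 2) ↥(LinearMap.range (E.B u)) ≤ 1 :=
      (Submodule.finrank_le _).trans (by simp)
    have h6 : finrank (ZMod 2) (E.fix D.z) = 4 := h.symm.four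
    rw [finrank_fintype_fun_eq_card] at h4
    simp only [Fintype.card_sum, Fintype.card_fin] at h4
    omega
  -- the identity at a class
  have hone : ∀ {r}, r ∈ E.Q → E.n D.z (E.cls r) ≠ 0 → InX (sEl D r) →
      (∀ {s}, s ∈ E.Q → E.B (E.cls r) (E.n D.z (E.cls s)) = 0 → InX (sEl D s)) →
      pf (M (sEl D r) + M E.z) = 1 := by
    intro r hr hne hX hperpX
    obtain ⟨s, hs, t, ht, hrs, hrt, hst⟩ := hpick hr hne
    have hXs := hperpX hs hrs
    have hXt := hperpX ht hrt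
    have hst' : sEl D (s * t) = sEl D s * (E.z * sEl D t) := (h.sEl_add hs ht).2 hst
    have hrst : E.B (E.cls r) (E.n D.z (E.cls (s * t))) = 0 := by
      rw [E.cls_mul s hs t ht, map_add, map_add, hrs, hrt, add_zero]
    have hrs' := (h.sEl_add hr hs).1 hrs
    have hrt' := (h.sEl_add hr ht).1 hrt
    have hrst' := (h.sEl_add hr (mul_mem hs ht)).1 hrst
    have hn : ∀ {p}, p ∈ E.Q → (∃ q, E.B (E.cls p) (E.n D.z q) = 1) → E.n D.z (E.cls p) ≠ 0 := by
      rintro p - ⟨q, hq⟩ e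
      rw [← E.B_n h.cross.comm h.symm.sq, e, map_zero, LinearMap.zero_apply] at hq
      exact zero_ne_one hq
    have hts : E.B (E.cls t) (E.n D.z (E.cls s)) = 1 := by rw [h.beta_symm]; exact hst
    have hss := h.beta_self (E.cls s)
    have htt := h.beta_self (E.cls t)
    have hbc : M (sEl D (s * t)) = M (sEl D s) + M (sEl D t) + M E.z := by
      rw [hst', hadd hXs (hmulX hwX hXt), hadd hwX hXt]; abel
    have hn1 : E.n D.z (E.cls (s * t)) ≠ 0 := hn (mul_mem hs ht) ⟨E.cls t, by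
      rw [E.cls_mul s hs t ht, map_add, LinearMap.add_apply, hst, htt, add_zero]⟩
    have hn2 : E.n D.z (E.cls (r * s)) ≠ 0 := hn (mul_mem hr hs) ⟨E.cls t, by
      rw [E.cls_mul r hr s hs, map_add, LinearMap.add_apply, hst, hrt, zero_add]⟩
    have hn3 : E.n D.z (E.cls (r * t)) ≠ 0 := hn (mul_mem hr ht) ⟨E.cls s, by
      rw [E.cls_mul r hr t ht, map_add, LinearMap.add_apply, hts, hrs, zero_add]⟩
    have hn4 : E.n D.z (E.cls (r * (s * t))) ≠ 0 := hn (mul_mem hr (mul_mem hs ht)) ⟨E.cls t, by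
      rw [E.cls_mul r hr _ (mul_mem hs ht), E.cls_mul s hs t ht, map_add, map_add, LinearMap.add_apply,
        LinearMap.add_apply, hst, hrt, htt, add_zero, zero_add]⟩
    have hXst : InX (sEl D (s * t)) := hst' ▸ hmulX hXs (hmulX hwX hXt)
    refine pf_seven _ (M (sEl D s)) (M (sEl D t)) _ (hS hs (hn hs ⟨_, hst⟩) hXs) (hS ht (hn ht ⟨_, hts⟩) hXt)
      hw1 ?_ ?_ ?_ ?_
    · rw [← hadd hX hXs, ← hrs']; exact hS (mul_mem hr hs) hn2 (hrs' ▸ hmulX hX hXs)
    · rw [← hadd hX hXt, ← hrt']; exact hS (mul_mem hr ht) hn3 (hrt' ▸ hmulX hX hXt)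
    · rw [← hbc]; exact hS (mul_mem hs ht) hn1 hXst
    · rw [← hbc, ← hadd hX hXst, ← hrst']
      exact hS (mul_mem hr (mul_mem hs ht)) hn4 (hrst' ▸ hmulX hX hXst)
  by_cases hD : ∃ d, d ∈ D.Q ∧ d ∈ E.Q ∧ d ≠ 1
  · obtain ⟨d, hdQ, hdR, hd1⟩ := hD
    obtain ⟨p, hp, hpd⟩ := h.inter_pre hdQ hdR
    obtain ⟨hde, hne1⟩ := h.inter_eq hdQ hdR hd1 hp hpd
    have hperpX : ∀ {s}, s ∈ E.Q → E.B (E.cls p) (E.n D.z (E.cls s)) = 0 → InX (sEl D s) := by
      intro s hs h0
      refine ⟨(h.sEl_cls hs).1, h.sEl_mem hs, fun a ha haw =>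
        h.centralizes hdQ hdR hd1 hp hpd (h.sEl_cls hs).1 (h.sEl_mem hs) ?_ ha haw⟩
      rw [(h.sEl_cls hs).2]
      exact h0
    have hX : InX (sEl D p) := hperpX hp (h.beta_self _)
    have h1 := hone hp (by rw [hpd]; exact h.inter_ne hdQ hdR hd1) hX hperpX
    rw [add_comm, ← hadd hwX hX, ← hde] at h1
    have hd0 : M d = 0 := funext fun i => funext fun j => by
      show D.B (D.n d (f i)) (f j) = 0
      rw [Act.n, nMap_eq_zero.2 (by
        rw [(D.act_ker d (D.ctx.central d hdQ).symm).2 hdQ, Units.val_one, Matrix.one_mulVec]), map_zero,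
        LinearMap.zero_apply]
    rw [hd0] at h1
    simp [pf] at h1
  · push Not at hD
    have hallX : ∀ {s}, s ∈ E.Q → InX (sEl D s) := by
      intro s hs
      refine ⟨(h.sEl_cls hs).1, h.sEl_mem hs, fun a ha haw => ?_⟩
      obtain ⟨h1, h2⟩ := h.cross_comm ha haw (h.sEl_cls hs).1 (h.sEl_mem hs)
      exact mul_inv_eq_iff_eq_mul.1 (mul_inv_eq_one.1 (hD _ h1 h2))
    obtain ⟨r, hr, hne⟩ : ∃ r ∈ E.Q, E.n D.z (E.cls r) ≠ 0 := by
      obtain ⟨r, hr, hrz⟩ := h.exists_moved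
      exact ⟨r, hr, fun e => hrz (h.whole hr e)⟩
    obtain ⟨s, hs, t, ht, hrs, hrt, hst⟩ := hpick hr hne
    have hns : E.n D.z (E.cls s) ≠ 0 := fun e => by
      rw [← E.B_n h.cross.comm h.symm.sq, e, map_zero, LinearMap.zero_apply] at hst
      exact zero_ne_one hst
    have hrs' := (h.sEl_add hr hs).1 hrs
    have hnrs : E.n D.z (E.cls (r * s)) ≠ 0 := fun e => by
      have h0 : E.B (E.cls (r * s)) (E.n D.z (E.cls t)) = 0 := by
        rw [← E.B_n h.cross.comm h.symm.sq, e, map_zero, LinearMap.zero_apply]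
      rw [E.cls_mul r hr s hs, map_add, LinearMap.add_apply, hrt, hst, zero_add] at h0
      exact one_ne_zero h0
    have hadd' : M (sEl D (r * s)) = M (sEl D r) + M (sEl D s) := by rw [hrs', hadd (hallX hr) (hallX hs)]
    refine pf_linear (M (sEl D r)) (M (sEl D s)) (M E.z) (hS hr hne (hallX hr)) (hS hs hns (hallX hs)) hw1 ?_
      (hone hr hne (hallX hr) fun hs' _ => hallX hs') (hone hs hns (hallX hs) fun hs' _ => hallX hs') ?_
    · rw [← hadd']; exact hS (mul_mem hr hs) hnrs (hallX (mul_mem hr hs))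
    · rw [← hadd']; exact hone (mul_mem hr hs) hnrs (hallX (mul_mem hr hs)) fun hs' _ => hallX hs'

omit h

/-- The involution is fused into its extraspecial subgroup. -/
theorem exists_fused (D : Act G) (hO : Cfsg.oddCore G = ⊥) (hZ : Subgroup.center G = ⊥) :
    ∃ g : G, g * D.z * g⁻¹ ∈ D.Q ∧ g * D.z * g⁻¹ ≠ D.z := by
  by_contra hcon
  push Not at hcon
  have hU : Cfsg.Lib.Extra.Unf D.Q D.z := ⟨D.ctx, hcon⟩
  by_cases hex : ∃ g : G, g * D.z * g⁻¹ ≠ D.z ∧ Commute (g * D.z * g⁻¹) D.z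
  · obtain ⟨g, hne, hc⟩ := hex
    obtain ⟨E, -, h⟩ := exists_duo hU (isConj_iff.2 ⟨g, rfl⟩) hne hc
    exact h.false
  · push Not at hex
    have hiso : IsIsolatedInvolution D.z :=
      ⟨orderOf_eq_prime (by rw [pow_two]; exact D.ctx.sq_z) D.ctx.ne_one, fun g hg => by
        by_contra hne
        exact hex g hne hg.symm⟩
    have hcen : D.z ∈ Subgroup.center G := Subgroup.mem_center_iff.2 fun g => by
      have h0 := Cfsg.Lib.ZStar.zStarHolds G D.z hiso g
      rw [hO, Subgroup.mem_bot] at h0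
      exact (mul_inv_eq_iff_eq_mul.1 (mul_inv_eq_one.1 h0) : D.z * g = g * D.z).symm
    rw [hZ, Subgroup.mem_bot] at hcen
    exact D.ctx.ne_one hcen

end Cfsg.Lib.CoOneFused
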