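import Cfsg.Agent.Lib.CoOneLocal.Space

/-!
# The maps from the middle of a singular line stabilizer to the line

A set of such maps closed under sums and under six elements of the stabilizer of the line has at least
seventeen members unless it is zero.
-/

set_option autoImplicit false
set_option maxRecDepth 100000

namespace Cfsg.Lib.CoOneFused

open Cfsg Cfsg.Lib.CoOneLocal
open scoped Matrix

/-- The position of a coordinate. -/
def pos : I8 → ℕ := Sum.elim (fun i => i.val) fun i => 4 + i.val

/-- The coordinate of a position. -/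
def atPos (n : ℕ) : I8 :=
  if h : n < 4 then Sum.inl ⟨n, h⟩ else Sum.inr ⟨(n - 4) % 4, Nat.mod_lt _ (by norm_num)⟩

/-- Swaps and transvections on the coordinates, by their tables. -/
def genMap (src : List ℕ) (extra : List (ℕ × ℕ)) (v : V8) : V8 := fun i =>
  v (atPos (src.getD (pos i) 0)) + extra.foldr (fun p r => (bif p.1 == pos i then v (atPos p.2) else 0) + r) 0

/-- The tables of the six generators and of the long root element. -/
def genTab : List (List ℕ × List (ℕ × ℕ)) := [
  ([0,1,2,3,4,5,6,7], [(1,0),(4,5)]), ([1,0,2,3,5,4,6,7], []), ([0,1,3,2,4,5,7,6], []),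
  ([0,1,6,7,4,5,2,3], []), ([0,1,2,3,4,5,6,7], [(3,2),(6,7)]), ([0,1,2,3,4,5,6,7], [(3,6),(2,7)]),
  ([0,1,2,3,4,5,6,7], [(1,4),(0,5)])]

/-- The generators. -/
def gMap (k : ℕ) (v : V8) : V8 := genMap (genTab.getD k ([], [])).1 (genTab.getD k ([], [])).2 v

/-- The matrices of the generators. -/
def gMat (k : ℕ) : Matrix I8 I8 (ZMod 2) := fun i j => gMap k (Pi.single j 1) i

theorem gMat_sq : ∀ k : Fin 7, gMat k.val * gMat k.val = 1 := by decide +kernel

/-- The generators as invertible matrices; the last is the long root element. -/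
def gG (k : Fin 7) : GL I8 (ZMod 2) := ⟨gMat k.val, gMat k.val, gMat_sq k, gMat_sq k⟩

theorem gMat_map : ∀ k : Fin 7, ∀ v : V8, gMat k.val *ᵥ v = gMap k.val v := by decide +kernel

theorem gG_iso : ∀ k : Fin 7, ∀ v : V8,
    Cfsg.quadFormPlus 4 (ZMod 2) (gMap k.val v) = Cfsg.quadFormPlus 4 (ZMod 2) v := by decide +kernel

theorem gG_fix : ∀ k : Fin 7, (Finset.univ.filter fun v : V8 => gMap k.val v = v).card = 64 := by
  decide +kernel

theorem gG_comm : ∀ k : Fin 7, ∀ v : V8, gMap k.val (gMap 6 v) = gMap 6 (gMap k.val v) := by decide +kernel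

/-- The maps to the line, given on the four middle coordinates. -/
abbrev Phi := Fin 4 → Fin 2 → ZMod 2

/-- The four middle coordinates. -/
def midPos (m : Fin 4) : I8 := atPos ([2, 3, 6, 7].getD m.val 0)

/-- The middle vectors. -/
def midVec (m : Fin 4) : V8 := Pi.single (midPos m) 1

/-- The map of a table. -/
def rMap (φ : Phi) (v : V8) : V8 := fun i =>
  if i = Sum.inl 0 then v (midPos 0) * φ 0 0 + v (midPos 1) * φ 1 0 + v (midPos 2) * φ 2 0 + v (midPos 3) * φ 3 0
  else if i = Sum.inl 1 then
    v (midPos 0) * φ 0 1 + v (midPos 1) * φ 1 1 + v (midPos 2) * φ 2 1 + v (midPos 3) * φ 3 1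
  else 0

/-- The table of a map. -/
def tabOf (f : V8 → V8) : Phi := fun m l => f (midVec m) (Sum.inl ⟨l.val, by omega⟩)

/-- The action of a generator on the tables. -/
def tMap (k : ℕ) (φ : Phi) : Phi := tabOf fun v => gMap k (rMap φ (gMap k v))

/-- The fixed table of the unipotent generators. -/
def phi0 : Phi := fun m l => if m = 3 ∧ l = 1 then 1 else 0

/-- Descent to the fixed table. -/
def descend : ℕ → Phi → Bool
  | 0, φ => decide (φ = phi0)
  | n + 1, φ => decide (φ = phi0) ||
      [0, 4, 5].any fun k => decide (tMap k φ + φ ≠ 0) && descend n (tMap k φ + φ)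

theorem descend_ok : ∀ φ : Phi, φ ≠ 0 → descend 3 φ = true := by decide +kernel

/-- Sixteen words moving the fixed table to distinct places. -/
def wordList : List (List ℕ) :=
  [[], [1], [2], [3], [0,1], [2,1], [3,1], [3,2], [4,2], [4,3], [5,3], [2,0,1], [3,0,1], [3,2,1], [4,2,1], [4,3,1]]

theorem words_ok : ((0 : Phi) :: wordList.map fun w => w.foldr tMap phi0).Nodup ∧
    wordList.all (fun w => w.all fun k => decide (k < 6)) = true := by decide +kernel

theorem card_le_of_closed (S : Finset Phi) (h0 : (0 : Phi) ∈ S) (hadd : ∀ a ∈ S, ∀ b ∈ S, a + b ∈ S)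
    (hT : ∀ k < 6, ∀ a ∈ S, tMap k a ∈ S) {φ : Phi} (hφ : φ ∈ S) (hne : φ ≠ 0) : 17 ≤ S.card := by
  have hd : ∀ n, ∀ ψ ∈ S, descend n ψ = true → phi0 ∈ S := by
    intro n
    induction n with
    | zero => exact fun ψ hψ h => of_decide_eq_true h ▸ hψ
    | succ n ih =>
      intro ψ hψ h
      simp only [descend, Bool.or_eq_true, decide_eq_true_eq, List.any_eq_true, Bool.and_eq_true] at h
      rcases h with h | ⟨k, hk, -, h⟩
      · exact h ▸ hψ
      · refine ih _ (hadd _ (hT k ?_ ψ hψ) _ hψ) h
        simp only [List.mem_cons, List.mem_nil_iff, or_false] at hk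
        omega
  have h1 := hd 3 φ hφ (descend_ok φ hne)
  obtain ⟨hnd, hlt⟩ := words_ok
  have hsub : ((0 : Phi) :: wordList.map fun w => w.foldr tMap phi0).toFinset ⊆ S := by
    intro a ha
    simp only [List.mem_toFinset, List.mem_cons, List.mem_map] at ha
    rcases ha with rfl | ⟨w, hw, rfl⟩
    · exact h0
    have hw' := List.all_eq_true.1 hlt w hw
    clear hw
    induction w with
    | nil => exact h1
    | cons k w ih =>
      rw [List.all_cons, Bool.and_eq_true, decide_eq_true_eq] at hw'
      exact hT k hw'.1 _ (ih hw'.2)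
  have := Finset.card_le_card hsub
  rw [List.toFinset_card_of_nodup hnd] at this
  exact this

end Cfsg.Lib.CoOneFused
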