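import Cfsg.Agent.Lib.Extra.CoOneUniq.FusedPairA

/-!
# No rank two

The second extraspecial subgroup gives at most sixteen maps from the middle to the line, not all zero,
closed under the stabilizer of the line.
-/

set_option autoImplicit false
set_option linter.style.haveILetI false
set_option linter.unusedSectionVars false
set_option maxRecDepth 100000

namespace Cfsg.Lib.CoOneFused

open Cfsg Module Cfsg.Lib.Linear.Orth Cfsg.Lib.Extra.Wide Cfsg.Lib.CoOneLocal
open scoped Matrix

theorem line_support : ∀ v : V8, ∀ i : I8, i ≠ Sum.inl 0 → i ≠ Sum.inl 1 → (gMap 6 v + v) i = 0 := by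
  decide +kernel

theorem mid_decomp : ∀ v : V8, gMap 6 v = v → v = v (midPos 0) • midVec 0 + v (midPos 1) • midVec 1 +
    v (midPos 2) • midVec 2 + v (midPos 3) • midVec 3 + v (Sum.inl 0) • ve 1 + v (Sum.inl 1) • ve 2 := by
  decide +kernel

theorem line_eq : ∀ a : Fin 3, gMap 6 (vf a.val) + vf a.val = if a.val = 1 then ve 2 else if a.val = 2 then ve 1 else 0 := by
  decide +kernel

theorem mid_fixed : ∀ k : Fin 7, ∀ m : Fin 4, gMap 6 (gMap k.val (midVec m)) = gMap k.val (midVec m) ∧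
    gMap 6 (midVec m) = midVec m := by decide +kernel

theorem nMap_conj {g N : GL I8 (ZMod 2)} (v : V8) :
    nMap (g * N * g⁻¹) v = g.val *ᵥ nMap N ((g⁻¹ : GL I8 (ZMod 2)).val *ᵥ v) := by
  rw [nMap_apply, nMap_apply, Matrix.mulVec_add, act_inv, mul_act, mul_act]

variable {G : Type*} [Group G] [Finite G] {D E : Act G}

/-- Two commuting conjugates are never in relative position of rank two. -/
theorem Duo.no_six (h : Duo D E) (h6 : finrank (ZMod 2) (D.fix E.z) = 6) : False := by
  classical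
  obtain ⟨t, ht, hN⟩ := h.exists_frame h6
  set E2 := E.Q ⊓ Subgroup.centralizer ({D.z} : Set G) with hE2
  have hxz : ∀ x : ↥E2, Commute (x : G) D.z := fun x => Subgroup.mem_centralizer_singleton_iff.1 x.2.2
  have hxw : ∀ x : ↥E2, Commute (x : G) E.z := fun x => (E.ctx.central x x.2.1).symm
  -- the fixed space in the coordinates
  have hfix : ∀ v : V8, gMap 6 v = v → (t⁻¹ : GL I8 (ZMod 2)).val *ᵥ v ∈ D.fix E.z := fun v hv => by
    refine mem_fixSpace.2 (act_injective t ?_)
    show t.val *ᵥ ((D.act E.z).val *ᵥ ((t⁻¹ : GL I8 (ZMod 2)).val *ᵥ v)) = t.val *ᵥ ((t⁻¹ : GL I8 (ZMod 2)).val *ᵥ v)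
    rw [← mul_act, ← mul_act, hN, act_inv]
    show gMat (6 : Fin 7).val *ᵥ v = v
    rw [gMat_map]
    exact hv
  have hline : ∀ v, t.val *ᵥ D.n E.z v = gMap 6 (t.val *ᵥ v) + t.val *ᵥ v := fun v => by
    have e := nMap_conj (g := t) (N := D.act E.z) (t.val *ᵥ v)
    rw [inv_act, hN, nMap_apply] at e
    rw [Act.n, ← e]
    show gMat (6 : Fin 7).val *ᵥ _ + _ = _
    rw [gMat_map]
    rfl
  let T : G → V8 → V8 := fun x v => nMap (t * D.act x * t⁻¹) v
  have hT : ∀ x v, T x v = t.val *ᵥ D.n x ((t⁻¹ : GL I8 (ZMod 2)).val *ᵥ v) := fun x v => nMap_conj v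
  have hrange : ∀ (x : ↥E2) (v : V8), v ∈ D.fix E.z → D.n x v ∈ LinearMap.range (D.n E.z) := by
    intro x v hv
    obtain ⟨a, ha, rfl⟩ := D.cls_surj v
    have haw := h.full h6 ha hv
    obtain ⟨hmQ, e⟩ := D.n_cls (hxz x) ha
    rw [← e]
    refine h.inter_range h6 hmQ ?_
    rw [show (x : G) * a * (x : G)⁻¹ * a⁻¹ = (x : G) * (a * (x : G)⁻¹ * a⁻¹) by group]
    exact mul_mem x.2.1 ((Subgroup.mem_normalizer_iff.1 (E.ctx.norm a haw) _).1 (inv_mem x.2.1))
  have hkill : ∀ (x : ↥E2) (u : V8), u ∈ LinearMap.range (D.n E.z) → D.n x u = 0 := by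
    intro x u hu
    obtain ⟨d, hdQ, hdR, rfl⟩ := h.exists_inter h6 hu
    exact D.n_of_commute (hxz x) hdQ (h.cross.inter_commute hdQ hdR x.2.1 (hxz x)).symm
  have hve : ∀ (x : ↥E2), T x (ve 1) = 0 ∧ T x (ve 2) = 0 := by
    intro x
    have key : ∀ a e, gMap 6 (vf a) + vf a = e → T x e = 0 := by
      intro a e he
      rw [hT, hkill x _ ⟨(t⁻¹ : GL I8 (ZMod 2)).val *ᵥ vf a, act_injective t (by
        show t.val *ᵥ D.n E.z _ = t.val *ᵥ _
        rw [hline, act_inv, act_inv, he])⟩, Matrix.mulVec_zero]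
    exact ⟨key 2 _ (line_eq 2), key 1 _ (line_eq 1)⟩
  -- the tables
  let ψ : ↥E2 → Phi := fun x => tabOf (T x)
  have hsupp : ∀ (x : ↥E2) (v : V8), gMap 6 v = v → ∀ i : I8, i ≠ Sum.inl 0 → i ≠ Sum.inl 1 → T x v i = 0 := by
    intro x v hv i h0 h1
    obtain ⟨p, hp⟩ := hrange x _ (hfix v hv)
    rw [hT, ← hp, hline]
    exact line_support _ i h0 h1
  have hrMap : ∀ (x : ↥E2) (v : V8), gMap 6 v = v → T x v = rMap (ψ x) v := by
    intro x v hv
    funext i
    by_cases hi : i = Sum.inl 0 ∨ i = Sum.inl 1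
    · conv_lhs => rw [mid_decomp v hv]
      obtain ⟨e1, e2⟩ := hve x
      simp only [T] at e1 e2 ⊢
      simp only [map_add, map_smul, e1, e2, smul_zero, add_zero, Pi.add_apply, Pi.smul_apply, smul_eq_mul]
      rcases hi with rfl | rfl <;> simp [rMap, ψ, tabOf, T]
    · rw [not_or] at hi
      rw [hsupp x v hv i hi.1 hi.2, rMap, if_neg hi.1, if_neg hi.2]
  have hmul : ∀ x y : ↥E2, ψ (x * y) = ψ x + ψ y := by
    intro x y
    funext m l
    have hm := hfix _ (mid_fixed 6 m).2
    show T ((x : G) * y) _ _ = T x _ _ + T y _ _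
    rw [hT, hT, hT, D.n_mul (hxz x) (hxz y), hkill x _ (hrange y _ hm), add_zero, Matrix.mulVec_add]
    rfl
  let Ψ : ↥E2 →* Multiplicative Phi := MonoidHom.mk' (fun x => Multiplicative.ofAdd (ψ x)) fun x y => by
    rw [hmul]; rfl
  let S : Finset Phi := Finset.univ.filter fun a => ∃ x, ψ x = a
  have hmem : ∀ a, a ∈ S ↔ ∃ x, ψ x = a := fun a => by simp [S]
  -- closed under the generators
  have hgen : ∀ k < 6, ∀ a ∈ S, tMap k a ∈ S := by
    intro k hk a ha
    obtain ⟨x, rfl⟩ := (hmem a).1 ha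
    obtain ⟨giso, gΩ⟩ := omega_gen D ⟨k, by omega⟩
    set g := gG ⟨k, by omega⟩ with hg
    have hgt : t⁻¹ * g * t ∈ Cfsg.Geo.omegaGL qp := by
      have := omega_conj (inv_mem ht) gΩ
      rwa [inv_inv] at this
    have hgN : Commute g (gG 6) := Units.ext (Cfsg.Lib.Linear.Orth.mat_ext fun v => by
      show (gMat k * gMat (6 : Fin 7).val) *ᵥ v = (gMat (6 : Fin 7).val * gMat k) *ᵥ v
      rw [← Matrix.mulVec_mulVec, ← Matrix.mulVec_mulVec, gMat_map 6, gMat_map 6, gMat_map ⟨k, by omega⟩,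
        gMat_map ⟨k, by omega⟩]
      exact gG_comm ⟨k, by omega⟩ v)
    obtain ⟨c, hcz, hcw, hc⟩ := h.exists_lift h6 hgt (by
      have e : D.act E.z = t⁻¹ * gG 6 * t := by rw [← hN]; group
      show t⁻¹ * g * t * D.act E.z = D.act E.z * (t⁻¹ * g * t)
      rw [e]
      calc t⁻¹ * g * t * (t⁻¹ * gG 6 * t) = t⁻¹ * (g * gG 6) * t := by group
        _ = _ := by rw [hgN.eq]; group)
    have hx' : c * x * c⁻¹ ∈ E2 := ⟨(Subgroup.mem_normalizer_iff.1 (E.ctx.norm c hcw) _).1 x.2.1,
      Subgroup.mem_centralizer_singleton_iff.2 ((hcz.mul_left (hxz x)).mul_left hcz.inv_left).eq⟩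
    refine (hmem _).2 ⟨⟨_, hx'⟩, ?_⟩
    funext m l
    have hinv : g⁻¹ = g := inv_eq_of_mul_eq_one_right (Units.ext (gMat_sq ⟨k, by omega⟩))
    have e : t * D.act (c * x * c⁻¹) * t⁻¹ = g * (t * D.act x * t⁻¹) * g⁻¹ := by
      have e1 : D.act (c * x * c⁻¹) = D.act c * D.act x * (D.act c)⁻¹ := by
        rw [eq_mul_inv_iff_mul_eq, ← D.act_mul _ _ ((hcz.mul_left (hxz x)).mul_left hcz.inv_left) hcz,
          inv_mul_cancel_right, D.act_mul _ _ hcz (hxz x)]
      rw [e1, hc]; group
    show nMap (t * D.act (c * x * c⁻¹) * t⁻¹) (midVec m) _ = tMap k (ψ x) m l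
    rw [e, nMap_conj, hinv]
    show (gMat k *ᵥ T x (gMat k *ᵥ midVec m)) _ = _
    rw [gMat_map ⟨k, by omega⟩, gMat_map ⟨k, by omega⟩, hrMap x _ (mid_fixed ⟨k, by omega⟩ m).1]
    rfl
  -- a non-zero table
  obtain ⟨y, hy, hy2, hyz⟩ := h.order_four_symm h6
  let yy : ↥E2 := ⟨y, hy, Subgroup.mem_centralizer_singleton_iff.2 hyz.eq⟩
  have hne : ψ yy ≠ 0 := by
    intro h0
    have hk : ∀ v ∈ D.fix E.z, D.n y v = 0 := by
      intro v hv
      have hv' : gMap 6 (t.val *ᵥ v) = t.val *ᵥ v := by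
        have := hline v
        rw [D.mem_fix.1 hv, Matrix.mulVec_zero] at this
        exact vadd_eq_zero this.symm
      have e := hrMap yy _ hv'
      rw [h0, hT, inv_act] at e
      refine act_injective t (e.trans ?_)
      funext i
      simp [rMap]
    have hsq : ∀ v, D.n (y * y) v = 0 := by
      intro v
      rw [D.n_mul hyz hyz, vadd_self, zero_add]
      refine hk _ (D.range_le_fix h.comm h.sq (D.mem_range_of_perp h.comm h.sq fun u hu => ?_))
      have := hk u hu
      rw [Act.n, nMap_eq_zero] at this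
      rw [Act.n, nMap_apply, map_add, LinearMap.add_apply]
      conv_lhs => arg 1; rw [← this]
      rw [D.space.B_act (D.act_iso hyz), bit_self]
    refine h.cross.not_fst ((D.act_ker _ h.comm).1 (gl_ext fun v => ?_))
    rw [Units.val_one, Matrix.one_mulVec, ← hy2]
    exact nMap_eq_zero.1 (hsq v)
  -- the bound
  have h17 : 17 ≤ S.card := card_le_of_closed S ((hmem 0).2 ⟨1, by
      have := hmul 1 1
      rw [one_mul] at this
      exact left_eq_add.1 this⟩) (fun a ha b hb => by
      obtain ⟨x, rfl⟩ := (hmem a).1 ha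
      obtain ⟨x', rfl⟩ := (hmem b).1 hb
      exact (hmem _).2 ⟨x * x', hmul x x'⟩) hgen ((hmem _).2 ⟨yy, rfl⟩) hne
  have hS : S.card ≤ Nat.card Ψ.range := by
    rw [← Nat.card_eq_finsetCard]
    refine Nat.card_le_card_of_injective (fun a => ⟨Multiplicative.ofAdd (a : Phi),
      ((hmem _).1 a.2).imp fun x hx => congrArg Multiplicative.ofAdd hx⟩) fun a b e => ?_
    have e' : Multiplicative.ofAdd (a : Phi) = Multiplicative.ofAdd (b : Phi) :=
      congrArg (fun s : Ψ.range => (s : Multiplicative Phi)) e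
    exact Subtype.ext (Multiplicative.ofAdd.injective e')
  have h128 : Nat.card ↥E2 ≤ 128 := by
    let χ : ↥E2 →* Multiplicative V8 := MonoidHom.mk' (fun x => Multiplicative.ofAdd (E.cls x)) fun a b => by
      rw [Subgroup.coe_mul, E.cls_mul _ a.2.1 _ b.2.1]; rfl
    have hr : Nat.card χ.range ≤ 64 := by
      have hc := Module.natCard_eq_pow_finrank (K := ZMod 2) (V := ↥(E.fix D.z))
      rw [h.six_symm h6, Nat.card_zmod] at hc
      rw [show (64 : ℕ) = 2 ^ 6 by norm_num, ← hc]
      refine Nat.card_le_card_of_injective (fun a => ⟨Multiplicative.toAdd (a : Multiplicative V8), ?_⟩)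
        fun a b e => by
          have e' : Multiplicative.toAdd (a : Multiplicative V8) = Multiplicative.toAdd (b : Multiplicative V8) :=
            congrArg (fun s : ↥(E.fix D.z) => (s : V8)) e
          exact Subtype.ext (Multiplicative.toAdd.injective e')
      obtain ⟨x, hx⟩ := a.2
      rw [← hx]
      exact h.symm.clsSub_le ⟨x, x.2.2, x.2.1, rfl⟩
    have hk2 : Nat.card χ.ker ≤ 2 := by
      refine (Nat.card_le_card_of_injective (fun a : χ.ker => decide (((a : ↥E2) : G) = 1)) ?_).trans (by simp)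
      intro a b e
      have hc : ∀ a : χ.ker, ((a : ↥E2) : G) = 1 ∨ ((a : ↥E2) : G) = E.z := fun a =>
        (E.cls_ker _ (a : ↥E2).2.1).1 (Multiplicative.ofAdd.injective (MonoidHom.mem_ker.1 a.2))
      refine Subtype.ext (Subtype.ext ?_)
      simp only [decide_eq_decide] at e
      rcases hc a with ha | ha
      · rw [ha, e.1 ha]
      · rcases hc b with hb | hb
        · rw [hb, e.2 hb]
        · rw [ha, hb]
    rw [Subgroup.card_eq_card_quotient_mul_card_subgroup χ.ker,
      Nat.card_congr (QuotientGroup.quotientKerEquivRange χ).toEquiv]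
    exact Nat.mul_le_mul hr hk2
  have h8 : 8 ≤ Nat.card Ψ.ker := by
    set W := LinearMap.range (D.n E.z)
    have hW : Nat.card ↥W = 4 := by
      have h' : finrank (ZMod 2) W + finrank (ZMod 2) (D.fix E.z) = 8 := D.range_add_fix E.z
      rw [Module.natCard_eq_pow_finrank (K := ZMod 2), Nat.card_zmod, show finrank (ZMod 2) W = 2 by omega]
      norm_num
    have hd : ∀ u : W, ∃ d, d ∈ D.Q ∧ d ∈ E.Q ∧ D.cls d = (u : V8) := fun u => h.exists_inter h6 u.2
    choose d hdQ hdR hdc using hd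
    let el : W × Bool → G := fun p => d p.1 * bif p.2 then E.z else 1
    have hel : ∀ p, el p ∈ E2 := fun p => by
      refine ⟨mul_mem (hdR p.1) (by cases p.2 <;> [exact one_mem _; exact E.ctx.mem]),
        Subgroup.mem_centralizer_singleton_iff.2 (Commute.eq ((D.ctx.central _ (hdQ p.1)).symm.mul_left ?_))⟩
      cases p.2
      exacts [Commute.one_left _, h.comm]
    have hker : ∀ p, (⟨el p, hel p⟩ : ↥E2) ∈ Ψ.ker := fun p => by
      refine MonoidHom.mem_ker.2 (congrArg Multiplicative.ofAdd (funext fun m => funext fun l => ?_))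
      show T (el p) (midVec m) _ = 0
      have hdz : Commute (d p.1) D.z := (D.ctx.central _ (hdQ p.1)).symm
      have hact : D.act (d p.1) = 1 := (D.act_ker _ hdz).2 (hdQ p.1)
      have hn0 : D.n (el p) ((t⁻¹ : GL I8 (ZMod 2)).val *ᵥ midVec m) = 0 := by
        cases hp : p.2
        · simp [el, hp, Act.n, nMap_eq_zero, hact]
        · rw [Act.n, nMap_eq_zero]
          simp only [el, hp, cond_true, D.act_mul _ _ hdz h.comm, hact, one_mul]
          exact mem_fixSpace.1 (hfix _ (mid_fixed 6 m).2)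
      rw [hT, hn0, Matrix.mulVec_zero]
      rfl
    have := Nat.card_le_card_of_injective (fun p : W × Bool => (⟨⟨el p, hel p⟩, hker p⟩ : Ψ.ker)) (by
      rintro ⟨u, a⟩ ⟨v, b⟩ e
      have e' : d u * (bif a then E.z else 1) = d v * (bif b then E.z else 1) :=
        congrArg Subtype.val (congrArg Subtype.val e)
      have hab : a = b := by
        by_contra hne'
        refine h.cross.not_fst ?_
        cases a <;> cases b <;> simp only [cond_true, cond_false, mul_one] at e'
        · exact absurd rfl hne'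
        · rw [show E.z = (d v)⁻¹ * d u by rw [e', inv_mul_cancel_left]]
          exact mul_mem (inv_mem (hdQ v)) (hdQ u)
        · rw [show E.z = (d u)⁻¹ * d v by rw [← e', inv_mul_cancel_left]]
          exact mul_mem (inv_mem (hdQ u)) (hdQ v)
        · exact absurd rfl hne'
      subst hab
      have e2 := mul_right_cancel e'
      exact Prod.ext (Subtype.ext (by rw [← hdc u, ← hdc v, e2])) rfl)
    rw [Nat.card_prod, hW, Nat.card_eq_fintype_card (α := Bool), Fintype.card_bool] at this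
    exact this
  have := Ψ.ker.card_mul_index
  rw [Subgroup.index_ker] at this
  nlinarith

end Cfsg.Lib.CoOneFused
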