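import Cfsg.Agent.Lib.Extra.CoOneUniq.FusedSetting
import Cfsg.Agent.Lib.Extra.CoOneUniq.FusedModel

/-!
# Two commuting conjugates are never in relative position of rank two

Otherwise all the conjugates in a coset of the extraspecial subgroup are conjugate under it, so the
whole stabilizer of a singular line acts on the image of the other extraspecial subgroup, which is too small.
-/

set_option autoImplicit false
set_option linter.style.haveILetI false
set_option linter.unusedSectionVars false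
set_option maxRecDepth 100000

namespace Cfsg.Lib.CoOneFused

open Cfsg Module Cfsg.Lib.Linear.Orth Cfsg.Lib.Extra.Wide Cfsg.Lib.CoOneLocal
open scoped Matrix

variable {G : Type*} [Group G] [Finite G]

theorem Act.B_eq (D : Act G) (u v : V8) : D.B u v = bf u v := by
  rw [← D.space.polar, QuadraticMap.polar, bf]
  simp only [qp, Cfsg.quadFormPlus, Pi.add_apply, ← Finset.sum_sub_distrib]
  exact Finset.sum_congr rfl fun i _ => by ring

theorem Act.mem_range_of_perp (D : Act G) {w : G} (hw : Commute w D.z) (h2 : w * w = 1) {a : V8}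
    (ha : ∀ v ∈ D.fix w, D.B a v = 0) : a ∈ LinearMap.range (D.n w) := by
  refine mem_of_perp D.space _ fun b hb => ha b (D.mem_fix.2 (D.space.nondeg' fun u => ?_))
  rw [D.B_n hw h2, D.space.symm]
  exact hb _ ⟨u, rfl⟩

variable {D E : Act G} (h : Duo D E)

include h

theorem Duo.order_four (h6 : finrank (ZMod 2) (D.fix E.z) = 6) :
    ∃ y ∈ D.Q, y * y = D.z ∧ Commute y E.z := by
  by_contra hcon
  push Not at hcon
  have := (h.singular fun y hy hc => (D.ctx.sq y hy).resolve_right fun e => hcon y hy e hc).2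
  omega

theorem Duo.exists_moved : ∃ a ∈ E.Q, ¬ Commute a D.z := by
  by_contra hcon
  push Not at hcon
  rcases E.ctx.cent D.z fun c hc => (hcon c hc).symm with e | e
  · exact D.ctx.ne_one e
  · exact h.cross.not_fst (e ▸ D.ctx.mem)

theorem Duo.order_four_symm (h6 : finrank (ZMod 2) (D.fix E.z) = 6) :
    ∃ y ∈ E.Q, y * y = E.z ∧ Commute y D.z := by
  obtain ⟨y, hy, hy2, hyw⟩ := h.order_four h6
  obtain ⟨a, ha, haz⟩ := h.exists_moved
  exact ⟨_, h.cross.comm_mem hyw ha, (h.cross.shape hy hy2 hyw ha haz).1, h.cross.rho_commute hy hy2 hyw ha⟩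

theorem Duo.six_symm (h6 : finrank (ZMod 2) (D.fix E.z) = 6) : finrank (ZMod 2) (E.fix D.z) = 6 := by
  obtain ⟨y, hy, hy2, hyw⟩ := h.order_four_symm h6
  exact h.symm.fix_six hy hy2 hyw

theorem Duo.exists_free (h6 : finrank (ZMod 2) (D.fix E.z) = 6) :
    ∃ q ∈ D.Q, D.n E.z (D.cls q) ≠ 0 := by
  by_contra hcon
  push Not at hcon
  have htop : D.fix E.z = ⊤ := eq_top_iff.2 fun v _ => by
    obtain ⟨q, hq, rfl⟩ := D.cls_surj v
    exact D.mem_fix.2 (hcon q hq)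
  rw [htop, finrank_top, finrank_fintype_fun_eq_card] at h6
  simp at h6

theorem Duo.moved_aux (h6 : finrank (ZMod 2) (D.fix E.z) = 6) {q : G} (hq : q ∈ D.Q)
    (hnc : ¬ Commute q E.z) :
    ∃ d ∈ D.Q, d ∈ E.Q ∧ q⁻¹ * E.z * q = E.z * (D.z * d) ∧ D.cls d = D.n E.z (D.cls q) := by
  obtain ⟨y, hy, hy2, hyz⟩ := h.order_four_symm h6
  obtain ⟨-, d, hdR, hdQ, e⟩ := h.cross.symm.shape hy hy2 hyz hq hnc
  have hconj : E.z * q * E.z⁻¹ ∈ D.Q := D.conj_mem_Q h.comm hq
  refine ⟨d, hdQ, hdR, ?_, ?_⟩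
  · have hdw : Commute E.z d := E.ctx.central d hdR
    calc q⁻¹ * E.z * q = q⁻¹ * (E.z * q * E.z) * E.z := by
          simp only [mul_assoc, E.ctx.sq_z, mul_one]
      _ = D.z * d * E.z := by rw [e]
      _ = E.z * (D.z * d) := ((h.comm.mul_right hdw).eq).symm
  · rw [← (D.n_cls h.comm hq).2, D.cls_mul _ hconj _ (inv_mem hq), add_comm,
      ← D.cls_mul _ (inv_mem hq) _ hconj, E.ctx.inv_z, e, D.cls_mul _ D.ctx.mem _ hdQ, D.cls_z, zero_add]

theorem Duo.no_wz (h6 : finrank (ZMod 2) (D.fix E.z) = 6) : ¬ IsConj D.z (E.z * D.z) := by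
  intro hwz
  obtain ⟨q, hq, hne⟩ := h.exists_free h6
  obtain ⟨d, hdQ, hdR, e, hcls⟩ := h.moved_aux h6 hq fun hc => hne (D.n_of_commute h.comm hq hc.symm)
  have e2 : q⁻¹ * (E.z * D.z) * q = E.z * d := by
    calc q⁻¹ * (E.z * D.z) * q = q⁻¹ * E.z * (D.z * q) := by simp only [mul_assoc]
      _ = q⁻¹ * E.z * q * D.z := by rw [(D.ctx.central q hq).eq]; simp only [mul_assoc]
      _ = E.z * (d * D.z * D.z) := by rw [e, (D.ctx.central d hdQ).eq]; simp only [mul_assoc]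
      _ = E.z * d := by rw [mul_assoc, D.ctx.sq_z, mul_one]
  have h1 : E.z * d = E.z := h.unf_snd ((h.fused.symm.trans hwz).trans
    (isConj_iff.2 ⟨q⁻¹, by rw [inv_inv, e2]⟩)) (mul_mem E.ctx.mem hdR)
  rw [mul_eq_left.1 h1, D.cls_one] at hcls
  exact hne hcls.symm

theorem Duo.moved (h6 : finrank (ZMod 2) (D.fix E.z) = 6) {q : G} (hq : q ∈ D.Q)
    (hnc : ¬ Commute q E.z) :
    ∃ d ∈ D.Q, d ∈ E.Q ∧ d ≠ 1 ∧ q⁻¹ * E.z * q = E.z * (D.z * d) ∧ D.cls d = D.n E.z (D.cls q) := by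
  obtain ⟨d, hdQ, hdR, e, hcls⟩ := h.moved_aux h6 hq hnc
  refine ⟨d, hdQ, hdR, fun hd => h.no_wz h6 ?_, e, hcls⟩
  rw [hd, mul_one] at e
  exact h.fused.trans (isConj_iff.2 ⟨q⁻¹, by rw [inv_inv, e]⟩)

theorem Duo.full (h6 : finrank (ZMod 2) (D.fix E.z) = 6) {q : G} (hq : q ∈ D.Q)
    (hfix : D.cls q ∈ D.fix E.z) : Commute q E.z := by
  by_contra hnc
  obtain ⟨d, hdQ, hdR, hd1, -, hcls⟩ := h.moved h6 hq hnc
  rw [D.mem_fix.1 hfix] at hcls
  rcases (D.cls_ker d hdQ).1 hcls with e | e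
  · exact hd1 e
  · exact h.cross.not_snd (e ▸ hdR)

theorem Duo.inter_range (h6 : finrank (ZMod 2) (D.fix E.z) = 6) {d : G} (hdQ : d ∈ D.Q) (hdR : d ∈ E.Q) :
    D.cls d ∈ LinearMap.range (D.n E.z) := by
  refine D.mem_range_of_perp h.comm h.sq fun v hv => ?_
  obtain ⟨a, ha, rfl⟩ := D.cls_surj v
  exact (D.cls_comm d hdQ a ha).1 (h.cross.symm.inter_commute hdR hdQ ha (h.full h6 ha hv))

theorem Duo.exists_inter (h6 : finrank (ZMod 2) (D.fix E.z) = 6) {u : V8}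
    (hu : u ∈ LinearMap.range (D.n E.z)) : ∃ d ∈ D.Q, d ∈ E.Q ∧ D.cls d = u := by
  obtain ⟨v, rfl⟩ := hu
  obtain ⟨q, hq, rfl⟩ := D.cls_surj v
  by_cases hc : Commute q E.z
  · exact ⟨1, one_mem _, one_mem _, by rw [D.cls_one, D.n_of_commute h.comm hq hc.symm]⟩
  · obtain ⟨d, h1, h2, -, -, e⟩ := h.moved h6 hq hc
    exact ⟨d, h1, h2, e⟩

theorem Duo.range_singular (h6 : finrank (ZMod 2) (D.fix E.z) = 6) {u : V8}
    (hu : u ∈ LinearMap.range (D.n E.z)) : qp u = 0 := by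
  obtain ⟨d, hdQ, hdR, rfl⟩ := h.exists_inter h6 hu
  exact (D.cls_sq d hdQ).1 (h.cross.inter_sq hdQ hdR)

/-- The conjugates in the coset are conjugate under `Q`. -/
theorem Duo.coset (h6 : finrank (ZMod 2) (D.fix E.z) = 6) {a : G} (ha : a ∈ D.Q)
    (hconj : IsConj D.z (E.z * a)) : ∃ q ∈ D.Q, q * E.z * q⁻¹ = E.z * a := by
  have haz : Commute a D.z := (D.ctx.central a ha).symm
  have hxz : Commute (E.z * a) D.z := h.comm.mul_left haz
  have hx2 : E.z * a * (E.z * a) = 1 := by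
    obtain ⟨g, hg⟩ := isConj_iff.1 hconj
    rw [← hg, show g * D.z * g⁻¹ * (g * D.z * g⁻¹) = g * (D.z * D.z) * g⁻¹ by group, D.ctx.sq_z]
    simp
  have hnz : D.n E.z (D.cls a) = 0 := by
    have e : E.z * a * E.z⁻¹ = a⁻¹ := by
      rw [E.ctx.inv_z]
      exact eq_inv_of_mul_eq_one_left (by rw [← hx2]; simp only [mul_assoc])
    rw [← (D.n_cls h.comm ha).2, e, D.cls_mul _ (inv_mem ha) _ (inv_mem ha), vadd_self]
  have haw : Commute a E.z := h.full h6 ha (D.mem_fix.2 hnz)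
  have hact : D.act (E.z * a) = D.act E.z := by
    rw [D.act_mul _ _ h.comm haz, (D.act_ker a haz).2 ha, mul_one]
  have hne : E.z * a ≠ D.z := fun e => h.cross.not_fst (by
    rw [← mul_inv_cancel_right E.z a, e]; exact mul_mem D.ctx.mem (inv_mem ha))
  obtain ⟨E', hE', h'⟩ := exists_duo h.cross.fst hconj hne hxz
  have h6' : finrank (ZMod 2) (D.fix E'.z) = 6 := by rw [hE', Act.fix, hact]; exact h6
  have hperp : ∀ v ∈ D.fix E.z, D.B (D.cls a) v = 0 := by
    intro v hv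
    obtain ⟨q, hq, rfl⟩ := D.cls_surj v
    have h1 := h'.full h6' hq (by rw [hE', Act.fix, hact]; exact hv)
    rw [hE'] at h1
    have h2 : Commute q a := by
      simpa using ((h.full h6 hq hv).inv_right).mul_right h1
    exact (D.cls_comm a ha q hq).1 h2.symm
  obtain ⟨v, hv⟩ := D.mem_range_of_perp h.comm h.sq hperp
  obtain ⟨q, hq, rfl⟩ := D.cls_surj v
  by_cases h0 : D.cls a = 0
  · rcases (D.cls_ker a ha).1 h0 with e | e
    · exact ⟨1, one_mem _, by rw [e]; simp⟩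
    · exact absurd (e ▸ hconj) (h.no_wz h6)
  obtain ⟨d, hdQ, hdR, -, e, hcls⟩ := h.moved h6 hq fun hc => h0 (by
    rw [← hv, D.n_of_commute h.comm hq hc.symm])
  rw [hv] at hcls
  rcases D.cls_eq hdQ ha hcls with e' | e'
  · exfalso
    have h1 : E.z * a = E.z := h.unf_snd (h.fused.symm.trans hconj) (mul_mem E.ctx.mem (e' ▸ hdR))
    exact h0 (by rw [mul_eq_left.1 h1, D.cls_one])
  · exact ⟨q⁻¹, inv_mem hq, by rw [inv_inv, e, e']⟩

/-- The elements of `Ω` commuting with the action of the involution lift to its centralizer. -/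
theorem Duo.exists_lift (h6 : finrank (ZMod 2) (D.fix E.z) = 6) {g : GL I8 (ZMod 2)}
    (hg : g ∈ Cfsg.Geo.omegaGL qp) (hcomm : Commute g (D.act E.z)) :
    ∃ c, Commute c D.z ∧ Commute c E.z ∧ D.act c = g := by
  obtain ⟨c, hc, rfl⟩ := D.act_surj g hg
  have hcw : Commute (c * E.z) D.z := hc.mul_left h.comm
  have hwc : Commute (E.z * c) D.z := h.comm.mul_left hc
  have hk : (E.z * c)⁻¹ * (c * E.z) ∈ D.Q := by
    refine (D.act_ker _ (hwc.inv_left.mul_left hcw)).1 (mul_left_cancel (a := D.act (E.z * c)) ?_)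
    rw [← D.act_mul _ _ hwc (hwc.inv_left.mul_left hcw), mul_inv_cancel_left, mul_one,
      D.act_mul _ _ hc h.comm, D.act_mul _ _ h.comm hc, hcomm.eq]
  set a := c * ((E.z * c)⁻¹ * (c * E.z)) * c⁻¹ with ha
  have e : c * E.z * c⁻¹ = E.z * a := by rw [ha]; group
  obtain ⟨q, hq, hqe⟩ := h.coset h6 (D.conj_mem_Q hc hk)
    (h.fused.trans (isConj_iff.2 ⟨c, e⟩))
  have hqz : Commute q⁻¹ D.z := (D.ctx.central q hq).symm.inv_left
  refine ⟨q⁻¹ * c, hqz.mul_left hc, mul_inv_eq_iff_eq_mul.1 ?_, ?_⟩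
  · calc q⁻¹ * c * E.z * (q⁻¹ * c)⁻¹ = q⁻¹ * (c * E.z * c⁻¹) * q := by group
      _ = E.z := by rw [e, ← hqe]; group
  · rw [D.act_mul _ _ hqz hc, (D.act_ker _ hqz).2 (inv_mem hq), one_mul]

omit h

theorem gMap_six (v : V8) :
    gMap 6 v = v + v (Sum.inr 1) • ve 1 + v (Sum.inr 0) • ve 2 := by
  revert v
  decide +kernel

theorem coord_facts : ∀ v : V8, bf v (ve 1) = v (Sum.inr 0) ∧ bf v (ve 2) = v (Sum.inr 1) := by
  decide +kernel

theorem ve_facts : (ve 1 ≠ 0 ∧ ve 2 ≠ 0 ∧ ve 2 ≠ ve 1) ∧ bf (vf 1) (ve 1) = 1 ∧ bf (vf 1) (ve 2) = 0 ∧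
    bf (vf 2) (ve 1) = 0 ∧ bf (vf 2) (ve 2) = 1 := by decide +kernel

theorem omega_gen (D : Act G) (k : Fin 7) :
    gG k ∈ isometryGroup (ZMod 2) qp ∧ gG k ∈ Cfsg.Geo.omegaGL qp := by
  have hiso : gG k ∈ isometryGroup (ZMod 2) qp := mem_iso.2 fun v => by
    show qp (gMat k.val *ᵥ v) = _
    rw [gMat_map]; exact gG_iso k v
  refine ⟨hiso, (mem_omega_iff D.space (by simp) ⟨4, by simp⟩ hiso).2 ?_⟩
  have hc : Nat.card ↥(fixSpace (gG k) : Submodule (ZMod 2) V8) = 64 := by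
    classical
    rw [← gG_fix k, ← Nat.card_eq_finsetCard]
    refine Nat.card_congr (Equiv.subtypeEquivRight fun v => ?_)
    rw [Finset.mem_filter, mem_fixSpace]
    show gMat k.val *ᵥ v = v ↔ _
    rw [gMat_map]
    exact ⟨fun e => ⟨Finset.mem_univ _, e⟩, fun e => e.2⟩
  have h2 := Module.natCard_eq_pow_finrank (K := ZMod 2) (V := ↥(fixSpace (gG k) : Submodule (ZMod 2) V8))
  rw [hc, Nat.card_zmod] at h2
  have : finrank (ZMod 2) ↥(fixSpace (gG k) : Submodule (ZMod 2) V8) = 6 :=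
    (Nat.pow_right_injective (le_refl 2) (h2.symm.trans (show 64 = 2 ^ 6 by norm_num)))
  exact ⟨3, this⟩

include h

/-- Coordinates in which the second involution is the long root element. -/
theorem Duo.exists_frame (h6 : finrank (ZMod 2) (D.fix E.z) = 6) :
    ∃ t ∈ isometryGroup (ZMod 2) qp, t * D.act E.z * t⁻¹ = gG 6 := by
  set W := LinearMap.range (D.n E.z)
  have hW2 : finrank (ZMod 2) W = 2 := by
    have h' : finrank (ZMod 2) W + finrank (ZMod 2) (D.fix E.z) = 8 := D.range_add_fix E.z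
    omega
  let b := Module.finBasisOfFinrankEq (ZMod 2) W hW2
  have hs : ∀ v : W, qp (v : V8) = 0 := fun v => h.range_singular h6 v.2
  have hb0 : ((b 0 : W) : V8) ≠ 0 := fun e => b.ne_zero 0 (Subtype.ext e)
  obtain ⟨t₁, ht₁, -, he1⟩ := witt_step D.space (⊥ : Submodule (ZMod 2) V8) (x := (b 0 : V8)) (x' := ve 1)
    (fun e => hb0 ((Submodule.mem_bot _).1 e)) (fun e => ve_facts.1.1 ((Submodule.mem_bot _).1 e))
    ((hs _).trans (qp_ve 1).symm) (by simp)
  have hB : D.B (b 0 : V8) (b 1 : V8) = 0 := by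
    have := D.space.add (b 0 : V8) (b 1 : V8)
    rw [← Submodule.coe_add, hs, hs, hs, zero_add, zero_add] at this
    exact this.symm
  obtain ⟨t₂, ht₂, hfix, he2⟩ := witt_step D.space (Submodule.span (ZMod 2) {ve 1})
    (x := t₁.val *ᵥ (b 1 : V8)) (x' := ve 2)
    (fun e => by
      obtain ⟨c, hc⟩ := Submodule.mem_span_singleton.1 e
      rw [← he1, ← Matrix.mulVec_smul] at hc
      have hc' : (c • b 0 : W) = b 1 := Subtype.ext (act_injective t₁ hc)
      have := b.repr.injective.eq_iff.2 hc'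
      rw [map_smul, b.repr_self, b.repr_self] at this
      have h1 := congrArg (fun f : Fin 2 →₀ ZMod 2 => f 1) this
      simp at h1)
    (fun e => by
      obtain ⟨c, hc⟩ := Submodule.mem_span_singleton.1 e
      rcases bit c with rfl | rfl
      · exact ve_facts.1.2.1 (by rw [← hc, zero_smul])
      · exact ve_facts.1.2.2 (by rw [← hc, one_smul]))
    (by rw [mem_iso.1 ht₁, hs]; exact (qp_ve 2).symm)
    (fun u hu => by
      obtain ⟨c, rfl⟩ := Submodule.mem_span_singleton.1 hu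
      have h1 : D.B (ve 1) (t₁.val *ᵥ (b 1 : V8)) = 0 := by rw [← he1, D.space.B_act ht₁, hB]
      simp [h1, D.B_eq, bf_ve_ve])
  refine ⟨t₂ * t₁, mul_mem ht₂ ht₁, ?_⟩
  set N := t₂ * t₁ * D.act E.z * (t₂ * t₁)⁻¹ with hN
  have hNiso : N ∈ isometryGroup (ZMod 2) qp :=
    mul_mem (mul_mem (mul_mem ht₂ ht₁) (D.act_iso h.comm)) (inv_mem (mul_mem ht₂ ht₁))
  have hN2 : N * N = 1 := by
    rw [hN, conj_mul, D.act_sq h.comm h.sq]; simp
  have hNr : ∀ v, nMap N v = D.B v (nMap N (vf 1)) • ve 1 + D.B v (nMap N (vf 2)) • ve 2 := by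
    intro v
    have hm : nMap N v = (t₂ * t₁).val *ᵥ D.n E.z ((t₂ * t₁)⁻¹.val *ᵥ v) := by
      rw [Act.n, nMap_apply, nMap_apply, Matrix.mulVec_add, act_inv, hN, mul_act, mul_act]
    obtain ⟨c0, c1, hc⟩ : ∃ c0 c1 : ZMod 2, nMap N v = c0 • ve 1 + c1 • ve 2 := by
      let u : W := ⟨D.n E.z ((t₂ * t₁)⁻¹.val *ᵥ v), _, rfl⟩
      have hu := b.sum_repr u
      rw [Fin.sum_univ_two] at hu
      obtain ⟨c0, c1, hu⟩ : ∃ c0 c1 : ZMod 2, c0 • b 0 + c1 • b 1 = u := ⟨_, _, hu⟩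
      refine ⟨c0, c1, ?_⟩
      rw [hm, show D.n E.z ((t₂ * t₁)⁻¹.val *ᵥ v) = (u : V8) from rfl, ← hu, Submodule.coe_add,
        SetLike.val_smul, SetLike.val_smul, Matrix.mulVec_add, Matrix.mulVec_smul, Matrix.mulVec_smul,
        mul_act, mul_act, he1, hfix _ (Submodule.mem_span_singleton_self _), he2]
    obtain ⟨-, f11, f12, f21, f22⟩ := ve_facts
    rw [← D.B_eq] at f11 f12 f21 f22
    rw [← B_nMap D.space hNiso hN2, ← B_nMap D.space hNiso hN2, hc]
    simp only [map_add, map_smul, LinearMap.add_apply, LinearMap.smul_apply, smul_eq_mul,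
      D.space.symm (ve 1), D.space.symm (ve 2), f11, f12, f21, f22, mul_one, mul_zero, add_zero, zero_add]
  obtain ⟨α, β, hα⟩ : ∃ α β, nMap N (vf 1) = α • ve 1 + β • ve 2 := ⟨_, _, hNr _⟩
  obtain ⟨γ, δ, hγ⟩ : ∃ γ δ, nMap N (vf 2) = γ • ve 1 + δ • ve 2 := ⟨_, _, hNr _⟩
  obtain ⟨-, f11, f12, f21, f22⟩ := ve_facts
  rw [← D.B_eq] at f11 f12 f21 f22
  have hself : ∀ x, (∀ c d : ZMod 2, qp (c • ve 1 + d • ve 2) = 0) → D.B x (nMap N x) = 0 := by
    intro x hz
    rw [D.space.symm, ← Q_nMap D.space hNiso, hNr, hz]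
  have hzero : ∀ c d : ZMod 2, qp (c • ve 1 + d • ve 2) = 0 := by decide +kernel
  have ha0 : α = 0 := by
    have := hself (vf 1) hzero
    simpa [hα, map_add, map_smul, f11, f12] using this
  have hd0 : δ = 0 := by
    have := hself (vf 2) hzero
    simpa [hγ, map_add, map_smul, f21, f22] using this
  have hbg : β = γ := by
    have := B_nMap D.space hNiso hN2 (vf 1) (vf 2)
    rw [hγ, hα, ha0, hd0, D.space.symm (_ + _)] at this
    simpa [map_add, map_smul, f11, f12, f21, f22] using this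
  have hb1 : β = 1 := (bit β).resolve_left fun e => h.cross.not_fst ((D.act_ker _ h.comm).1 (by
    have h1 : N = 1 := gl_ext fun v => by
      rw [Units.val_one, Matrix.one_mulVec]
      refine nMap_eq_zero.1 ?_
      rw [hNr v, hα, hγ, ha0, hd0, ← hbg, e]
      simp
    rw [hN] at h1
    exact conj_eq_one_iff.1 h1))
  refine gl_ext fun v => ?_
  show N.val *ᵥ v = gMat (6 : Fin 7).val *ᵥ v
  rw [gMat_map 6 v]
  show _ = gMap 6 v
  rw [gMap_six]
  have hv := hNr v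
  rw [hα, hγ, ha0, hd0, ← hbg, hb1, nMap_apply] at hv
  simp only [zero_smul, one_smul, zero_add, add_zero, D.B_eq, (coord_facts v).1, (coord_facts v).2] at hv
  rw [add_assoc, ← hv, ← add_assoc, add_comm v, add_assoc, vadd_self, add_zero]

end Cfsg.Lib.CoOneFused
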