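import Cfsg.Agent.Lib.Extra.CoOneUniq.FusedNoSix

/-!
# Two commuting conjugates in relative position of rank four

If some element of one subgroup moves the other involution into its own coset by the centre, every
element of that subgroup commuting with the other involution acts with rank four, and there are too
many of them.
-/

set_option autoImplicit false
set_option linter.style.haveILetI false
set_option linter.unusedSectionVars false
set_option maxRecDepth 100000

namespace Cfsg.Lib.CoOneFused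

open Cfsg Module Cfsg.Lib.Linear.Orth Cfsg.Lib.Extra.Wide Cfsg.Lib.CoOneLocal
open scoped Matrix

variable {G : Type*} [Group G] [Finite G]

/-- Every commuting conjugate acts with rank four. -/
theorem rank_four {D : Act G} (hU : Cfsg.Lib.Extra.Unf D.Q D.z) {x : G} (hx : IsConj D.z x) (hne : x ≠ D.z)
    (hc : Commute x D.z) : x ∉ D.Q ∧ finrank (ZMod 2) (D.fix x) = 4 := by
  obtain ⟨E, rfl, h⟩ := exists_duo hU hx hne hc
  exact ⟨h.cross.not_fst, (D.fix_cases h.comm h.sq h.cross.not_fst).resolve_right fun h6 => h.no_six h6⟩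

variable {D E : Act G} (h : Duo D E)

include h

theorem Duo.four : finrank (ZMod 2) (D.fix E.z) = 4 :=
  (D.fix_cases h.comm h.sq h.cross.not_fst).resolve_right fun h6 => h.no_six h6

theorem Duo.elem {y : G} (hy : y ∈ D.Q) (hc : Commute y E.z) : y * y = 1 :=
  (D.ctx.sq y hy).resolve_right fun e => h.no_six (h.fix_six hy e hc)

theorem Duo.range_eq : LinearMap.range (D.n E.z) = D.fix E.z :=
  Submodule.eq_of_le_of_finrank_eq (D.range_le_fix h.comm h.sq) (by
    have h' : finrank (ZMod 2) (LinearMap.range (D.n E.z)) + finrank (ZMod 2) (D.fix E.z) = 8 :=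
      D.range_add_fix E.z
    have := h.four
    omega)

omit h

/-- The commutator of an element with the other involution. -/
def sEl (D : Act G) (r : G) : G := D.z * r * D.z⁻¹ * r⁻¹

theorem sEl_mul (a b : G) : sEl D (a * b) = sEl D a * (a * sEl D b * a⁻¹) := by
  simp only [sEl]; group

theorem conj_eq (r : G) : r * D.z * r⁻¹ = D.z * sEl D r := by
  have e : D.z * sEl D r = D.z * D.z * r * D.z⁻¹ * r⁻¹ := by simp only [sEl, mul_assoc]
  rw [e, D.ctx.sq_z, one_mul, D.ctx.inv_z]

include h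

theorem Duo.sEl_cls {r : G} (hr : r ∈ E.Q) :
    sEl D r ∈ E.Q ∧ E.cls (sEl D r) = E.n D.z (E.cls r) := E.n_cls h.cross.comm hr

/-- An element of the other subgroup whose commutator is not trivial gives a conjugate of rank four. -/
theorem Duo.sEl_four {r : G} (hne : sEl D r ≠ 1) (hc : Commute (sEl D r) D.z) :
    sEl D r ∉ D.Q ∧ finrank (ZMod 2) (D.fix (sEl D r)) = 4 := by
  have hconj : IsConj D.z (D.z * sEl D r) := isConj_iff.2 ⟨r, conj_eq r⟩
  have hne' : D.z * sEl D r ≠ D.z := fun e => hne (mul_eq_left.1 e)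
  have hcz : Commute (D.z * sEl D r) D.z := (Commute.refl _).mul_left hc
  obtain ⟨h1, h2⟩ := rank_four h.cross.fst hconj hne' hcz
  refine ⟨fun hm => h1 (mul_mem D.ctx.mem hm), ?_⟩
  rwa [Act.fix, D.act_mul _ _ (Commute.refl _) hc, (D.act_ker _ (Commute.refl _)).2 D.ctx.mem, one_mul] at h2

theorem Duo.cross_comm {a e : G} (ha : a ∈ D.Q) (haw : Commute a E.z) (he : e ∈ E.Q) (hez : Commute e D.z) :
    e * a * e⁻¹ * a⁻¹ ∈ D.Q ∧ e * a * e⁻¹ * a⁻¹ ∈ E.Q := by
  refine ⟨mul_mem (D.conj_mem_Q hez ha) (inv_mem ha), ?_⟩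
  rw [show e * a * e⁻¹ * a⁻¹ = e * (a * e⁻¹ * a⁻¹) by group]
  exact mul_mem he (E.conj_mem_Q haw (inv_mem he))

/-- No element moves the other involution by the centre. -/
theorem Duo.no_extra {r : G} (hr : r ∈ E.Q) (hmove : ¬ Commute r D.z) (hfix : E.n D.z (E.cls r) = 0) :
    False := by
  classical
  obtain ⟨hsQ, hscls⟩ := h.sEl_cls hr
  have hsw : sEl D r = E.z := by
    rw [hfix] at hscls
    refine ((E.cls_ker _ hsQ).1 hscls).resolve_left fun e => hmove ?_
    exact (mul_inv_eq_iff_eq_mul.1 (mul_inv_eq_one.1 e) : D.z * r = r * D.z).symm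
  set E2 := E.Q ⊓ Subgroup.centralizer ({D.z} : Set G) with hE2
  have hxz : ∀ {e : G}, e ∈ E2 → Commute e D.z := fun he => Subgroup.mem_centralizer_singleton_iff.1 he.2
  have hrank : ∀ e ∈ E2, e ≠ 1 → e ∉ D.Q ∧ finrank (ZMod 2) (D.fix e) = 4 := by
    intro e he he1
    obtain ⟨v, hv⟩ : E.cls e ∈ LinearMap.range (E.n D.z) := by
      rw [h.symm.range_eq]
      exact h.symm.clsSub_le ⟨e, he.2, he.1, rfl⟩
    obtain ⟨p, hp, rfl⟩ := E.cls_surj v
    obtain ⟨hpQ, hpc⟩ := h.sEl_cls hp
    obtain ⟨s, -, hs⟩ : ∃ s, True ∧ sEl D s = e := by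
      rcases E.cls_eq hpQ he.1 (hpc.trans hv) with e1 | e1
      · exact ⟨p, trivial, e1.symm⟩
      · refine ⟨p * r, trivial, ?_⟩
        rw [sEl_mul, hsw, ← (E.ctx.central p hp).eq, mul_inv_cancel_right, e1]
        exact ((E.ctx.central _ hpQ).eq).symm
    rw [← hs]
    exact h.sEl_four (hs ▸ he1) (hs ▸ hxz he)
  have hD : ∀ d, d ∈ D.Q → d ∈ E.Q → d = 1 := fun d hd hd' => by
    by_contra hd1
    exact (hrank d ⟨hd', Subgroup.mem_centralizer_singleton_iff.2 (D.ctx.central d hd).symm.eq⟩ hd1).1 hd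
  set H := D.clsSub (Subgroup.centralizer ({E.z} : Set G)) with hH
  have hkill : ∀ {e : G}, e ∈ E2 → ∀ u ∈ H, D.n e u = 0 := by
    rintro e he _ ⟨a, ha, haQ, rfl⟩
    obtain ⟨h1, h2⟩ := h.cross_comm haQ (Subgroup.mem_centralizer_singleton_iff.1 ha) he.1 (hxz he)
    exact (D.n_eq_zero (hxz he) haQ).2 (Or.inl (mul_inv_eq_one.1 (hD _ h1 h2)))
  have hmap : ∀ {e : G}, e ∈ E2 → ∀ v, D.n E.z v ∈ H → D.n e v ∈ H := by
    intro e he v hv
    obtain ⟨q, hq, rfl⟩ := D.cls_surj v
    obtain ⟨a, ha, haQ, hac⟩ := hv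
    obtain ⟨hsQ', hscls'⟩ := D.n_cls h.comm hq
    have hsc : Commute (E.z * q * E.z⁻¹ * q⁻¹) E.z := by
      rcases D.cls_eq haQ hsQ' (hac.trans hscls'.symm) with e1 | e1 <;> rw [e1]
      · exact Subgroup.mem_centralizer_singleton_iff.1 ha
      · exact h.cross.comm.mul_left (Subgroup.mem_centralizer_singleton_iff.1 ha)
    set s := E.z * q * E.z⁻¹ * q⁻¹ with hs
    have hes : Commute e s := mul_inv_eq_iff_eq_mul.1 (mul_inv_eq_one.1 (hD _
      (h.cross_comm hsQ' hsc he.1 (hxz he)).1 (h.cross_comm hsQ' hsc he.1 (hxz he)).2))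
    have hew : Commute e E.z := (E.ctx.central e he.1).symm
    have hconj : Commute (q * e * q⁻¹) E.z := by
      have h1 : Commute e (q⁻¹ * E.z * q) := by
        have e2 : q⁻¹ * E.z * q = q⁻¹ * s * q * E.z := by rw [hs]; group
        have h2 : Commute e (q⁻¹ * s * q) := by
          rcases D.ctx.conj_cases' hq hsQ' with e3 | e3 <;> rw [e3]
          · exact hes
          · exact (hxz he).mul_right hes
        rw [e2]
        exact h2.mul_right hew
      have := (Commute.conj_iff q).2 h1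
      rwa [show q * (q⁻¹ * E.z * q) * q⁻¹ = E.z by group] at this
    obtain ⟨hkQ, hkc⟩ := D.n_cls (hxz he) hq
    refine ⟨_, Subgroup.mem_centralizer_singleton_iff.2 (Commute.eq ?_), hkQ, hkc⟩
    rw [show e * q * e⁻¹ * q⁻¹ = e * (q * e⁻¹ * q⁻¹) by group]
    refine hew.mul_left ?_
    rw [show q * e⁻¹ * q⁻¹ = (q * e * q⁻¹)⁻¹ by group]
    exact hconj.inv_left
  have hsq : ∀ {e : G}, e ∈ E2 → e * e = 1 := fun he => h.symm.elem he.1 (hxz he)
  have hrf : ∀ {e : G}, e ∈ E2 → e ≠ 1 → LinearMap.range (D.n e) = D.fix e := fun {e} he h1 =>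
    Submodule.eq_of_le_of_finrank_eq (D.range_le_fix (hxz he) (hsq he)) (by
      have h' : finrank (ZMod 2) (LinearMap.range (D.n e)) + finrank (ZMod 2) (D.fix e) = 8 := D.range_add_fix e
      have := (hrank e he h1).2
      omega)
  have hHle : ∀ {e : G}, e ∈ E2 → H ≤ D.fix e := fun he u hu => D.mem_fix.2 (hkill he u hu)
  have hcard : 16 ≤ Nat.card ↥E2 := by
    set H' := E.clsSub (Subgroup.centralizer ({D.z} : Set G)) with hH'
    have h1 : 8 ≤ Nat.card ↥H' := by
      have h3 : finrank (ZMod 2) (E.fix D.z) ≤ finrank (ZMod 2) H' + 1 := h.symm.fix_le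
      rw [h.symm.four] at h3
      rw [Module.natCard_eq_pow_finrank (K := ZMod 2), Nat.card_zmod]
      calc 8 = 2 ^ 3 := by norm_num
        _ ≤ _ := Nat.pow_le_pow_right (by norm_num) (by omega)
    have hex : ∀ u : H', ∃ a, a ∈ Subgroup.centralizer ({D.z} : Set G) ∧ a ∈ E.Q ∧ E.cls a = (u : V8) :=
      fun u => u.2
    choose a haz haQ hac using hex
    have := Nat.card_le_card_of_injective (fun p : H' × Bool => (⟨a p.1 * bif p.2 then E.z else 1,
      mul_mem ⟨haQ p.1, haz p.1⟩ (by cases p.2 <;> [exact one_mem _; exact ⟨E.ctx.mem,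
        Subgroup.mem_centralizer_singleton_iff.2 h.comm.eq⟩])⟩ : ↥E2)) (by
      rintro ⟨u, s⟩ ⟨v, t⟩ e
      have e' : a u * (bif s then E.z else 1) = a v * (bif t then E.z else 1) := congrArg Subtype.val e
      have hb : ∀ b : Bool, E.cls (bif b then E.z else 1) = 0 ∧ (bif b then E.z else 1) ∈ E.Q := fun b => by
        cases b
        exacts [⟨E.cls_one, one_mem _⟩, ⟨E.cls_z, E.ctx.mem⟩]
      have huv : u = v := by
        have e2 := congrArg E.cls e'
        rw [E.cls_mul _ (haQ u) _ (hb s).2, E.cls_mul _ (haQ v) _ (hb t).2, (hb s).1, (hb t).1, add_zero,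
          add_zero, hac, hac] at e2
        exact Subtype.ext e2
      subst huv
      have e3 := mul_left_cancel e'
      refine Prod.ext rfl ?_
      cases s <;> cases t <;> simp only [cond_true, cond_false] at e3 ⊢
      · exact absurd e3.symm E.ctx.ne_one
      · exact absurd e3 E.ctx.ne_one)
    rw [Nat.card_prod, Nat.card_eq_fintype_card (α := Bool), Fintype.card_bool] at this
    omega
  have hne : ∀ {x y : ↥E2}, x ≠ y → (x : G) * y ≠ 1 := fun {x y} hxy e => hxy (Subtype.ext (by
    rw [eq_inv_of_mul_eq_one_left e, inv_eq_of_mul_eq_one_right (hsq y.2)]))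
  have hHW : H ≤ D.fix E.z := h.clsSub_le
  have hH4 : finrank (ZMod 2) H ≤ 4 := h.four ▸ Submodule.finrank_mono hHW
  have hH3 : 3 ≤ finrank (ZMod 2) H := by
    have h3 : finrank (ZMod 2) (D.fix E.z) ≤ finrank (ZMod 2) H + 1 := h.fix_le
    rw [h.four] at h3
    omega
  have horth : finrank (ZMod 2) (D.B.orthogonal H) + finrank (ZMod 2) H = 8 := by
    have h5 : finrank (ZMod 2) (D.B.orthogonal H) + finrank (ZMod 2) H = Fintype.card I8 :=
      finrank_orth D.space H
    simpa using h5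
  have hmem : ∀ {e : G}, e ∈ E2 → ∀ v, D.n e v ∈ D.B.orthogonal H := fun {e} he v u hu => by
    show D.B u (D.n e v) = 0
    rw [← D.B_n (hxz he) (hsq he), hkill he u hu, map_zero, LinearMap.zero_apply]
  rcases (show finrank (ZMod 2) H = 4 ∨ finrank (ZMod 2) H = 3 by omega) with h4 | h3
  · have hfixe : ∀ {e : G}, e ∈ E2 → e ≠ 1 → D.fix e = H := fun {e} he h1 =>
      (Submodule.eq_of_le_of_finrank_eq (hHle he) (by rw [h4, (hrank e he h1).2])).symm
    obtain ⟨v₀, hv₀⟩ : ∃ v₀, v₀ ∉ H := by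
      by_contra hcon
      push Not at hcon
      rw [show H = ⊤ from eq_top_iff.2 fun v _ => hcon v, finrank_top, finrank_fintype_fun_eq_card] at h4
      simp at h4
    let K : Submodule (ZMod 2) V8 := H ⊓ LinearMap.ker (D.B v₀)
    have hK : finrank (ZMod 2) K ≤ 3 := by
      have hlt : K < H := lt_of_le_of_ne inf_le_left fun e => hv₀ (by
        have hperp : v₀ ∈ D.B.orthogonal H := fun u hu => by
          show D.B u v₀ = 0
          rw [D.space.symm]
          exact LinearMap.mem_ker.1 (e.ge hu).2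
        have heq : H = D.B.orthogonal H := Submodule.eq_of_le_of_finrank_eq (fun u hu u' hu' => by
          obtain ⟨a, ha, haQ, rfl⟩ := hu
          obtain ⟨b, hb, hbQ, rfl⟩ := hu'
          show D.B (D.cls b) (D.cls a) = 0
          have hab := h.elem (mul_mem hbQ haQ) ((Subgroup.mem_centralizer_singleton_iff.1 (mul_mem hb ha)))
          have e2 := D.space.add (D.cls b) (D.cls a)
          rw [← D.cls_mul b hbQ a haQ, (D.cls_sq _ (mul_mem hbQ haQ)).1 hab,
            (D.cls_sq _ hbQ).1 (h.elem hbQ (Subgroup.mem_centralizer_singleton_iff.1 hb)),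
            (D.cls_sq _ haQ).1 (h.elem haQ (Subgroup.mem_centralizer_singleton_iff.1 ha)), zero_add, zero_add] at e2
          exact e2.symm) (by omega)
        exact heq.ge hperp)
      have := Submodule.finrank_lt_finrank_of_lt hlt
      omega
    have hK8 : Nat.card ↥K ≤ 8 := by
      rw [Module.natCard_eq_pow_finrank (K := ZMod 2), Nat.card_zmod]
      exact (Nat.pow_le_pow_right (by norm_num) hK).trans (by norm_num)
    have hval : ∀ x : ↥E2, D.n x v₀ ∈ K := by
      intro x
      by_cases hx : (x : G) = 1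
      · rw [hx, Act.n, nMap_eq_zero.2 (by rw [D.act_one, Units.val_one, Matrix.one_mulVec])]
        exact zero_mem _
      · have hm : D.n x v₀ ∈ H := by rw [← hfixe x.2 hx, ← hrf x.2 hx]; exact ⟨v₀, rfl⟩
        refine ⟨hm, LinearMap.mem_ker.2 ?_⟩
        rw [D.space.symm, Act.n, ← Q_nMap D.space (D.act_iso (hxz x.2))]
        obtain ⟨a, ha, haQ, e⟩ := hm
        rw [Act.n] at e
        rw [← e]
        exact (D.cls_sq _ haQ).1 (h.elem haQ (Subgroup.mem_centralizer_singleton_iff.1 ha))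
    obtain ⟨x, y, hxy, e⟩ : ∃ x y : ↥E2, x ≠ y ∧ D.n x v₀ = D.n y v₀ := by
      by_contra hcon
      push Not at hcon
      have := Nat.card_le_card_of_injective (fun x : ↥E2 => (⟨D.n x v₀, hval x⟩ : K)) fun x y e =>
        not_imp_not.1 (hcon x y) (congrArg Subtype.val e)
      omega
    refine hv₀ ((hfixe (mul_mem x.2 y.2) (hne hxy)).le (D.mem_fix.2 ?_))
    rw [D.n_mul (hxz x.2) (hxz y.2), ← e, vadd_self, hkill x.2 _ (hval x).1, add_zero]
  · obtain ⟨v₀, hv₀⟩ : ∃ v₀, D.n E.z v₀ ∉ H := by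
      by_contra hcon
      push Not at hcon
      have h5 := Submodule.finrank_mono (show LinearMap.range (D.n E.z) ≤ H by
        rintro _ ⟨v, rfl⟩; exact hcon v)
      rw [h.range_eq, h.four] at h5
      omega
    let π := H.mkQ.comp (D.B.orthogonal H).subtype
    have hπ : Nat.card ↥(LinearMap.range π) ≤ 4 := by
      have h5 := π.finrank_range_add_finrank_ker
      have hle : H ≤ D.B.orthogonal H := fun u hu => by
        obtain ⟨a, ha, haQ, rfl⟩ := hu
        intro u' hu'
        obtain ⟨b, hb, hbQ, rfl⟩ := hu'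
        show D.B (D.cls b) (D.cls a) = 0
        have hab := h.elem (mul_mem hbQ haQ) ((Subgroup.mem_centralizer_singleton_iff.1 (mul_mem hb ha)))
        have e2 := D.space.add (D.cls b) (D.cls a)
        rw [← D.cls_mul b hbQ a haQ, (D.cls_sq _ (mul_mem hbQ haQ)).1 hab,
          (D.cls_sq _ hbQ).1 (h.elem hbQ (Subgroup.mem_centralizer_singleton_iff.1 hb)),
          (D.cls_sq _ haQ).1 (h.elem haQ (Subgroup.mem_centralizer_singleton_iff.1 ha)), zero_add, zero_add] at e2
        exact e2.symm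
      have hker : finrank (ZMod 2) (LinearMap.ker π) = 3 := by
        rw [LinearMap.ker_comp, Submodule.ker_mkQ]
        exact (LinearEquiv.finrank_eq (Submodule.comapSubtypeEquivOfLe hle)).trans h3
      rw [Module.natCard_eq_pow_finrank (K := ZMod 2), Nat.card_zmod]
      exact (Nat.pow_le_pow_right (by norm_num) (show finrank (ZMod 2) (LinearMap.range π) ≤ 2 by omega)).trans
        (by norm_num)
    obtain ⟨x, y, hxy, e⟩ : ∃ x y : ↥E2, x ≠ y ∧ π ⟨_, hmem x.2 v₀⟩ = π ⟨_, hmem y.2 v₀⟩ := by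
      by_contra hcon
      push Not at hcon
      have := Nat.card_le_card_of_injective
        (fun x : ↥E2 => (⟨π ⟨_, hmem x.2 v₀⟩, _, rfl⟩ : LinearMap.range π)) fun x y e =>
          not_imp_not.1 (hcon x y) (congrArg Subtype.val e)
      omega
    have e' : D.n x v₀ - D.n y v₀ ∈ H := (Submodule.Quotient.eq H).1 e
    have hxy2 : (x : G) * y ∈ E2 := mul_mem x.2 y.2
    have h0 : D.n ((x : G) * y) v₀ ∈ H := by
      have e2 : D.n y v₀ = D.n x v₀ - (D.n x v₀ - D.n y v₀) := by abel
      rw [D.n_mul (hxz x.2) (hxz y.2), e2, map_sub, hkill x.2 _ e', D.n_n (hxz x.2) (hsq x.2), sub_zero,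
        add_zero, ← add_sub_assoc, vadd_self, zero_sub]
      exact neg_mem e'
    have hrange : LinearMap.range (D.n ((x : G) * y)) ≤ H := by
      rintro _ ⟨v, rfl⟩
      by_cases hv : D.n E.z v ∈ H
      · exact hmap hxy2 v hv
      have hsum : D.n E.z (v + v₀) ∈ H := by
        have hlt : finrank (ZMod 2) H + 1 ≤
            finrank (ZMod 2) (H ⊔ Submodule.span (ZMod 2) {D.n E.z v₀} : Submodule (ZMod 2) V8) :=
          finrank_sup_one hv₀
        have hle : H ⊔ Submodule.span (ZMod 2) {D.n E.z v₀} ≤ D.fix E.z := sup_le hHW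
          ((Submodule.span_singleton_le_iff_mem _ _).2 (h.range_eq ▸ ⟨v₀, rfl⟩))
        have heq : H ⊔ Submodule.span (ZMod 2) {D.n E.z v₀} = D.fix E.z :=
          Submodule.eq_of_le_of_finrank_le hle (by rw [h.four]; omega)
        have hm : D.n E.z v ∈ H ⊔ Submodule.span (ZMod 2) {D.n E.z v₀} := by
          rw [heq, ← h.range_eq]; exact ⟨v, rfl⟩
        obtain ⟨u, hu, s, hs, hus⟩ := Submodule.mem_sup.1 hm
        obtain ⟨c, rfl⟩ := Submodule.mem_span_singleton.1 hs
        rcases bit c with rfl | rfl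
        · rw [zero_smul, add_zero] at hus
          exact absurd (hus ▸ hu) hv
        · rw [one_smul] at hus
          rw [map_add, ← hus, add_assoc, vadd_self, add_zero]
          exact hu
      have h1 := hmap hxy2 _ hsum
      rw [map_add] at h1
      simpa [add_assoc, vadd_self] using add_mem h1 h0
    have h6 := Submodule.finrank_mono hrange
    rw [hrf hxy2 (hne hxy), (hrank _ hxy2 (hne hxy)).2] at h6
    omega

end Cfsg.Lib.CoOneFused
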