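import Cfsg.Agent.Lib.Extra.CoOneUniq.FusedPairB

/-!
# The Pfaffian of four by four alternating matrices
-/

set_option autoImplicit false
set_option maxRecDepth 100000

namespace Cfsg.Lib.CoOneFused

open Cfsg

/-- The Pfaffian. -/
def pf (M : Fin 4 → Fin 4 → ZMod 2) : ZMod 2 := M 0 1 * M 2 3 + M 0 2 * M 1 3 + M 0 3 * M 1 2

theorem pf_aux : ∀ a b c d e f : ZMod 2, a * f + b * e + c * d = 0 → ∃ k : Fin 4 → ZMod 2, k ≠ 0 ∧
    k 1 * a + k 2 * b + k 3 * c = 0 ∧ k 0 * a + k 2 * d + k 3 * e = 0 ∧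
    k 0 * b + k 1 * d + k 3 * f = 0 ∧ k 0 * c + k 1 * e + k 2 * f = 0 := by decide +kernel

theorem exists_kill (M : Fin 4 → Fin 4 → ZMod 2) (hd : ∀ i, M i i = 0) (hs : ∀ i j, M i j = M j i)
    (hp : pf M = 0) : ∃ k : Fin 4 → ZMod 2, k ≠ 0 ∧ ∀ i, ∑ j, k j * M i j = 0 := by
  obtain ⟨k, hk, h0, h1, h2, h3⟩ := pf_aux (M 0 1) (M 0 2) (M 0 3) (M 1 2) (M 1 3) (M 2 3) hp
  refine ⟨k, hk, fun i => ?_⟩
  rw [Fin.sum_univ_four]
  fin_cases i
  · simpa [hd] using h0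
  · simpa [hd, hs 1 0] using h1
  · simpa [hd, hs 2 0, hs 2 1] using h2
  · simpa [hd, hs 3 0, hs 3 1, hs 3 2] using h3

theorem pf_seven (a b c w : Fin 4 → Fin 4 → ZMod 2) (hb : pf b = 1) (hc : pf c = 1) (hw : pf w = 1)
    (hab : pf (a + b) = 1) (hac : pf (a + c) = 1) (hbcw : pf (b + c + w) = 1)
    (habcw : pf (a + (b + c + w)) = 1) : pf (a + w) = 1 := by
  have h2 : (2 : ZMod 2) = 0 := by decide
  have key : pf (a + w) = pf (a + (b + c + w)) - pf (b + c + w) - pf (a + b) - pf (a + c) + pf b + pf c +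
      pf w + 2 * pf a := by
    simp only [pf, Pi.add_apply]; ring
  rw [key, hb, hc, hw, hab, hac, hbcw, habcw, h2]
  rw [zero_mul]; decide

theorem pf_linear (a b w : Fin 4 → Fin 4 → ZMod 2) (ha : pf a = 1) (hb : pf b = 1) (hw : pf w = 1)
    (hab : pf (a + b) = 1) (haw : pf (a + w) = 1) (hbw : pf (b + w) = 1) (habw : pf (a + b + w) = 1) :
    False := by
  have key : pf (a + b + w) = pf (a + b) + pf (a + w) + pf (b + w) - pf a - pf b - pf w := by
    simp only [pf, Pi.add_apply]; ring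
  rw [ha, hb, hw, hab, haw, hbw, habw] at key
  exact absurd key (by decide)

end Cfsg.Lib.CoOneFused
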