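import Cfsg.Agent.Lib.CoOneLocal.Space
import Cfsg.Agent.Lib.Extra.Wide.FromHyp
import Cfsg.Agent.Lib.Extra.LargeUnfused

/-!
# The centralizer `2^(1+8).Ω⁺(8, 2)` before the fusion of its involution is known

Two commuting conjugates of the involution, neither in the subgroup of the other, when no other
conjugate of the involution lies in its subgroup.
-/

set_option autoImplicit false
set_option linter.style.haveILetI false
set_option linter.unusedSectionVars false

namespace Cfsg.Lib.CoOneFused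

open Cfsg Module Cfsg.Lib.Linear.Orth Cfsg.Lib.Extra.Wide Cfsg.Lib.CoOneLocal
open scoped Matrix

/-- The form of the model. -/
abbrev qp : V8 → ZMod 2 := Cfsg.quadFormPlus 4 (ZMod 2)

/-- The data of the centralizer, with no assumption on fusion. -/
structure Act (G : Type*) [Group G] where
  /-- The central involution. -/
  z : G
  /-- The extraspecial subgroup. -/
  Q : Subgroup G
  /-- The commutator form. -/
  B : LinearMap.BilinForm (ZMod 2) V8
  /-- The class of an element of `Q`. -/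
  cls : G → V8
  /-- The action of the centralizer. -/
  act : G → GL I8 (ZMod 2)
  ctx : Cfsg.Lib.Extra.Ctx Q z
  space : Space qp B
  cls_mul : ∀ a ∈ Q, ∀ b ∈ Q, cls (a * b) = cls a + cls b
  cls_surj : ∀ v, ∃ a ∈ Q, cls a = v
  cls_ker : ∀ a ∈ Q, cls a = 0 ↔ a = 1 ∨ a = z
  cls_sq : ∀ a ∈ Q, a * a = 1 ↔ qp (cls a) = 0
  cls_comm : ∀ a ∈ Q, ∀ b ∈ Q, Commute a b ↔ B (cls a) (cls b) = 0
  act_mul : ∀ c d, Commute c z → Commute d z → act (c * d) = act c * act d
  act_mem : ∀ c, Commute c z → act c ∈ Cfsg.Geo.omegaGL qp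
  act_surj : ∀ g ∈ Cfsg.Geo.omegaGL qp, ∃ c, Commute c z ∧ act c = g
  act_ker : ∀ c, Commute c z → (act c = 1 ↔ c ∈ Q)
  act_cls : ∀ c, Commute c z → ∀ a ∈ Q, cls (c * a * c⁻¹) = (act c).val *ᵥ cls a

variable {G : Type*} [Group G]

/-- The data at a conjugate. -/
def Act.conj (D : Act G) (k : G) : Act G where
  z := k * D.z * k⁻¹
  Q := D.Q.map (MulAut.conj k).toMonoidHom
  B := D.B
  cls a := D.cls (k⁻¹ * a * k)
  act c := D.act (k⁻¹ * c * k)
  ctx := D.ctx.conj k
  space := D.space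
  cls_mul a ha b hb := by
    rw [show k⁻¹ * (a * b) * k = k⁻¹ * a * k * (k⁻¹ * b * k) by group]
    exact D.cls_mul _ (mem_map_conj.1 ha) _ (mem_map_conj.1 hb)
  cls_surj v := by
    obtain ⟨a, ha, e⟩ := D.cls_surj v
    refine ⟨k * a * k⁻¹, ⟨a, ha, rfl⟩, ?_⟩
    rwa [show k⁻¹ * (k * a * k⁻¹) * k = a by group]
  cls_ker a ha := by
    rw [D.cls_ker _ (mem_map_conj.1 ha)]
    refine or_congr ⟨fun h => ?_, fun h => by rw [h]; group⟩ ⟨fun h => ?_, fun h => by rw [h]; group⟩
    · calc a = k * (k⁻¹ * a * k) * k⁻¹ := by group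
        _ = 1 := by rw [h]; simp
    · calc a = k * (k⁻¹ * a * k) * k⁻¹ := by group
        _ = _ := by rw [h]
  cls_sq a ha := by
    rw [← D.cls_sq _ (mem_map_conj.1 ha), show k⁻¹ * a * k * (k⁻¹ * a * k) = k⁻¹ * (a * a) * k by group]
    refine ⟨fun h => by rw [h]; group, fun h => ?_⟩
    calc a * a = k * (k⁻¹ * (a * a) * k) * k⁻¹ := by group
      _ = 1 := by rw [h]; simp
  cls_comm a ha b hb := by
    rw [← D.cls_comm _ (mem_map_conj.1 ha) _ (mem_map_conj.1 hb)]
    constructor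
    · intro h
      simpa using (Commute.conj_iff k⁻¹).2 h
    · intro h
      have := (Commute.conj_iff k).2 h
      simpa [mul_assoc] using this
  act_mul c d hc hd := by
    rw [show k⁻¹ * (c * d) * k = k⁻¹ * c * k * (k⁻¹ * d * k) by group]
    exact D.act_mul _ _ (commute_unconj k hc) (commute_unconj k hd)
  act_mem c hc := D.act_mem _ (commute_unconj k hc)
  act_surj g hg := by
    obtain ⟨c, hc, e⟩ := D.act_surj g hg
    refine ⟨k * c * k⁻¹, (Commute.conj_iff k).2 hc, ?_⟩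
    rwa [show k⁻¹ * (k * c * k⁻¹) * k = c by group]
  act_ker c hc := (D.act_ker _ (commute_unconj k hc)).trans mem_map_conj.symm
  act_cls c hc a ha := by
    rw [show k⁻¹ * (c * a * c⁻¹) * k = k⁻¹ * c * k * (k⁻¹ * a * k) * (k⁻¹ * c * k)⁻¹ by group]
    exact D.act_cls _ (commute_unconj k hc) _ (mem_map_conj.1 ha)

variable (D : Act G)

theorem Act.act_one : D.act 1 = 1 := (D.act_ker 1 (Commute.one_left _)).2 (one_mem _)

theorem Act.act_iso {c : G} (hc : Commute c D.z) : D.act c ∈ isometryGroup (ZMod 2) qp :=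
  omegaGL_le_iso (D.act_mem c hc)

theorem Act.cls_one : D.cls 1 = 0 := (D.cls_ker 1 (one_mem _)).2 (Or.inl rfl)

theorem Act.cls_z : D.cls D.z = 0 := (D.cls_ker _ D.ctx.mem).2 (Or.inr rfl)

theorem Act.cls_inv {a : G} (ha : a ∈ D.Q) : D.cls a⁻¹ = D.cls a := by
  refine vadd_eq_zero ?_
  rw [← D.cls_mul _ (inv_mem ha) _ ha, inv_mul_cancel, D.cls_one]

theorem Act.cls_eq {a b : G} (ha : a ∈ D.Q) (hb : b ∈ D.Q) (h : D.cls a = D.cls b) :
    b = a ∨ b = D.z * a := by
  rcases (D.cls_ker _ (mul_mem hb (inv_mem ha))).1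
    (by rw [D.cls_mul _ hb _ (inv_mem ha), D.cls_inv ha, h, vadd_self]) with e | e
  · exact Or.inl (mul_inv_eq_one.1 e)
  · exact Or.inr (mul_inv_eq_iff_eq_mul.1 e)

/-- The map `x ↦ c x + x` of an element of the centralizer. -/
def Act.n (D : Act G) (c : G) : V8 →ₗ[ZMod 2] V8 := nMap (D.act c)

theorem Act.conj_mem_Q {c a : G} (hc : Commute c D.z) (ha : a ∈ D.Q) : c * a * c⁻¹ ∈ D.Q :=
  (Subgroup.mem_normalizer_iff.1 (D.ctx.norm c hc) a).1 ha

theorem Act.n_cls {c a : G} (hc : Commute c D.z) (ha : a ∈ D.Q) :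
    c * a * c⁻¹ * a⁻¹ ∈ D.Q ∧ D.cls (c * a * c⁻¹ * a⁻¹) = D.n c (D.cls a) := by
  refine ⟨mul_mem (D.conj_mem_Q hc ha) (inv_mem ha), ?_⟩
  rw [D.cls_mul _ (D.conj_mem_Q hc ha) _ (inv_mem ha), D.cls_inv ha, D.act_cls c hc a ha]
  rfl

theorem Act.n_eq_zero {c a : G} (hc : Commute c D.z) (ha : a ∈ D.Q) :
    D.n c (D.cls a) = 0 ↔ c * a * c⁻¹ = a ∨ c * a * c⁻¹ = D.z * a := by
  rw [← (D.n_cls hc ha).2, D.cls_ker _ (D.n_cls hc ha).1, mul_inv_eq_one]
  exact or_congr Iff.rfl mul_inv_eq_iff_eq_mul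

theorem Act.n_of_commute {c a : G} (hc : Commute c D.z) (ha : a ∈ D.Q) (h : Commute c a) :
    D.n c (D.cls a) = 0 := (D.n_eq_zero hc ha).2 (Or.inl (mul_inv_eq_iff_eq_mul.2 h.eq))

theorem Act.n_mul {c d : G} (hc : Commute c D.z) (hd : Commute d D.z) (v : V8) :
    D.n (c * d) v = D.n c v + D.n d v + D.n c (D.n d v) := by
  simp only [Act.n, nMap_apply, D.act_mul c d hc hd, mul_act, Matrix.mulVec_add]
  funext i
  simp only [Pi.add_apply]
  exact (by decide : ∀ x y z t : ZMod 2, x + t = y + t + (z + t) + (x + y + (z + t))) _ _ _ _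

/-- The fixed vectors. -/
abbrev Act.fix (D : Act G) (c : G) : Submodule (ZMod 2) V8 := fixSpace (D.act c)

theorem Act.mem_fix {c : G} {v : V8} : v ∈ D.fix c ↔ D.n c v = 0 := by
  rw [Act.n, nMap_eq_zero, mem_fixSpace]

theorem Act.act_sq {w : G} (hw : Commute w D.z) (h2 : w * w = 1) : D.act w * D.act w = 1 := by
  rw [← D.act_mul w w hw hw, h2, D.act_one]

theorem Act.n_n {w : G} (hw : Commute w D.z) (h2 : w * w = 1) (v : V8) : D.n w (D.n w v) = 0 :=
  (nMap_eq_zero (g := D.act w)).2 (nMap_fix D.space (D.act_iso hw) (D.act_sq hw h2) v)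

theorem Act.B_n {w : G} (hw : Commute w D.z) (h2 : w * w = 1) (u v : V8) :
    D.B (D.n w u) v = D.B u (D.n w v) := B_nMap D.space (D.act_iso hw) (D.act_sq hw h2) u v

theorem Act.B_self (v : V8) : D.B v v = 0 := Cfsg.Lib.Extra.Wide.B_self D.space v

theorem Act.range_add_fix (c : G) :
    finrank (ZMod 2) (LinearMap.range (D.n c)) + finrank (ZMod 2) (D.fix c) = 8 := by
  have := finrank_range_nMap (D.act c)
  simp only [Fintype.card_sum, Fintype.card_fin] at this
  exact this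

theorem Act.range_le_fix {w : G} (hw : Commute w D.z) (h2 : w * w = 1) :
    LinearMap.range (D.n w) ≤ D.fix w := by
  rintro _ ⟨v, rfl⟩
  exact D.mem_fix.2 (D.n_n hw h2 v)

theorem Act.fix_cases {w : G} (hw : Commute w D.z) (h2 : w * w = 1) (hne : w ∉ D.Q) :
    finrank (ZMod 2) (D.fix w) = 4 ∨ finrank (ZMod 2) (D.fix w) = 6 := by
  have h4 : 4 ≤ finrank (ZMod 2) (D.fix w) := fix_ge_four D.space (D.act_iso hw) (D.act_sq hw h2) (by simp) ⟨4, by simp⟩ (D.act_mem w hw)
  have he : Even (finrank (ZMod 2) (D.fix w)) := (mem_omega_iff D.space (by simp) ⟨4, by simp⟩ (D.act_iso hw)).1 (D.act_mem w hw)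
  obtain ⟨k, hk⟩ := he
  have hle := Submodule.finrank_le (D.fix w)
  rw [finrank_fintype_fun_eq_card] at hle
  simp only [Fintype.card_sum, Fintype.card_fin] at hle
  have h8 : finrank (ZMod 2) (D.fix w) ≠ 8 := fun e => hne ((D.act_ker w hw).1 (gl_ext fun v => by
    have htop : D.fix w = ⊤ := Submodule.eq_top_of_finrank_eq (by
      rw [e, finrank_fintype_fun_eq_card]; simp)
    rw [Units.val_one, Matrix.one_mulVec]
    exact mem_fixSpace.1 (htop.ge (Submodule.mem_top (x := v)))))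
  omega

/-- The classes of a subgroup. -/
def Act.clsSub (D : Act G) (S : Subgroup G) : Submodule (ZMod 2) V8 where
  carrier := {v | ∃ a, a ∈ S ∧ a ∈ D.Q ∧ D.cls a = v}
  zero_mem' := ⟨1, one_mem _, one_mem _, D.cls_one⟩
  add_mem' := by
    rintro _ _ ⟨a, ha, ha', rfl⟩ ⟨b, hb, hb', rfl⟩
    exact ⟨a * b, mul_mem ha hb, mul_mem ha' hb', D.cls_mul a ha' b hb'⟩
  smul_mem' := by
    rintro c _ ⟨a, ha, ha', rfl⟩
    rcases bit c with rfl | rfl
    · exact ⟨1, one_mem _, one_mem _, by rw [D.cls_one, zero_smul]⟩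
    · exact ⟨a, ha, ha', by rw [one_smul]⟩

theorem Act.singular_le (D : Act G) {U : Submodule (ZMod 2) V8} (h : ∀ v ∈ U, qp v = 0) :
    finrank (ZMod 2) U ≤ 4 := by
  have hle : U ≤ D.B.orthogonal U := fun v hv u hu => by
    show D.B u v = 0
    have := D.space.add u v
    rw [h _ (add_mem hu hv), h u hu, h v hv, zero_add, zero_add] at this
    exact this.symm
  have h1 : finrank (ZMod 2) (D.B.orthogonal U) + finrank (ZMod 2) U = Fintype.card I8 :=
    finrank_orth D.space U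
  have h2 : finrank (ZMod 2) U ≤ finrank (ZMod 2) (D.B.orthogonal U) := Submodule.finrank_mono hle
  simp only [Fintype.card_sum, Fintype.card_fin] at h1
  omega

variable [Finite G]

/-- The data of two commuting conjugates in general position. -/
structure Duo (D E : Act G) : Prop where
  cross : Cfsg.Lib.Extra.Cross D.Q D.z E.Q E.z
  fused : IsConj D.z E.z

variable {D} {E : Act G} (h : Duo D E)

include h

theorem Duo.symm : Duo E D := ⟨h.cross.symm, h.fused.symm⟩

theorem Duo.comm : Commute E.z D.z := h.cross.comm.symm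

theorem Duo.unf_fst {x : G} (hx : IsConj D.z x) (hxQ : x ∈ D.Q) : x = D.z := by
  obtain ⟨g, rfl⟩ := isConj_iff.1 hx
  exact h.cross.fst.uniq g hxQ

theorem Duo.unf_snd {x : G} (hx : IsConj E.z x) (hxQ : x ∈ E.Q) : x = E.z := by
  obtain ⟨g, rfl⟩ := isConj_iff.1 hx
  exact h.cross.snd.uniq g hxQ

omit h

/-- A commuting conjugate gives such data. -/
theorem exists_duo (hU : Cfsg.Lib.Extra.Unf D.Q D.z) {x : G} (hx : IsConj D.z x)
    (hne : x ≠ D.z) (hc : Commute x D.z) : ∃ E : Act G, E.z = x ∧ Duo D E := by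
  obtain ⟨k, hk⟩ := isConj_iff.1 hx
  refine ⟨D.conj k, hk, ⟨hU, hU.conj k, by rw [show (D.conj k).z = x from hk]; exact hc.symm, fun hm => ?_,
    fun hm => ?_⟩, isConj_iff.2 ⟨k, rfl⟩⟩
  · exact hne (hk.symm.trans (hU.uniq k hm))
  · have h2 := (hU.conj k).uniq k⁻¹ (by
      rw [show k⁻¹ * (k * D.z * k⁻¹) * k⁻¹⁻¹ = D.z by group]; exact hm)
    rw [show k⁻¹ * (k * D.z * k⁻¹) * k⁻¹⁻¹ = D.z by group, hk] at h2
    exact hne h2.symm

include h

theorem Duo.sq : E.z * E.z = 1 := E.ctx.sq_z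

/-- The classes of the elements of `Q` commuting with the second involution are fixed. -/
theorem Duo.clsSub_le : D.clsSub (Subgroup.centralizer ({E.z} : Set G)) ≤ D.fix E.z := by
  rintro _ ⟨a, ha, haQ, rfl⟩
  exact D.mem_fix.2 (D.n_of_commute h.comm haQ (Subgroup.mem_centralizer_singleton_iff.1 ha).symm)

/-- The fixed classes exceed these by at most one dimension. -/
theorem Duo.fix_le :
    finrank (ZMod 2) (D.fix E.z) ≤
      finrank (ZMod 2) (D.clsSub (Subgroup.centralizer ({E.z} : Set G))) + 1 := by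
  set U := D.clsSub (Subgroup.centralizer ({E.z} : Set G)) with hU
  by_cases hall : D.fix E.z ≤ U
  · exact le_add_right (Submodule.finrank_mono hall)
  obtain ⟨v₁, hv₁, hv₁U⟩ := Set.not_subset.1 hall
  have hle : D.fix E.z ≤ U ⊔ Submodule.span (ZMod 2) {v₁} := by
    intro v hv
    obtain ⟨a, ha, rfl⟩ := D.cls_surj v
    obtain ⟨b, hb, rfl⟩ := D.cls_surj v₁
    rcases (D.n_eq_zero h.comm ha).1 (D.mem_fix.1 hv) with e | e
    · exact Submodule.mem_sup_left ⟨a, Subgroup.mem_centralizer_singleton_iff.2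
        (mul_inv_eq_iff_eq_mul.1 e).symm, ha, rfl⟩
    rcases (D.n_eq_zero h.comm hb).1 (D.mem_fix.1 hv₁) with e' | e'
    · exact absurd ⟨b, Subgroup.mem_centralizer_singleton_iff.2 (mul_inv_eq_iff_eq_mul.1 e').symm, hb, rfl⟩ hv₁U
    have hab : Commute E.z (a * b) := mul_inv_eq_iff_eq_mul.1 (by
      calc E.z * (a * b) * E.z⁻¹ = (E.z * a * E.z⁻¹) * (E.z * b * E.z⁻¹) := by group
        _ = D.z * (a * D.z) * b := by rw [e, e']; simp only [mul_assoc]
        _ = a * b := by rw [← (D.ctx.central a ha).eq, ← mul_assoc, D.ctx.sq_z, one_mul])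
    have : D.cls (a * b) ∈ U := ⟨a * b, Subgroup.mem_centralizer_singleton_iff.2 hab.symm.eq, mul_mem ha hb, rfl⟩
    rw [D.cls_mul a ha b hb] at this
    have h2 : D.cls a = (D.cls a + D.cls b) + D.cls b := by rw [add_assoc, vadd_self, add_zero]
    rw [h2]
    exact add_mem (Submodule.mem_sup_left this) (Submodule.mem_sup_right (Submodule.mem_span_singleton_self _))
  refine (Submodule.finrank_mono hle).trans ((Submodule.finrank_add_le_finrank_add_finrank _ _).trans ?_)
  exact Nat.add_le_add_left ((finrank_span_le_card ({v₁} : Set V8)).trans (by simp)) _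

/-- An element of order four commuting with the second involution forces rank two. -/
theorem Duo.fix_six {y : G} (hy : y ∈ D.Q) (hy2 : y * y = D.z) (hyw : Commute y E.z) :
    finrank (ZMod 2) (D.fix E.z) = 6 := by
  have hne1 : E.z ∉ D.Q := h.cross.not_fst
  refine (D.fix_cases h.comm h.sq hne1).resolve_left fun h4 => ?_
  have heq : LinearMap.range (D.n E.z) = D.fix E.z :=
    Submodule.eq_of_le_of_finrank_eq (D.range_le_fix h.comm h.sq) (by have := D.range_add_fix E.z; omega)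
  have hdata : ∀ v, ∃ d, d ∈ D.Q ∧ d ∈ E.Q ∧ D.cls d = D.n E.z v := by
    intro v
    obtain ⟨a, ha, rfl⟩ := D.cls_surj v
    by_cases hc : Commute a E.z
    · exact ⟨1, one_mem _, one_mem _, by rw [D.cls_one, D.n_of_commute h.comm ha hc.symm]⟩
    obtain ⟨b, hb, hbz⟩ : ∃ b ∈ E.Q, ¬ Commute b D.z := by
      by_contra hcon
      push Not at hcon
      rcases E.ctx.cent D.z fun c hc => (hcon c hc).symm with e | e
      · exact D.ctx.ne_one e
      · exact hne1 (e ▸ D.ctx.mem)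
    obtain ⟨hsq, -⟩ := h.cross.shape hy hy2 hyw hb hbz
    obtain ⟨-, d, hd1, hd2, e⟩ := h.cross.symm.shape (h.cross.comm_mem hyw hb) hsq
      (h.cross.rho_commute hy hy2 hyw hb) ha hc
    refine ⟨d, hd2, hd1, ?_⟩
    have hconj : E.z * a * E.z⁻¹ ∈ D.Q := D.conj_mem_Q h.comm ha
    rw [← (D.n_cls h.comm ha).2, D.cls_mul _ hconj _ (inv_mem ha), add_comm,
      ← D.cls_mul _ (inv_mem ha) _ hconj, E.ctx.inv_z, e, D.cls_mul _ D.ctx.mem _ hd2, D.cls_z, zero_add]
  have horth : ∀ v, D.B (D.n E.z (D.cls y)) v = 0 := fun v => by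
    rw [D.B_n h.comm h.sq]
    obtain ⟨d, hd, hd', e⟩ := hdata v
    rw [← e]
    exact (D.cls_comm y hy d hd).1 (h.cross.symm.inter_commute hd' hd hy hyw).symm
  obtain ⟨v, hv⟩ := heq.ge (D.mem_fix.2 (D.space.nondeg' horth))
  obtain ⟨d, hd, hd', e⟩ := hdata v
  have hd2 : d * d = 1 := h.cross.inter_sq hd hd'
  rw [hv] at e
  rcases D.cls_eq hd hy e with rfl | rfl
  · exact D.ctx.ne_one (by rw [← hy2, hd2])
  · refine D.ctx.ne_one ?_
    rw [← hy2]
    calc D.z * d * (D.z * d) = D.z * (d * D.z) * d := by simp only [mul_assoc]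
      _ = _ := by rw [← (D.ctx.central d hd).eq, ← mul_assoc, D.ctx.sq_z, one_mul, hd2]

/-- Without such an element the commuting part is elementary and the rank is four. -/
theorem Duo.singular (hno : ∀ y ∈ D.Q, Commute y E.z → y * y = 1) :
    (∀ v ∈ D.clsSub (Subgroup.centralizer ({E.z} : Set G)), qp v = 0) ∧
      finrank (ZMod 2) (D.fix E.z) = 4 := by
  have hs : ∀ v ∈ D.clsSub (Subgroup.centralizer ({E.z} : Set G)), qp v = 0 := by
    rintro _ ⟨a, ha, haQ, rfl⟩
    exact (D.cls_sq a haQ).1 (hno a haQ (Subgroup.mem_centralizer_singleton_iff.1 ha))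
  refine ⟨hs, ?_⟩
  have h1 := D.singular_le hs
  have h2 := h.fix_le
  have h3 := D.fix_cases h.comm h.sq h.cross.not_fst
  omega

end Cfsg.Lib.CoOneFused
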