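import Cfsg.Agent.Lib.CoOneLocal.Count
import Mathlib.GroupTheory.PGroup

/-!
# The extraspecial subgroup inside the normalizer of the abelian subgroup

It is the only subgroup of order `2 ^ 9` of `N(A) ⊓ C(z)` which is normal there.
-/

set_option autoImplicit false
set_option linter.style.haveILetI false
set_option linter.unusedSectionVars false

namespace Cfsg.Lib.CoOneUniq

open Cfsg Module Cfsg.Lib.Linear.Orth Cfsg.Lib.Extra.Wide Cfsg.Lib.Concrete
open Cfsg.Lib.CoOneLocal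
open scoped Matrix

theorem reach_back : ∀ a < 16, a ≠ 0 → 1 ∈ reach (fun p a => tvA p.1 p.2 a) tvAll a 4 := by
  decide +kernel

set_option maxRecDepth 100000 in
theorem reach_many : ∀ u < 64, u ≠ 0 →
    let l := (reach (fun p u => tvU p.1 p.2 u) tvAll u 3).take 17
    l.length = 17 ∧ l.Nodup := by decide +kernel

theorem column_ne : ∀ u < 64, u ≠ 0 → ∃ k i : Fin 4, nN u i k ≠ 0 := by decide +kernel

variable {G : Type*} [Group G] [Finite G] {D : Data G I8}

/-- A point of the first half moved by an element of the centralizer of `z` normalizing `A`. -/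
theorem act_ve (F : Gen D) {r : G} (hr : r ∈ Subgroup.normalizer (AA D : Set G)) (hz : Commute r D.z)
    {a : ℕ} (ha : a < 16) : ∃ b < 16, (D.act r).val *ᵥ ve a = ve b ∧ (a ≠ 0 → b ≠ 0) := by
  obtain ⟨w, hw, ew⟩ := D.cls_surj (ve a)
  have hwW : w ∈ WS D := ⟨hw, a, ha, ew⟩
  have h1 : r * w * r⁻¹ ∈ D.Q := (Subgroup.mem_normalizer_iff.1 (D.ctx.norm r hz) w).1 hw
  have h2 : r * w * r⁻¹ ∈ AA D :=
    (Subgroup.mem_normalizer_iff.1 hr w).1 (WS_le_AA F.qp hwW)
  obtain ⟨-, b, hb, eb⟩ := WS_of_perp F.qp h1 fun v hv => mem_AA.1 h2 v hv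
  rw [D.act_cls r hz w hw, ew] at eb
  refine ⟨b, hb, eb, fun ha0 hb0 => ha0 ?_⟩
  rw [hb0, ve_zero, ← Matrix.mulVec_zero (D.act r).val] at eb
  exact ve_inj ha (by norm_num) ((act_injective _ eb).trans ve_zero.symm)

/-- The lifts of the transvections. -/
theorem exists_lift (F : Gen D) {p : ℕ × ℕ} (hp : p ∈ tvAll) :
    ∃ d ∈ Subgroup.normalizer (AA D : Set G), Commute d D.z ∧
      ∀ a < 16, (D.act d).val *ᵥ ve a = ve (tvA p.1 p.2 a) := by
  obtain ⟨h1, h2, h3⟩ := tvAll_spec p hp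
  obtain ⟨d, hd, -, hdN, hda, -⟩ := exists_trans F (i := ⟨p.1, h1⟩) (j := ⟨p.2, h2⟩)
    fun e => h3 (congrArg Fin.val e)
  exact ⟨d, hdN, hd.2, hda⟩

theorem reach_closed {f : ℕ × ℕ → ℕ → ℕ} {T : List (ℕ × ℕ)} {P : ℕ → Prop} {root : ℕ} (h0 : P root)
    (hs : ∀ p ∈ T, ∀ a, P a → P (f p a)) : ∀ k, ∀ a ∈ reach f T root k, P a := by
  intro k
  induction k with
  | zero =>
    simp only [reach, List.mem_singleton]
    rintro a rfl
    exact h0
  | succ k ih =>
    intro a ha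
    simp only [reach, List.mem_eraseDups, List.mem_append, List.mem_flatMap, List.mem_map] at ha
    rcases ha with ha | ⟨a, ha, p, hp, rfl⟩
    · exact ih a ha
    · exact hs p hp a (ih a ha)

theorem Q_unique (S : Setup D) {R : Subgroup G} (hRN : R ≤ Subgroup.normalizer (AA D : Set G))
    (hRz : ∀ r ∈ R, Commute r D.z) (hc : Nat.card ↥R = 2 ^ 9)
    (hnorm : ∀ p ∈ Subgroup.normalizer (AA D : Set G), Commute p D.z → ∀ r ∈ R, p * r * p⁻¹ ∈ R) :
    R = D.Q := by
  classical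
  set F := S.F
  -- every element of R fixes the first half
  have hfix : ∀ r ∈ R, ∀ a < 16, (D.act r).val *ᵥ ve a = ve a := by
    let X := {v : V8 // ∃ a, a < 16 ∧ a ≠ 0 ∧ v = ve a}
    letI : MulAction ↥R X :=
      { smul := fun r v => ⟨(D.act (r : G)).val *ᵥ v.1, by
          obtain ⟨a, ha, ha0, e⟩ := v.2
          obtain ⟨b, hb, eb, hb0⟩ := act_ve F (hRN r.2) (hRz r r.2) ha
          exact ⟨b, hb, hb0 ha0, by rw [e, eb]⟩⟩
        one_smul := fun v => Subtype.ext (by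
          show (D.act ((1 : ↥R) : G)).val *ᵥ v.1 = v.1
          rw [Subgroup.coe_one, D.act_one, Units.val_one, Matrix.one_mulVec])
        mul_smul := fun r s v => Subtype.ext (by
          show (D.act ((r * s : ↥R) : G)).val *ᵥ v.1 =
            (D.act (r : G)).val *ᵥ ((D.act (s : G)).val *ᵥ v.1)
          rw [Subgroup.coe_mul, D.act_mul _ _ (hRz r r.2) (hRz s s.2), Units.val_mul,
            Matrix.mulVec_mulVec]) }
    have hX : Nat.card X = 15 := by
      refine (Nat.card_congr (Equiv.ofBijective (fun k : Fin 15 => (⟨ve (k.val + 1), k.val + 1, by omega,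
        by omega, rfl⟩ : X)) ⟨?_, ?_⟩)).symm.trans (Nat.card_fin 15)
      · intro k l h
        have h' := ve_inj (by omega) (by omega) (congrArg Subtype.val h)
        exact Fin.ext (by omega)
      · rintro ⟨v, a, ha, ha0, rfl⟩
        refine ⟨⟨a - 1, by omega⟩, Subtype.ext ?_⟩
        show ve (a - 1 + 1) = ve a
        rw [Nat.sub_add_cancel (by omega)]
    haveI : Fact (Nat.Prime 2) := ⟨Nat.prime_two⟩
    obtain ⟨⟨_, a, ha, ha0, rfl⟩, hv⟩ :=
      (IsPGroup.of_card hc).nonempty_fixed_point_of_prime_not_dvd_card X (by rw [hX]; norm_num)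
    let P : ℕ → Prop := fun a => a < 16 ∧ ∀ r ∈ R, (D.act r).val *ᵥ ve a = ve a
    have hstep : ∀ p ∈ tvAll, ∀ a, P a → P (tvA p.1 p.2 a) := by
      rintro p hp a ⟨ha, hP⟩
      obtain ⟨d, hdN, hdz, hda⟩ := exists_lift F hp
      refine ⟨(tvA_lt p hp a ha).1, fun r hr => ?_⟩
      have h1 := hnorm d⁻¹ (inv_mem hdN) hdz.inv_left r hr
      rw [inv_inv] at h1
      rw [← hda a ha]
      conv_rhs => rw [← hP _ h1]
      rw [← mul_act, ← mul_act, ← D.act_mul _ _ (hRz r hr) hdz,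
        ← D.act_mul _ _ hdz (hRz _ h1), show d * (d⁻¹ * r * d) = r * d by group]
    have h1 : P 1 := reach_closed (P := P) ⟨ha, fun r hr => congrArg Subtype.val (hv ⟨r, hr⟩)⟩ hstep 4 _
      (reach_back a ha ha0)
    intro r hr b hb
    by_cases hb0 : b = 0
    · rw [hb0, ve_zero, Matrix.mulVec_zero]
    · exact (reach_closed (P := P) h1 hstep 5 _ (reach_point b hb hb0)).2 r hr
  -- R lies in Q A
  have hact : ∀ r ∈ R, ∃ u < 64, D.act r = nU u := by
    intro r hr
    let lam : Fin 4 → ZMod 2 := fun i => if r * F.T i * r⁻¹ = F.T i then 0 else 1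
    obtain ⟨b, hb⟩ := exists_ev lam
    obtain ⟨q, hq, eq'⟩ := D.cls_surj (vf b)
    have hT : ∀ i : Fin 4, Commute (q⁻¹ * r) (F.T i) := by
      intro i
      have hB : D.B (D.cls q) (D.cls (F.T i)) = lam i := by
        rw [eq', F.cls_T, B_vf_ve F.qp, dot_pow b i, ← hb]
      have hrT : r * F.T i * r⁻¹ ∈ D.Q :=
        (Subgroup.mem_normalizer_iff.1 (D.ctx.norm r (hRz r hr)) _).1 (F.pt i).mem
      have hcl : D.cls (F.T i) = D.cls (r * F.T i * r⁻¹) := by
        rw [D.act_cls r (hRz r hr) _ (F.pt i).mem, F.cls_T, hfix r hr _ (pow_lt_16 i)]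
      refine mul_inv_eq_iff_eq_mul.1 ?_
      rw [show q⁻¹ * r * F.T i * (q⁻¹ * r)⁻¹ = q⁻¹ * (r * F.T i * r⁻¹) * q by group]
      by_cases h : r * F.T i * r⁻¹ = F.T i
      · rw [h]
        have hc := (D.cls_comm q hq _ (F.pt i).mem).2 (hB.trans (if_pos h))
        rw [mul_assoc, hc.symm.eq, inv_mul_cancel_left]
      · rcases D.cls_eq (F.pt i).mem hrT hcl with e | e
        · exact absurd e h
        · rw [e, ← D.q_move hq (F.pt i).mem (hB.trans (if_neg h))]
          group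
    have hxz : Commute (q⁻¹ * r) D.z := ((D.ctx.central q hq).symm.inv_left).mul_left (hRz r hr)
    have hsmall : ∀ m < 32, Commute (q⁻¹ * r) (F.phi m) := by
      refine xor_all 5 (by rw [F.phi_zero]; exact Commute.one_right _)
        (fun a b _ _ ea eb => by rw [F.phi_xor]; exact ea.mul_right eb) (fun k hk => ?_)
      rcases k with _ | k
      · rw [show F.phi (2 ^ 0) = D.z from F.phi_one]; exact hxz
      · rw [show 2 ^ (k + 1) = 2 ^ (1 + (⟨k, by omega⟩ : Fin 4).val) by rw [add_comm], F.phi_T]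
        exact hT _
    have hA : q⁻¹ * r ∈ AA D := mem_AA.2 fun w hw => by
      obtain ⟨hwQ, a, ha, ea⟩ := hw
      obtain ⟨hQ', hc'⟩ := F.small_phi (2 * a) (by omega)
      rw [show (2 * a) >>> 1 = a by rw [Nat.shiftRight_eq_div_pow]; omega] at hc'
      rcases D.cls_eq hQ' hwQ (hc'.trans ea.symm) with e | e <;> rw [e]
      · exact hsmall _ (by omega)
      · exact hxz.mul_right (hsmall _ (by omega))
    obtain ⟨u, hu, eu⟩ := act_AA F.qp hA
    refine ⟨u, hu, ?_⟩
    rw [D.act_mul _ _ (D.ctx.central q hq).symm.inv_left (hRz r hr), D.act_q (inv_mem hq), one_mul] at eu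
    exact eu
  -- no element of R moves Q / z
  suffices hle : R ≤ D.Q from Subgroup.eq_of_le_of_card_ge hle (by
    rw [hc, (S.F.pt 0).card_Q]
    norm_num [Fintype.card_sum])
  intro r hr
  obtain ⟨u, hu, eu⟩ := hact r hr
  refine (D.act_ker r (hRz r hr)).1 ?_
  by_contra hne
  have hu0 : u ≠ 0 := fun h => hne (by rw [eu, h, nU_zero])
  -- a commutator in the first half
  obtain ⟨k, i, hki⟩ := column_ne u hu hu0
  obtain ⟨q, hq, eq'⟩ := D.cls_surj (vf (2 ^ k.val))
  set c := r * q * r⁻¹ * q⁻¹ with hcdef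
  have hcR : c ∈ R := by
    have := mul_mem hr (hnorm q (S.q_norm hq) (D.ctx.central q hq).symm _ (inv_mem hr))
    rwa [show r * (q * r⁻¹ * q⁻¹) = c by rw [hcdef]; group] at this
  have hrq : r * q * r⁻¹ ∈ D.Q := (Subgroup.mem_normalizer_iff.1 (D.ctx.norm r (hRz r hr)) q).1 hq
  have hcQ : c ∈ D.Q := mul_mem hrq (inv_mem hq)
  have hcc : D.cls c = (nU u).val *ᵥ vf (2 ^ k.val) + vf (2 ^ k.val) := by
    rw [hcdef, D.cls_mul _ hrq _ (inv_mem hq), D.cls_inv hq, D.act_cls r (hRz r hr) q hq, eu, eq']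
  obtain ⟨a, a', ha, ha', ea⟩ := exists_code (D.cls c)
  have ha'0 : a' = 0 := by
    refine vf_inj ha' (by norm_num) (funext fun j => ?_)
    rw [vf_zero]
    cases j with
    | inl j => simp [vf]
    | inr j =>
      have h := congrFun (ea.symm.trans hcc) (Sum.inr j)
      simp only [Pi.add_apply, nU_inr, ve, Sum.elim_inr, Pi.zero_apply, zero_add] at h
      show vf a' (Sum.inr j) = 0
      rw [h]
      exact (show ∀ x : ZMod 2, x + x = 0 by decide) _
  rw [ha'0, vf_zero, add_zero] at ea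
  have ha0 : a ≠ 0 := fun h => hki (by
    have h' := congrFun (ea.symm.trans hcc) (Sum.inl i)
    rw [h, ve_zero, Pi.add_apply, nU_inl] at h'
    have hev : ∀ k j : Fin 4, vf (2 ^ k.val) (Sum.inr j) = if j = k then 1 else 0 := by decide +kernel
    simp [hev] at h'
    simpa [vf] using h'.symm)
  -- all classes of the first half occur in R
  let P : ℕ → Prop := fun b => b < 16 ∧ ∃ x ∈ R, x ∈ D.Q ∧ D.cls x = ve b
  have hP : ∀ p ∈ tvAll, ∀ b, P b → P (tvA p.1 p.2 b) := by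
    rintro p hp b ⟨hb, x, hxR, hxQ, hxc⟩
    obtain ⟨d, hdN, hdz, hda⟩ := exists_lift F hp
    exact ⟨(tvA_lt p hp b hb).1, _, hnorm d hdN hdz x hxR,
      (Subgroup.mem_normalizer_iff.1 (D.ctx.norm d hdz) x).1 hxQ,
      by rw [D.act_cls d hdz x hxQ, hxc, hda b hb]⟩
  have hP1 : P 1 := reach_closed (P := P) ⟨ha, c, hcR, hcQ, ea⟩ hP 4 _ (reach_back a ha ha0)
  obtain ⟨-, x1, hx1R, hx1Q, hx1c⟩ := id hP1
  have hzR : D.z ∈ R := by
    obtain ⟨q', hq', eq''⟩ := D.cls_surj (vf 1)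
    have h1 := D.q_move hq' hx1Q (by
      rw [eq'', hx1c, B_vf_ve F.qp]
      decide +kernel)
    have h2 := mul_mem (hnorm q' (S.q_norm hq') (D.ctx.central q' hq').symm x1 hx1R) (inv_mem hx1R)
    rwa [h1, mul_inv_cancel_right] at h2
  have hsmallR : ∀ m < 32, F.phi m ∈ R := by
    intro m hm
    obtain ⟨hQ', hc'⟩ := F.small_phi m hm
    have hb : m >>> 1 < 16 := by rw [Nat.shiftRight_eq_div_pow]; omega
    obtain ⟨x, hxR, hxQ, hxc⟩ : ∃ x ∈ R, x ∈ D.Q ∧ D.cls x = ve (m >>> 1) := by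
      by_cases hb0 : m >>> 1 = 0
      · exact ⟨1, one_mem _, one_mem _, by rw [hb0, ve_zero, D.cls_one]⟩
      · exact (reach_closed (P := P) hP1 hP 5 _ (reach_point _ hb hb0)).2
    rcases D.cls_eq hxQ hQ' (hxc.trans hc'.symm) with e | e <;> rw [e]
    exacts [hxR, mul_mem hzR hxR]
  -- too many elements
  let U : ℕ → Prop := fun v => v < 64 ∧ ∃ x ∈ R, D.act x = nU v
  have hU : ∀ p ∈ tvAll, ∀ v, U v → U (tvU p.1 p.2 v) := by
    rintro p hp v ⟨hv, x, hxR, hxv⟩
    obtain ⟨d, hdN, hdz, hda⟩ := exists_lift F hp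
    refine ⟨(tvU_lt p hp v hv).1, _, hnorm d hdN hdz x hxR, ?_⟩
    rw [act_conj hdz (hRz x hxR), hxv, trans_conj F hp hdz hda v hv]
  obtain ⟨hlen, hnd⟩ := reach_many u hu hu0
  set l := (reach (fun p u => tvU p.1 p.2 u) tvAll u 3).take 17 with hl
  have hlU : ∀ j : Fin 17, U (l.get (j.cast hlen.symm)) := fun j =>
    reach_closed (P := U) ⟨hu, r, hr, eu⟩ hU 3 _ (List.mem_of_mem_take (List.get_mem l _))
  choose hlt x hxR hxv using hlU
  let f : Fin 17 × Fin 32 → ↥R := fun p => ⟨x p.1 * F.phi p.2, mul_mem (hxR _) (hsmallR _ p.2.2)⟩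
  have hf : Function.Injective f := by
    rintro ⟨j, m⟩ ⟨j', m'⟩ h
    have h' : x j * F.phi m = x j' * F.phi m' := congrArg Subtype.val h
    have e := congrArg D.act h'
    rw [D.act_mul _ _ (hRz _ (hxR j)) (AA_comm_z (F.phi_mem _)),
      D.act_mul _ _ (hRz _ (hxR j')) (AA_comm_z (F.phi_mem _)), D.act_q (F.small_phi _ m.2).1,
      D.act_q (F.small_phi _ m'.2).1, mul_one, mul_one, hxv, hxv] at e
    have ej : j.cast hlen.symm = j'.cast hlen.symm :=
      (List.Nodup.get_inj_iff hnd).1 (nU_inj (hlt j) (hlt j') e)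
    have ej' : j = j' := Fin.cast_injective _ ej
    subst ej'
    exact Prod.ext rfl (Fin.ext (F.phi_inj (by omega) (by omega) (mul_left_cancel h')))
  have := Nat.card_le_card_of_injective f hf
  rw [hc, Nat.card_prod, Nat.card_fin, Nat.card_fin] at this
  norm_num at this

end Cfsg.Lib.CoOneUniq
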