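import Cfsg.Agent.Lib.Extra.CoOneUniq.NormIso
import Cfsg.Agent.Lib.Extra.CoOneUniq.QUnique

/-!
# The isomorphism of the normalizers of the abelian subgroups of two groups of Conway type

It carries the abelian subgroup, the central involution and the extraspecial subgroup to those of
the other group.
-/

set_option autoImplicit false
set_option linter.style.haveILetI false

namespace Cfsg.Lib.CoOneUniq

open Cfsg Module Cfsg.Lib.Extra.Wide
open Cfsg.Lib.CoOneLocal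
open scoped Matrix

theorem Q_le_NN {G : Type*} [Group G] [Finite G] {D : Data G I8}
    (hq : D.qf = Cfsg.quadFormPlus 4 (ZMod 2)) (hab : ∀ g ∈ AA D, ∀ h ∈ AA D, Commute g h) :
    D.Q ≤ NN D := by
  obtain ⟨S⟩ := exists_setup D hq hab
  exact fun q hq' => S.q_norm hq'

/-- The isomorphism of the normalizers, respecting `A`, `z` and `Q`. -/
theorem exists_norm_iso {G : Type*} [Group G] [Finite G] {G' : Type*} [Group G'] [Finite G']
    {D : Data G I8} {D' : Data G' I8} (hq : D.qf = Cfsg.quadFormPlus 4 (ZMod 2))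
    (hq' : D'.qf = Cfsg.quadFormPlus 4 (ZMod 2)) (hab : ∀ g ∈ AA D, ∀ h ∈ AA D, Commute g h)
    (hab' : ∀ g ∈ AA D', ∀ h ∈ AA D', Commute g h) :
    ∃ φ : ↥(NN D) ≃* ↥(NN D'),
      (∀ n, (φ n : G') ∈ AA D' ↔ (n : G) ∈ AA D) ∧
      (∀ n, (φ n : G') = D'.z ↔ (n : G) = D.z) ∧
      (∀ n, Commute (φ n : G') D'.z ↔ Commute (n : G) D.z) ∧
      ∀ n, (φ n : G') ∈ D'.Q ↔ (n : G) ∈ D.Q := by
  classical
  obtain ⟨M⟩ := exists_normModel hq hab
  obtain ⟨M'⟩ := exists_normModel hq' hab'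
  obtain ⟨φ, hA, hz⟩ := M.exists_normEquiv M'
  have hzA : D.z ∈ AA D := WS_le_AA hq z_mem_WS
  let zn : ↥(NN D) := ⟨D.z, Subgroup.le_normalizer hzA⟩
  have hzn : (φ zn : G') = D'.z := (hz zn).2 rfl
  have hcomm : ∀ n, Commute (φ n : G') D'.z ↔ Commute (n : G) D.z := fun n => by
    rw [← hzn]
    constructor
    · intro h
      have h' : φ (n * zn) = φ (zn * n) := Subtype.ext (by rw [map_mul, map_mul]; exact h.eq)
      exact congrArg Subtype.val (φ.injective h')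
    · intro h
      have h' : n * zn = zn * n := Subtype.ext h.eq
      show (φ n : G') * φ zn = φ zn * φ n
      rw [← Subgroup.coe_mul, ← map_mul, h', map_mul, Subgroup.coe_mul]
  refine ⟨φ, hA, hz, hcomm, ?_⟩
  have hQN := Q_le_NN hq hab
  let j : ↥D.Q →* G' := (NN D').subtype.comp (φ.toMonoidHom.comp (Subgroup.inclusion hQN))
  have hj : Function.Injective j := fun a b h =>
    Subgroup.inclusion_injective hQN (φ.injective (Subtype.ext h))
  obtain ⟨S'⟩ := exists_setup D' hq' hab'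
  obtain ⟨S⟩ := exists_setup D hq hab
  have hR : j.range = D'.Q := by
    refine Q_unique S' ?_ ?_ ?_ ?_
    · rintro _ ⟨a, rfl⟩
      exact (φ _).2
    · rintro _ ⟨a, rfl⟩
      exact (hcomm _).2 (D.ctx.central a a.2).symm
    · rw [Nat.card_congr (MonoidHom.ofInjective hj).toEquiv.symm, (S.F.pt 0).card_Q]
      norm_num [Fintype.card_sum]
    · rintro p hp hpz _ ⟨a, rfl⟩
      obtain ⟨n, hn⟩ := φ.surjective ⟨p, hp⟩
      have e : (φ n : G') = p := congrArg Subtype.val hn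
      have hnz : Commute (n : G) D.z := (hcomm n).1 (by rw [e]; exact hpz)
      refine ⟨⟨(n : G) * a * (n : G)⁻¹,
        (Subgroup.mem_normalizer_iff.1 (D.ctx.norm _ hnz) _).1 a.2⟩, ?_⟩
      rw [← e]
      show (φ (n * Subgroup.inclusion hQN a * n⁻¹) : G') = _
      rw [map_mul, map_mul, map_inv]
      rfl
  intro n
  rw [← hR]
  constructor
  · rintro ⟨a, ha⟩
    have h : φ (Subgroup.inclusion hQN a) = φ n := Subtype.ext ha
    rw [← φ.injective h]
    exact a.2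
  · intro h
    exact ⟨⟨(n : G), h⟩, rfl⟩

/-- The form starting from arbitrary data. -/
theorem exists_norm_iso' {G : Type*} [Group G] [Finite G] {G' : Type*} [Group G'] [Finite G']
    (D₀ : Data G I8) (D₀' : Data G' I8) (hq : D₀.qf = Cfsg.quadFormPlus 4 (ZMod 2))
    (hq' : D₀'.qf = Cfsg.quadFormPlus 4 (ZMod 2)) :
    ∃ (D : Data G I8) (D' : Data G' I8), D.qf = Cfsg.quadFormPlus 4 (ZMod 2) ∧
      D'.qf = Cfsg.quadFormPlus 4 (ZMod 2) ∧ D.z = D₀.z ∧ D'.z = D₀'.z ∧ D.Q = D₀.Q ∧ D'.Q = D₀'.Q ∧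
      (∀ g ∈ AA D, ∀ h ∈ AA D, Commute g h) ∧ (∀ g ∈ AA D', ∀ h ∈ AA D', Commute g h) ∧
      ∃ φ : ↥(NN D) ≃* ↥(NN D'),
        (∀ n, (φ n : G') ∈ AA D' ↔ (n : G) ∈ AA D) ∧
        (∀ n, (φ n : G') = D'.z ↔ (n : G) = D.z) ∧
        (∀ n, Commute (φ n : G') D'.z ↔ Commute (n : G) D.z) ∧
        ∀ n, (φ n : G') ∈ D'.Q ↔ (n : G) ∈ D.Q := by
  obtain ⟨D, hD, hz, hQ, hab⟩ := exists_abelian D₀ hq
  obtain ⟨D', hD', hz', hQ', hab'⟩ := exists_abelian D₀' hq'
  exact ⟨D, D', hD, hD', hz, hz', hQ, hQ', hab, hab', exists_norm_iso hD hD' hab hab'⟩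

end Cfsg.Lib.CoOneUniq
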