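import Cfsg.Agent.Lib.Extra.CoOneUniq.NormModel

/-!
# Two normalizers of shape `2 ^ 11 : M24` are isomorphic
-/

set_option autoImplicit false
set_option linter.style.haveILetI false
set_option linter.unusedSectionVars false

namespace Cfsg.Lib.CoOneUniq

open Cfsg Module Cfsg.Lib.Extra.Wide Cfsg.Lib.Concrete Cfsg.Lib.H3.Golay Cfsg.Lib.Golay.Duads
open Cfsg.Lib.CoOneLocal
open scoped Matrix Pointwise

/-- A code word moved by a permutation of the Mathieu group. -/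
def tw (τ : ↥Cfsg.M24) (w : golayCode) : golayCode :=
  ⟨actW (τ : Equiv.Perm GolayPt) (w : GolayPt → ZMod 2), actW_mem τ.2 w.2⟩

theorem tw_add (τ : ↥Cfsg.M24) (v w : golayCode) : tw τ (v + w) = tw τ v + tw τ w :=
  Subtype.ext (funext fun _ => rfl)

theorem tw_oneC (τ : ↥Cfsg.M24) : tw τ oneC = oneC := Subtype.ext (funext fun _ => rfl)

theorem tw_mul (σ τ : ↥Cfsg.M24) (w : golayCode) : tw (σ * τ) w = tw σ (tw τ w) :=
  Subtype.ext (funext fun _ => rfl)

theorem tw_one (w : golayCode) : tw 1 w = w := Subtype.ext (funext fun _ => rfl)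

variable {G : Type*} [Group G] {D : Data G I8}
variable {G' : Type*} [Group G'] {D' : Data G' I8}

namespace NormModel

variable (M : NormModel D) (M' : NormModel D') (τ : ↥Cfsg.M24)

theorem conj_f (n : ↥(NN D)) (w : golayCode) :
    (n : G) * M.f w * (n : G)⁻¹ = M.f (tw (M.psi n) w) := (M.equiv n w (tw (M.psi n) w) rfl).symm

open scoped Classical in
/-- A code word of an element. -/
noncomputable def word (a : G) : golayCode := if h : ∃ w, M.f w = a then h.choose else 0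

theorem f_word {a : G} (h : a ∈ AA D) : M.f (M.word a) = a := by
  classical
  rw [word, dif_pos (M.f_surj a h)]
  exact (M.f_surj a h).choose_spec

/-- The image of an element of the abelian subgroup. -/
noncomputable def mapA (a : G) : G' := M'.f (tw τ (M.word a))

theorem mapA_mem (a : G) : mapA M M' τ a ∈ AA D' := M'.f_mem _

theorem mapA_f (w : golayCode) : mapA M M' τ (M.f w) = M'.f (tw τ w) := by
  rcases M.f_eq _ _ (M.f_word (M.f_mem w)) with e | e
  · rw [mapA, e]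
  · rw [mapA, e, tw_add, tw_oneC, M'.f_add, M'.f_one, mul_one]

theorem mapA_mul {a b : G} (ha : a ∈ AA D) (hb : b ∈ AA D) :
    mapA M M' τ (a * b) = mapA M M' τ a * mapA M M' τ b := by
  obtain ⟨v, rfl⟩ := M.f_surj a ha
  obtain ⟨w, rfl⟩ := M.f_surj b hb
  rw [← M.f_add, mapA_f, mapA_f, mapA_f, tw_add, M'.f_add]

theorem mapA_conj {a : G} (ha : a ∈ AA D) (n : ↥(NN D)) (n' : ↥(NN D'))
    (h : M'.psi n' = τ * M.psi n * τ⁻¹) :
    mapA M M' τ ((n : G) * a * (n : G)⁻¹) = (n' : G') * mapA M M' τ a * (n' : G')⁻¹ := by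
  obtain ⟨w, rfl⟩ := M.f_surj a ha
  rw [M.conj_f, mapA_f, mapA_f, M'.conj_f, h, ← tw_mul, ← tw_mul]
  congr 2
  group

theorem mapA_mapA {a : G} (ha : a ∈ AA D) : mapA M' M τ⁻¹ (mapA M M' τ a) = a := by
  obtain ⟨w, rfl⟩ := M.f_surj a ha
  rw [mapA_f, mapA_f, ← tw_mul, inv_mul_cancel, tw_one]

/-- The part of an element in the abelian subgroup. -/
def aPart (n : ↥(NN D)) : G := (n : G) * ((M.sec (M.psi n) : ↥(NN D)) : G)⁻¹

theorem aPart_mem (n : ↥(NN D)) : M.aPart n ∈ AA D := by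
  show ((n * (M.sec (M.psi n))⁻¹ : ↥(NN D)) : G) ∈ AA D
  rw [← M.ker, map_mul, map_inv, M.psi_sec, mul_inv_cancel]

theorem aPart_mul_sec (n : ↥(NN D)) : M.aPart n * (M.sec (M.psi n) : G) = (n : G) :=
  inv_mul_cancel_right _ _

theorem aPart_mul (n m : ↥(NN D)) : M.aPart (n * m) =
    M.aPart n * ((M.sec (M.psi n) : G) * M.aPart m * (M.sec (M.psi n) : G)⁻¹) := by
  simp only [aPart, map_mul, Subgroup.coe_mul, mul_inv_rev]
  group

/-- The image of an element of the normalizer. -/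
noncomputable def mapN (n : ↥(NN D)) : ↥(NN D') :=
  ⟨mapA M M' τ (M.aPart n), Subgroup.le_normalizer (mapA_mem M M' τ _)⟩ *
    M'.sec (τ * M.psi n * τ⁻¹)

theorem coe_mapN (n : ↥(NN D)) :
    (mapN M M' τ n : G') = mapA M M' τ (M.aPart n) * (M'.sec (τ * M.psi n * τ⁻¹) : G') := rfl

theorem psi_mapN (n : ↥(NN D)) : M'.psi (mapN M M' τ n) = τ * M.psi n * τ⁻¹ := by
  rw [mapN, map_mul, (M'.ker _).2 (mapA_mem M M' τ _), M'.psi_sec, one_mul]

theorem mapN_mul (n m : ↥(NN D)) : mapN M M' τ (n * m) = mapN M M' τ n * mapN M M' τ m := by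
  refine Subtype.ext ?_
  have hc : (M.sec (M.psi n) : G) * M.aPart m * (M.sec (M.psi n) : G)⁻¹ ∈ AA D :=
    (Subgroup.mem_normalizer_iff.1 (M.sec (M.psi n)).2 _).1 (M.aPart_mem m)
  rw [Subgroup.coe_mul, coe_mapN, coe_mapN, coe_mapN, M.aPart_mul, mapA_mul M M' τ (M.aPart_mem n) hc,
    mapA_conj M M' τ (M.aPart_mem m) (M.sec (M.psi n)) (M'.sec (τ * M.psi n * τ⁻¹))
      (by rw [M'.psi_sec, M.psi_sec]),
    show τ * M.psi (n * m) * τ⁻¹ = τ * M.psi n * τ⁻¹ * (τ * M.psi m * τ⁻¹) by rw [map_mul]; group,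
    map_mul M'.sec (τ * M.psi n * τ⁻¹) (τ * M.psi m * τ⁻¹), Subgroup.coe_mul]
  generalize (M'.sec (τ * M.psi n * τ⁻¹) : G') = s
  generalize (M'.sec (τ * M.psi m * τ⁻¹) : G') = t
  group

theorem mapN_mapN (n : ↥(NN D)) : mapN M' M τ⁻¹ (mapN M M' τ n) = n := by
  refine Subtype.ext ?_
  have h : M'.aPart (mapN M M' τ n) = mapA M M' τ (M.aPart n) := by
    rw [aPart, psi_mapN, coe_mapN, mul_inv_cancel_right]
  rw [coe_mapN, h, mapA_mapA M M' τ (M.aPart_mem n), psi_mapN,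
    show τ⁻¹ * (τ * M.psi n * τ⁻¹) * τ⁻¹⁻¹ = M.psi n by group, M.aPart_mul_sec]

/-- The isomorphism of the two normalizers over a permutation. -/
noncomputable def normEquiv : ↥(NN D) ≃* ↥(NN D') where
  toFun := mapN M M' τ
  invFun := mapN M' M τ⁻¹
  left_inv := mapN_mapN M M' τ
  right_inv n := by
    have h := mapN_mapN M' M τ⁻¹ n
    rwa [inv_inv] at h
  map_mul' := mapN_mul M M' τ

theorem normEquiv_mem (n : ↥(NN D)) : (normEquiv M M' τ n : G') ∈ AA D' ↔ (n : G) ∈ AA D := by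
  rw [← M.ker, ← M'.ker]
  show M'.psi (mapN M M' τ n) = 1 ↔ _
  rw [psi_mapN, conj_eq_one_iff]

theorem normEquiv_A (n : ↥(NN D)) (h : (n : G) ∈ AA D) :
    (normEquiv M M' τ n : G') = mapA M M' τ (n : G) := by
  show (mapN M M' τ n : G') = _
  have h1 := (M.ker n).2 h
  rw [coe_mapN, aPart, h1, map_one, mul_one, mul_inv_cancel, map_one, Subgroup.coe_one, Subgroup.coe_one,
    inv_one, mul_one, mul_one]

include M M' in
theorem exists_normEquiv : ∃ φ : ↥(NN D) ≃* ↥(NN D'),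
    (∀ n, (φ n : G') ∈ AA D' ↔ (n : G) ∈ AA D) ∧
      ∀ n, (φ n : G') = D'.z ↔ (n : G) = D.z := by
  obtain ⟨w, hw, ho⟩ := M.z_oct
  obtain ⟨w', hw', ho'⟩ := M'.z_oct
  obtain ⟨γ, hγ, e⟩ := M24_octad_transitive ho ho'
  have ht : tw ⟨γ, hγ⟩ w = w' := Subtype.ext (support₂_injective (by
    show support₂ (actW γ (w : GolayPt → ZMod 2)) = _
    rw [support₂_actW, e]))
  refine ⟨normEquiv M M' ⟨γ, hγ⟩, normEquiv_mem M M' _, fun n => ?_⟩
  have hzA : D.z ∈ AA D := hw ▸ M.f_mem w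
  let zn : ↥(NN D) := ⟨D.z, Subgroup.le_normalizer hzA⟩
  have hz : (normEquiv M M' ⟨γ, hγ⟩ zn : G') = D'.z := by
    rw [normEquiv_A M M' _ zn hzA]
    show mapA M M' _ D.z = _
    rw [← hw, mapA_f, ht, hw']
  constructor
  · intro h
    have h' : normEquiv M M' ⟨γ, hγ⟩ n = normEquiv M M' ⟨γ, hγ⟩ zn := Subtype.ext (h.trans hz.symm)
    exact congrArg Subtype.val ((normEquiv M M' ⟨γ, hγ⟩).injective h')
  · intro h
    rw [show n = zn from Subtype.ext h, hz]

end NormModel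

end Cfsg.Lib.CoOneUniq
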