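import Cfsg.Agent.Lib.CoOneLocal.Main

/-!
# The normalizer of the large abelian subgroup as a split extension by the Mathieu group

The abelian subgroup is the Golay code modulo the all-ones word, the central involution an octad,
and the action of a complement is the permutation action.
-/

set_option autoImplicit false
set_option linter.style.haveILetI false
set_option linter.unusedSectionVars false

namespace Cfsg.Lib.CoOneUniq

open Cfsg Module Cfsg.Lib.Extra.Wide Cfsg.Lib.Concrete Cfsg.Lib.H3.Golay Cfsg.Lib.Golay.Duads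
open Cfsg.Lib.CoOneLocal
open scoped Matrix Pointwise

variable {G : Type*} [Group G]

/-- The normalizer of the abelian subgroup of the data. -/
abbrev NN (D : Data G I8) : Subgroup G := Subgroup.normalizer (AA D : Set G)

/-- The normalizer read as a split extension of the code modulo the all-ones word. -/
structure NormModel (D : Data G I8) where
  /-- The element of a code word. -/
  f : golayCode → G
  /-- The permutation of an element of the normalizer. -/
  psi : ↥(NN D) →* ↥Cfsg.M24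
  /-- The complement. -/
  sec : ↥Cfsg.M24 →* ↥(NN D)
  f_mem : ∀ w, f w ∈ AA D
  f_surj : ∀ a ∈ AA D, ∃ w, f w = a
  f_add : ∀ v w, f (v + w) = f v * f w
  f_one : f oneC = 1
  f_eq : ∀ v w, f v = f w → v = w ∨ v = w + oneC
  psi_sec : ∀ σ, psi (sec σ) = σ
  ker : ∀ n : ↥(NN D), psi n = 1 ↔ (n : G) ∈ AA D
  equiv : ∀ (n : ↥(NN D)) (w w' : golayCode),
    (w' : GolayPt → ZMod 2) = actW (psi n : Equiv.Perm GolayPt) (w : GolayPt → ZMod 2) →
      f w' = n * f w * (n : G)⁻¹
  z_oct : ∃ w : golayCode, f w = D.z ∧ support₂ (w : GolayPt → ZMod 2) ∈ octads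

variable [Finite G] {D : Data G I8}

theorem exists_normModel (hq : D.qf = Cfsg.quadFormPlus 4 (ZMod 2))
    (hab : ∀ g ∈ AA D, ∀ h ∈ AA D, Commute g h) : Nonempty (NormModel D) := by
  classical
  obtain ⟨S⟩ := exists_setup D hq hab
  obtain ⟨i, g, hg, horb, hdvd, K, hK⟩ := S.exists_structure
  choose σ hσ using fun n : ↥(NN D) => S.exists_rel i hg horb n.2
  let ψ : ↥(NN D) →* ↥Cfsg.M24 :=
    { toFun := fun n => ⟨σ n, (hσ n).1⟩
      map_one' := Subtype.ext (S.rel_unique i (hσ 1) (S.rel_one i))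
      map_mul' := fun a b => Subtype.ext (S.rel_unique i (hσ (a * b)) (S.rel_mul i (hσ a) (hσ b))) }
  have hker : ∀ n : ↥(NN D), ψ n = 1 ↔ (n : G) ∈ AA D := fun n => by
    constructor
    · intro h
      have h1 : σ n = 1 := congrArg Subtype.val h
      rw [← S.F.centralizer_AA]
      refine Subgroup.mem_centralizer_iff.2 fun a ha => ?_
      obtain ⟨m, hm, rfl⟩ := S.F.phi_surj ha
      have h2 := (hσ n).2 (wordC (secc i m)) (wordC (secc i m)) (by rw [h1]; rfl)
      rw [(S.gimg_sec i hm).2] at h2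
      exact (eq_mul_inv_iff_mul_eq.1 h2)
    · intro h
      refine Subtype.ext (S.rel_unique i (hσ n) ⟨one_mem _, fun w w' e => ?_⟩)
      rw [show w' = w from Subtype.ext e, (S.F.abel _ h _ (S.gimg_mem i w)).eq, mul_inv_cancel_right]
  obtain ⟨hnor, ⟨e⟩, -⟩ := S.exists_mathieu i hg horb hdvd
  have hKc : Nat.card ↥K = Nat.card ↥Cfsg.M24 := by
    have h1 := hK.card_mul_card
    have h2 := Subgroup.card_eq_card_quotient_mul_card_subgroup ((AA D).subgroupOf (NN D))
    rw [Nat.card_congr e.toEquiv] at h2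
    rw [h2, mul_comm (Nat.card ↥Cfsg.M24)] at h1
    exact Nat.eq_of_mul_eq_mul_left Nat.card_pos h1
  let ψK : ↥K →* ↥Cfsg.M24 := ψ.comp K.subtype
  have hinj : Function.Injective ψK := (injective_iff_map_eq_one ψK).2 fun k hk => by
    have hk' : (k : ↥(NN D)) ∈ (AA D).subgroupOf (NN D) := (hker _).1 hk
    have h := hK.disjoint.le_bot (Subgroup.mem_inf.2 ⟨hk', k.2⟩)
    exact Subtype.ext h
  have hbij : Function.Bijective ψK :=
    (Nat.bijective_iff_injective_and_card ψK).2 ⟨hinj, hKc⟩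
  let eK : ↥K ≃* ↥Cfsg.M24 := MulEquiv.ofBijective ψK hbij
  obtain ⟨hlt, he1⟩ := S.gimg_sec i (show 1 < 2048 by norm_num)
  rw [S.F.phi_one] at he1
  have hpm : pim i (secc i 1) = 1 := by
    refine S.F.phi_inj (S.pim_lt i _) (by norm_num) ?_
    rw [S.F.phi_one, ← he1, Setup.gimg, cOf_wordC hlt]
  have hz1 : incand (cases.getD i.val (0, 0)).2 (pim i (secc i 1)) = true := by
    rw [hpm, ← hg]
    exact (horb 1 (by norm_num)).1 ⟨1, one_mem _, by rw [S.F.phi_one]; simp⟩
  refine ⟨⟨S.gimg i, ψ, K.subtype.comp eK.symm.toMonoidHom, S.gimg_mem i, fun a ha => ?_, S.gimg_add i,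
    S.gimg_one i, fun v w h => S.gimg_eq i h, fun τ => eK.apply_symm_apply τ, hker,
    fun n w w' h => (hσ n).2 w w' h, ?_⟩⟩
  · obtain ⟨m, hm, rfl⟩ := S.F.phi_surj ha
    exact ⟨_, (S.gimg_sec i hm).2⟩
  · rcases (pim_weight i (secc i 1) (List.mem_range.2 hlt) (by rw [hpm]; exact one_ne_zero)).1 hz1
      with h8 | h8
    · exact ⟨wordC (secc i 1), he1, ⟨⟨_, (wordC _).2, rfl⟩, by rw [card_support, cOf_wordC hlt, h8]⟩⟩
    · refine ⟨wordC (secc i 1) + oneC, by rw [S.gimg_add, he1, S.gimg_one, mul_one],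
        ⟨⟨_, (wordC _ + oneC).2, rfl⟩, ?_⟩⟩
      rw [card_support, cOf_add, cOf_one, cOf_wordC hlt, h8]

end Cfsg.Lib.CoOneUniq
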