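import Cfsg.Agent.Lib.Extra.Wide.Class
import Cfsg.Agent.Lib.Extra.Wide.Cross
import Cfsg.Agent.Lib.Linear.OrthFixPoint

/-!
# Transport of the conjugation action on the extraspecial subgroup

An isomorphism of the extraspecial subgroups of two involution centralizers carries every
conjugation by one centralizer to a conjugation by the other.
-/

set_option autoImplicit false
set_option linter.style.haveILetI false
set_option linter.unusedSectionVars false

namespace Cfsg.Lib.Extra.CoOneUniq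

open Cfsg Module Cfsg.Lib.Linear.Orth Cfsg.Lib.Extra.Wide
open scoped Matrix

variable {G H : Type*} [Group G] [Group H] {ι : Type} [Fintype ι] [DecidableEq ι]
  (D : Data G ι) (E : Data H ι)

theorem conj_mem_Q {c a : G} (hc : Commute c D.z) (ha : a ∈ D.Q) : c * a * c⁻¹ ∈ D.Q :=
  (Subgroup.mem_normalizer_iff.1 (D.ctx.norm c hc) a).1 ha

/-- An automorphism of `Q` trivial on the classes is inner. -/
theorem exists_inner (g : ↥E.Q →* H) (hgQ : ∀ a, g a ∈ E.Q)
    (hgz : g ⟨E.z, E.ctx.mem⟩ = E.z) (hcls : ∀ a : ↥E.Q, E.cls (g a) = E.cls (a : H)) :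
    ∃ w ∈ E.Q, ∀ a : ↥E.Q, g a = w * (a : H) * w⁻¹ := by
  classical
  choose L hLQ hLc using E.cls_surj
  have hi : ∀ i j : ZMod 2, ∀ a : H, pick E.z i * a = pick E.z j * a → i = j := fun i j a e => by
    have e' := mul_right_cancel e
    rcases bit i with rfl | rfl <;> rcases bit j with rfl | rfl <;>
      simp only [pick_zero, pick_one] at e' <;>
      first | rfl | exact absurd e'.symm E.ctx.ne_one | exact absurd e' E.ctx.ne_one
  have hg : ∀ a : ↥E.Q, g a = (a : H) ∨ g a = E.z * (a : H) := fun a =>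
    E.cls_eq a.2 (hgQ a) (hcls a).symm
  have hex : ∀ v, ∃ i, g ⟨L v, hLQ v⟩ = pick E.z i * L v := fun v =>
    (hg ⟨L v, hLQ v⟩).elim (fun e => ⟨0, by rw [e]; simp⟩) (fun e => ⟨1, by rw [e]; simp⟩)
  choose φ hφ using hex
  have hzc : ∀ a ∈ E.Q, ∀ i, Commute (pick E.z i) a := fun a ha i => pick_comm (E.ctx.central a ha) i
  have hgzmul : ∀ a : ↥E.Q, g (⟨E.z, E.ctx.mem⟩ * a) = E.z * g a := fun a => by rw [map_mul, hgz]
  have hadd : ∀ v w, φ (v + w) = φ v + φ w := fun v w => by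
    refine hi _ _ (L v * L w) ?_
    have key : g (⟨L v, hLQ v⟩ * ⟨L w, hLQ w⟩) = pick E.z (φ v + φ w) * (L v * L w) := by
      rw [map_mul, hφ, hφ, ← pick_add E.ctx.sq_z, mul_assoc, ← mul_assoc (L v),
        ← (hzc _ (hLQ v) _).eq]
      simp only [mul_assoc]
    rw [← key]
    rcases E.cls_eq (hLQ (v + w)) (mul_mem (hLQ v) (hLQ w))
      (by rw [E.cls_mul _ (hLQ v) _ (hLQ w), hLc, hLc, hLc]) with e | e
    · rw [show (⟨L v, hLQ v⟩ * ⟨L w, hLQ w⟩ : ↥E.Q) = ⟨L (v + w), hLQ _⟩ from Subtype.ext e, hφ, e]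
    · rw [show (⟨L v, hLQ v⟩ * ⟨L w, hLQ w⟩ : ↥E.Q) = ⟨E.z, E.ctx.mem⟩ * ⟨L (v + w), hLQ _⟩ from
        Subtype.ext e, hgzmul, hφ, e, ← mul_assoc, ← mul_assoc, (pick_comm (Commute.refl E.z) _).eq]
  let Φ : (ι → ZMod 2) →ₗ[ZMod 2] ZMod 2 :=
    { toFun := φ
      map_add' := hadd
      map_smul' := fun r v => by
        rcases bit r with rfl | rfl
        · have h := hadd 0 0
          rw [add_zero] at h
          simp [left_eq_add.1 h]
        · simp }
  obtain ⟨w, hw⟩ := (LinearMap.BilinForm.toDual E.B (nondegenerate E.space)).surjective Φ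
  refine ⟨L w, hLQ w, ?_⟩
  have hall : ∀ v, g ⟨L v, hLQ v⟩ = L w * L v * (L w)⁻¹ := fun v => by
    rw [hφ, show φ v = E.B w v from (LinearMap.congr_fun hw v).symm]
    rcases E.q_conj (hLQ w) (hLQ v) with e | e
    · have h0 := (E.cls_comm _ (hLQ w) _ (hLQ v)).1 (mul_inv_eq_iff_eq_mul.1 e)
      rw [hLc, hLc] at h0
      rw [h0, pick_zero, one_mul, e]
    · have h0 := e.1
      rw [hLc, hLc] at h0
      rw [h0, pick_one, e.2]
  intro a
  rcases E.cls_eq (hLQ (E.cls a)) a.2 (hLc _) with e | e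
  · have := hall (E.cls a)
    rwa [show (⟨L (E.cls a), hLQ _⟩ : ↥E.Q) = a from Subtype.ext e.symm, ← e] at this
  · rw [show a = ⟨E.z, E.ctx.mem⟩ * ⟨L (E.cls a), hLQ _⟩ from Subtype.ext e, hgzmul, hall,
      Subgroup.coe_mul, show L w * (E.z * L (E.cls a)) * (L w)⁻¹ =
        L w * E.z * (L w)⁻¹ * (L w * L (E.cls a) * (L w)⁻¹) by group,
      (E.ctx.central _ (hLQ w)).symm.eq, mul_inv_cancel_right]

/-- An isometry between two forms carries the small orthogonal group. -/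
theorem omega_conj {q q' : (ι → ZMod 2) → ZMod 2} (T : GL ι (ZMod 2))
    (hT : ∀ v, q' (T.val *ᵥ v) = q v) {g : GL ι (ZMod 2)} (hg : g ∈ Cfsg.Geo.omegaGL q) :
    T * g * T⁻¹ ∈ Cfsg.Geo.omegaGL q' := by
  have hmem : ∀ {a}, a ∈ isometryGroup (ZMod 2) q → T * a * T⁻¹ ∈ isometryGroup (ZMod 2) q' := by
    intro a ha
    refine mem_iso.2 fun v => ?_
    rw [mul_act, mul_act, hT, mem_iso.1 ha, ← hT, act_inv]
  let F : ↥(isometryGroup (ZMod 2) q) →* ↥(isometryGroup (ZMod 2) q') :=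
    MonoidHom.mk' (fun a => ⟨T * a.1 * T⁻¹, hmem a.2⟩) fun a b => Subtype.ext (by
      show T * (a.1 * b.1) * T⁻¹ = T * a.1 * T⁻¹ * (T * b.1 * T⁻¹)
      group)
  obtain ⟨a, ha, rfl⟩ := hg
  refine ⟨F a, ?_, rfl⟩
  have h1 : F a ∈ (Cfsg.Omega (ZMod 2) q).map F := Subgroup.mem_map_of_mem F ha
  rw [Cfsg.Omega, commutator_def, Subgroup.map_commutator] at h1
  exact Subgroup.commutator_mono le_top le_top h1

/-- The linear map of an isomorphism of the extraspecial subgroups. -/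
theorem exists_lin (f : ↥D.Q →* H) (hf : Function.Injective f) (hfQ : f.range = E.Q) :
    f ⟨D.z, D.ctx.mem⟩ = E.z ∧
    ∃ T : GL ι (ZMod 2), (∀ v, E.qf (T.val *ᵥ v) = D.qf v) ∧
      ∀ a : ↥D.Q, E.cls (f a) = T.val *ᵥ D.cls (a : G) := by
  classical
  have hmem : ∀ a, f a ∈ E.Q := fun a => hfQ ▸ ⟨a, rfl⟩
  have hsurj : ∀ b ∈ E.Q, ∃ a, f a = b := fun b hb => by rw [← hfQ] at hb; exact hb
  have hz : f ⟨D.z, D.ctx.mem⟩ = E.z := by
    refine (E.ctx.cent _ fun b hb => ?_).resolve_left fun e => D.ctx.ne_one ?_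
    · obtain ⟨a, rfl⟩ := hsurj b hb
      exact (show Commute (⟨D.z, D.ctx.mem⟩ : ↥D.Q) a from Subtype.ext (D.ctx.central a a.2).eq).map f
    · exact congrArg Subtype.val (hf (e.trans (map_one f).symm))
  refine ⟨hz, ?_⟩
  choose L hLQ hLc using D.cls_surj
  let t : (ι → ZMod 2) → (ι → ZMod 2) := fun v => E.cls (f ⟨L v, hLQ v⟩)
  have ht : ∀ a : ↥D.Q, E.cls (f a) = t (D.cls (a : G)) := fun a => by
    rcases D.cls_eq (hLQ _) a.2 (hLc (D.cls (a : G))) with e | e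
    · exact congrArg (fun b => E.cls (f b)) (Subtype.ext e)
    · have h1 : f a = E.z * f ⟨L (D.cls (a : G)), hLQ _⟩ := by
        rw [← hz, ← map_mul]
        exact congrArg f (Subtype.ext e)
      rw [h1, E.cls_mul _ E.ctx.mem _ (hmem _), E.cls_z, zero_add]
  have hadd : ∀ v w, t (v + w) = t v + t w := fun v w => by
    have h := ht (⟨L v, hLQ v⟩ * ⟨L w, hLQ w⟩)
    rw [map_mul, E.cls_mul _ (hmem _) _ (hmem _), Subgroup.coe_mul, D.cls_mul _ (hLQ v) _ (hLQ w),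
      hLc, hLc] at h
    exact h.symm
  let tl : (ι → ZMod 2) →ₗ[ZMod 2] (ι → ZMod 2) :=
    { toFun := t
      map_add' := hadd
      map_smul' := fun r v => by
        rcases bit r with rfl | rfl
        · have h := hadd 0 0
          rw [add_zero] at h
          simp [left_eq_add.1 h]
        · simp }
  have hinj : Function.Injective tl := by
    rw [← LinearMap.ker_eq_bot, LinearMap.ker_eq_bot']
    intro v hv
    rcases (E.cls_ker _ (hmem _)).1 hv with e | e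
    · rw [← hLc v, show L v = 1 from congrArg Subtype.val (hf (e.trans (map_one f).symm)), D.cls_one]
    · rw [← hLc v, show L v = D.z from congrArg Subtype.val (hf (e.trans hz.symm)), D.cls_z]
  let e := LinearEquiv.ofBijective tl ⟨hinj, LinearMap.injective_iff_surjective.1 hinj⟩
  let Tm : GL ι (ZMod 2) ≃* ((ι → ZMod 2) ≃ₗ[ZMod 2] (ι → ZMod 2)) :=
    Matrix.GeneralLinearGroup.toLin.trans
      (LinearMap.GeneralLinearGroup.generalLinearEquiv (ZMod 2) (ι → ZMod 2))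
  have hTm : ∀ g v, Tm g v = g.val *ᵥ v := fun g v => rfl
  have hval : ∀ v, (Tm.symm e).val *ᵥ v = t v := fun v => by
    rw [← hTm, Tm.apply_symm_apply]; rfl
  refine ⟨Tm.symm e, fun v => ?_, fun a => by rw [hval, ht]⟩
  rw [hval]
  have hiff : E.qf (t v) = 0 ↔ D.qf v = 0 := by
    conv_rhs => rw [← hLc v, ← D.cls_sq _ (hLQ v)]
    rw [← E.cls_sq _ (hmem _), ← map_mul, ← map_one f, hf.eq_iff]
    exact ⟨fun h => congrArg Subtype.val h, fun h => Subtype.ext h⟩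
  rcases bit (D.qf v) with e' | e'
  · rw [e']; exact hiff.2 e'
  · rcases bit (E.qf (t v)) with e'' | e''
    · rw [hiff.1 e''] at e'; exact absurd e' zero_ne_one
    · rw [e', e'']

/-- Transport of a conjugation. -/
theorem exists_partner (f : ↥D.Q →* H) (hf : Function.Injective f) (hfQ : f.range = E.Q) {c : G}
    (hc : Commute c D.z) :
    ∃ c' : H, Commute c' E.z ∧
      ∀ a : ↥D.Q, f ⟨c * a * c⁻¹, conj_mem_Q D hc a.2⟩ = c' * f a * c'⁻¹ := by
  classical
  obtain ⟨hz, T, hTq, hT⟩ := exists_lin D E f hf hfQ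
  have hmem : ∀ a, f a ∈ E.Q := fun a => hfQ ▸ ⟨a, rfl⟩
  have hsurj : ∀ b : ↥E.Q, ∃ a, f a = b := fun b => by
    obtain ⟨b, hb⟩ := b; rw [← hfQ] at hb; exact hb
  obtain ⟨d, hd, hde⟩ := E.act_surj _ (omega_conj T hTq (D.act_mem c hc))
  choose inv hinv using hsurj
  have hinv_mul : ∀ a b, inv (a * b) = inv a * inv b := fun a b => hf (by
    rw [map_mul, hinv, hinv, hinv]; rfl)
  let κ : ↥D.Q →* ↥D.Q :=
    MonoidHom.mk' (fun a => ⟨c * a * c⁻¹, conj_mem_Q D hc a.2⟩) fun a b => Subtype.ext (by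
      show c * ((a : G) * b) * c⁻¹ = c * a * c⁻¹ * (c * b * c⁻¹)
      group)
  let g : ↥E.Q →* H :=
    ((MulAut.conj d⁻¹).toMonoidHom.comp f).comp (κ.comp (MonoidHom.mk' inv hinv_mul))
  have hg : ∀ a, g a = d⁻¹ * f (κ (inv a)) * d := fun a => by
    show d⁻¹ * _ * d⁻¹⁻¹ = _
    rw [inv_inv]; rfl
  have hdQ : ∀ {x}, x ∈ E.Q → d⁻¹ * x * d ∈ E.Q := fun {x} hx => by
    simpa using conj_mem_Q E hd.inv_left hx
  obtain ⟨w, hw, hwg⟩ := exists_inner E g (fun a => by rw [hg]; exact hdQ (hmem _)) (by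
      rw [hg, show inv ⟨E.z, E.ctx.mem⟩ = ⟨D.z, D.ctx.mem⟩ from hf (by rw [hinv, hz]),
        show κ ⟨D.z, D.ctx.mem⟩ = ⟨D.z, D.ctx.mem⟩ from
          Subtype.ext (show c * D.z * c⁻¹ = D.z by rw [hc.eq, mul_inv_cancel_right]),
        hz, hd.inv_left.eq, inv_mul_cancel_right]) (fun a => by
      have e := E.act_cls _ hd.inv_left (f (κ (inv a))) (hmem _)
      rw [inv_inv] at e
      rw [hg, e, E.act_inv hd, hde, hT]
      have e2 : D.cls ((κ (inv a) : ↥D.Q) : G) = (D.act c).val *ᵥ D.cls (inv a : G) :=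
        D.act_cls c hc _ (inv a).2
      rw [e2, mul_inv_rev, mul_inv_rev, inv_inv, ← mul_assoc, mul_act, mul_act, inv_act, inv_act,
        ← hT, hinv])
  refine ⟨d * w, hd.mul_left (E.ctx.central w hw).symm, fun a => ?_⟩
  have h := hwg ⟨f a, hmem a⟩
  rw [hg, show inv ⟨f a, hmem a⟩ = a from hf (hinv _)] at h
  calc f ⟨c * a * c⁻¹, conj_mem_Q D hc a.2⟩ = d * (d⁻¹ * f (κ a) * d) * d⁻¹ := by
        rw [show κ a = ⟨c * a * c⁻¹, conj_mem_Q D hc a.2⟩ from rfl]; group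
    _ = d * w * f a * (d * w)⁻¹ := by rw [h]; group

end Cfsg.Lib.Extra.CoOneUniq
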